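import Cfsg.Agent.Lib.BN.Basic

/-!
A normal subgroup of a group with an irreducible BN-pair lies in `B` or supplements it.
-/

set_option autoImplicit false

namespace Cfsg.Agent.Lib.BN

open Cfsg

theorem normal_le_or_sup_eq_top {G : Type*} [Group G] (P : Cfsg.BNPair G) (hirr : P.Irreducible)
    {K : Subgroup G} (hK : K.Normal) : K ≤ P.B ∨ P.B ⊔ K = ⊤ := by
  have hBK : P.B ≤ P.B ⊔ K := le_sup_left
  set M := P.B ⊔ K with hM
  set J : Set G := P.S ∩ M with hJ
  have hMJ : M = P.parabolic J := overgroup_eq P hBK
  have hcomm : ∀ s ∈ J, ∀ r ∈ P.S \ J, s * r * s⁻¹ * r⁻¹ ∈ P.B := by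
    intro s hs r hr
    let w : P.S := ⟨s, hs.1⟩
    let v : P.S := ⟨r, hr.1⟩
    have hvw : v ≠ w := fun h => hr.2 (by
      have : r = s := congrArg Subtype.val h
      rw [this]; exact hs)
    have hsM : s ∈ M := hs.2
    rw [hM, sup_comm, Subgroup.mem_sup_of_normal_left] at hsM
    obtain ⟨k, hk, b, hb, hkb⟩ := hsM
    -- conjugate of an element of K lies in M
    have h1 : r * k * r⁻¹ ∈ P.parabolic J := by
      rw [← hMJ]
      exact Subgroup.mem_sup_right (hK.conj_mem k hk r)
    have hkeq : k = s * b⁻¹ := by rw [← hkb]; group
    obtain ⟨L, hL, hc⟩ := exists_word_of_mem_parabolic P Set.inter_subset_left h1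
    have hk' : k ∈ cell P (si P w) := by
      rw [hkeq]; exact mul_mem_cell_right P (inv_mem hb) (si_mem_cell P w)
    have hlen1 : len P (si P w) ≤ len P (si P v * si P w) := by
      have h0 : si P v * si P w ≠ 1 := fun h => hvw (si_injective P (by
        have := inv_eq_of_mul_eq_one_right h
        rwa [si_inv] at this))
      rw [len_si]
      by_contra hlt
      exact h0 (eq_one_of_len_eq_zero P (by omega))
    have h2 := step_up P hlen1 hk'
    have hrinv : r⁻¹ = r * (r * r)⁻¹ := by group
    have hrr : (r * r)⁻¹ ∈ P.B := inv_mem (P.sq_mem r hr.1)
    have hJv : ∀ L : List P.S, (∀ x ∈ L, (x : G) ∈ J) → si P v * si P w ≠ word P L := by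
      intro L hL he
      have hv : si P v = word P (L ++ [w]) := by
        rw [word_append, ← he]; simp [mul_assoc, si_mul_self]
      exact hr.2 (simple_mem_of_word P (J := {x : P.S | (x : G) ∈ J}) (L := L ++ [w]) (fun x hx => by
        rcases List.mem_append.1 hx with hx | hx
        · exact hL x hx
        · rw [List.mem_singleton.1 hx]; exact hs) hv.symm)
    rw [show r * k * r⁻¹ = (v : G) * k * v * (r * r)⁻¹ by simp [v, mul_assoc]] at hc
    have hvwv : si P v * si P w * si P v = word P L := by
      rcases step_right P v h2 with h | h
      · exact eq_of_mem_cells P (mul_mem_cell_right P hrr h) hc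
      · exact absurd (eq_of_mem_cells P (mul_mem_cell_right P hrr h) hc) (hJv L hL)
    -- reduced word in J for the conjugate
    obtain ⟨R, hR, hRl, hRw⟩ := exists_reduced_subset P (J := {x : P.S | (x : G) ∈ J}) L hL
    rw [← hvwv] at hRl hRw
    cases R with
    | nil =>
      exfalso
      simp at hRw
      have h' : si P v * si P w = si P v := by
        have := congrArg (· * si P v) hRw
        simpa [mul_assoc, si_mul_self] using this.symm
      exact si_ne_one P w (mul_eq_left.1 h')
    | cons x R =>
      have hxJ : (x : G) ∈ J := hR x (by simp)
      have hlen3 : len P (si P v * si P w * si P v) < 3 := by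
        by_contra h3
        let n : P.N := ⟨r, P.subset hr.1⟩ * ⟨s, P.subset hs.1⟩ * ⟨r, P.subset hr.1⟩
        have hn : cls P n = si P v * si P w * si P v := rfl
        have hlt : len P (si P v * cls P n) < len P (cls P n) := by
          rw [hn, ← mul_assoc, si_mul_cancel]
          have := len_word_le P [w, v]
          simp at this
          omega
        have hnM : (n : G) ∈ M := by
          refine exists_rep_mem P hBK (g := r * k * r⁻¹) ?_ ?_
          · exact Subgroup.mem_sup_right (hK.conj_mem k hk r)
          · rw [hn, hvwv, show r * k * r⁻¹ = (v : G) * k * v * (r * r)⁻¹ by simp [v, mul_assoc]]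
            exact hc
        exact hr.2 ⟨hr.1, simple_mem_of_len_lt P hBK
          (fun b hb => mul_mem (mul_mem hnM (hBK hb)) (inv_mem hnM)) hlt⟩
      have hRlen : R.length ≤ 1 := by simp at hRl; omega
      -- conjugate of an involution in W of length at most two
      rcases R with _ | ⟨y, R⟩
      · have hxw : si P x = si P v * si P w * si P v := by simpa using hRw
        have hxvw : si P x * si P v = si P v * si P w := by
          rw [hxw]; simp [mul_assoc, si_mul_self]
        have hlt : len P (si P x * word P [v, w]) < len P (word P [v, w]) := by
          have e1 : si P x * word P [v, w] = si P v := by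
            simp only [word_cons, word_nil, mul_one]
            rw [← hxvw, si_mul_cancel]
          rw [e1, len_si]
          simp only [word_cons, word_nil, mul_one]
          have h0 : si P v * si P w ≠ 1 := fun h => hvw (si_injective P (by
            have := inv_eq_of_mul_eq_one_right h
            rwa [si_inv] at this))
          rcases Nat.lt_or_ge 1 (len P (si P v * si P w)) with h | h
          · exact h
          · exfalso
            rcases Nat.le_one_iff_eq_zero_or_eq_one.1 h with h | h
            · exact h0 (eq_one_of_len_eq_zero P h)
            · exact len_si_mul_ne P v (si P w) (by rw [h, len_si])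
        -- the subgroup generated by v and w
        have hxin : x = v ∨ x = w := by
          exact simple_mem_of_word P (J := {z : P.S | z = v ∨ z = w}) (L := [v, w, v])
            (by intro z hz; simp at hz; tauto) (by simpa [mul_assoc] using hxw.symm)
        rcases hxin with rfl | rfl
        · exact absurd hxJ hr.2
        · have hb1 : si P w * si P v * (si P w)⁻¹ * (si P v)⁻¹ = 1 := by
            rw [hxvw, si_inv, si_inv]; simp [mul_assoc, si_mul_self]
          let ns : P.N := ⟨s, P.subset hs.1⟩
          let nr : P.N := ⟨r, P.subset hr.1⟩
          have hb2 : cls P (ns * nr * ns⁻¹ * nr⁻¹) = 1 := hb1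
          exact (cls_eq_one_iff P).1 hb2
      · exfalso
        have hR0 : R = [] := by simpa using hRlen
        subst hR0
        -- a product of two distinct letters which is a conjugate of an involution
        have hsq : (si P x * si P y) * (si P x * si P y) = 1 := by
          have hxy : si P x * si P y = si P v * si P w * si P v := by simpa using hRw
          rw [hxy]; simp [mul_assoc, si_mul_cancel, si_mul_self]
        have hxy : si P x * si P y = si P v * si P w * si P v := by simpa using hRw
        have hxyJ : (y : G) ∈ J := hR y (by simp)
        have hvx : si P v = si P w * si P v * (si P x * si P y) := by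
          rw [hxy]; simp [mul_assoc, si_mul_cancel, si_mul_self]
        have hlt : len P (si P v * word P [x, y]) < 3 := by
          have := len_word_le P [w, v]
          rw [show si P v * word P [x, y] = word P [w, v] by
            simp [hxy, mul_assoc, si_mul_cancel]]
          simp at this ⊢
          omega
        have hxy2 : len P (word P [x, y]) = 2 := by
          rw [hRw, ← hRl]; rfl
        rcases lt_or_gt_of_ne (len_si_mul_ne P v (word P [x, y])) with h | h
        · obtain ⟨i, hi, he⟩ := exchange P v [x, y] h
          refine hr.2 (simple_mem_of_word P (s := v) (J := {z : P.S | (z : G) ∈ J})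
            (L := [x, y].eraseIdx i ++ ([x, y] : List P.S).reverse) ?_ ?_)
          · intro z hz
            rcases List.mem_append.1 hz with hz | hz
            · have := List.mem_of_mem_eraseIdx hz
              simp at this
              rcases this with rfl | rfl
              exacts [hxJ, hxyJ]
            · simp at hz
              rcases hz with rfl | rfl
              exacts [hxyJ, hxJ]
          · rw [word_append, word_reverse, ← he, mul_inv_cancel_right]
        · omega
  rcases Set.eq_empty_or_nonempty J with hJe | hJne
  · refine Or.inl ?_
    rw [hJe, BNPair.parabolic, Subgroup.closure_empty, sup_bot_eq] at hMJ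
    exact hMJ ▸ le_sup_right
  · refine Or.inr ?_
    have hall : P.S \ J = ∅ := by
      by_contra hne
      obtain ⟨s, hs, r, hr, hsr⟩ :=
        hirr J Set.inter_subset_left hJne (Set.nonempty_iff_ne_empty.2 hne)
      exact hsr (hcomm s hs r hr)
    have h0 : J = P.S :=
      Set.Subset.antisymm Set.inter_subset_left (Set.sdiff_eq_empty.1 hall)
    rw [hMJ, h0, parabolic_S]

end Cfsg.Agent.Lib.BN
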