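import Cfsg.Agent.Lib.Chev.All
import Cfsg.Agent.Lib.Chev.Orders

/-!
The Chevalley group of type B2 over two elements permutes six pairs of vectors of the adjoint module.
-/

set_option autoImplicit false

namespace Cfsg.Agent.Lib.Chev.B2Six

open Cfsg.Lie Cfsg.Agent.Lib

/-- one vector of each pair, as codes -/
def sixCodes : List (List ℕ) := [[1, 4, 7], [1, 3, 4, 7], [1, 4, 7, 8], [1, 3, 7, 8], [1, 3, 4, 8], [1, 3, 8]]

/-- the permutations of the pairs -/
def sixImg : List (List ℕ) :=
  [[1, 0, 3, 2, 5, 4], [1, 0, 2, 3, 4, 5], [0, 1, 2, 3, 5, 4], [1, 0, 4, 5, 2, 3], [2, 3, 0, 1, 5, 4],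
    [0, 1, 2, 5, 4, 3], [2, 1, 0, 3, 4, 5], [2, 4, 0, 5, 1, 3]]

/-- the shifts inside the pairs -/
def sixShift : List (List ℕ) :=
  [[0, 0, 0, 0, 0, 0], [0, 0, 1, 1, 1, 1], [1, 1, 1, 1, 0, 0], [0, 0, 0, 0, 0, 0], [0, 0, 0, 0, 0, 0],
    [1, 1, 1, 0, 1, 0], [0, 1, 0, 1, 1, 1], [0, 0, 0, 0, 0, 0]]

/-- a list of codes as terms -/
def toTms (l : List ℕ) : List Tm := l.map fun b => ⟨b, 0, 0, 1⟩

/-- the vector number `i`, shifted `s` times by the fixed one -/
def target (i s : ℕ) : List Tm := toTms (sixCodes.getD i [] ++ if s = 1 then [0] else [])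

/-- the coefficient of a code -/
def coefSum (l : List Tm) (b : ℕ) : ℤ := (l.map fun q => if q.b = b then q.c else 0).sum

/-- equality modulo two -/
def parEq (v w : List Tm) : Bool :=
  (List.range 10).all fun b => decide ((coefSum v b - coefSum w b) % 2 = 0)

theorem six_valid : ∀ i : Fin 6, ∀ s : Fin 2, (target i.1 s.1).all fun q => Nat.blt q.b 10 := by decide +kernel

theorem six_images : ∀ r : Fin 8, ∀ i : Fin 6, parEq (B2.fast.evalW [⟨r.1, 1, 0, 0⟩] (target i.1 0))
    (target ((sixImg.getD r.1 []).getD i.1 0) ((sixShift.getD r.1 []).getD i.1 0)) = true := by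
  decide +kernel

theorem fixed_image : ∀ r : Fin 8, parEq (B2.fast.evalW [⟨r.1, 1, 0, 0⟩] (toTms [0])) (toTms [0]) = true := by
  decide +kernel

theorem six_distinct : ∀ i j : Fin 6, ∀ s : Fin 2, i ≠ j →
    parEq (target i.1 0) (target j.1 s.1) = false := by decide +kernel

theorem img_facts : ∀ r : Fin 8, ∀ i : Fin 6, (sixImg.getD r.1 []).getD i.1 0 < 6 ∧
    (sixShift.getD r.1 []).getD i.1 0 < 2 ∧
    (sixImg.getD r.1 []).getD ((sixImg.getD r.1 []).getD i.1 0) 0 = i.1 := by decide +kernel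

/-- the permutation of a root -/
def perm (r : Fin 8) : Equiv.Perm (Fin 6) where
  toFun i := ⟨(sixImg.getD r.1 []).getD i.1 0, (img_facts r i).1⟩
  invFun i := ⟨(sixImg.getD r.1 []).getD i.1 0, (img_facts r i).1⟩
  left_inv i := Fin.ext (img_facts r i).2.2
  right_inv i := Fin.ext (img_facts r i).2.2

variable (F : Type*) [Field F]

/-- a basis index from a code -/
noncomputable def idxOf (b : Fin 10) : chevB2.Idx :=
  if h : b.1 < 2 then Sum.inl ⟨b.1, h⟩ else Sum.inr ⟨b.1 - 2, show b.1 - 2 < 8 by omega⟩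

/-- the vector of a list of terms -/
noncomputable def vec (l : List Tm) : chevB2.Idx → F := tmsVal chevB2 (1 : F) 1 l

theorem vec_apply (l : List Tm) (h : ∀ q ∈ l, q.b < 10) (b : Fin 10) :
    vec F l (idxOf b) = ((coefSum l b.1 : ℤ) : F) := by
  induction l with
  | nil => simp [vec, coefSum]
  | cons q l ih =>
    rw [vec, tmsVal_cons, Pi.add_apply]
    rw [vec] at ih
    rw [ih fun x hx => h x (by simp [hx]), coefSum, coefSum, List.map_cons, List.sum_cons, Int.cast_add]
    congr 1
    have hq := h q (by simp)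
    have hr : chevB2.rank = 2 := rfl
    simp only [tmVal, one_pow, mul_one, Pi.smul_apply, smul_eq_mul, vecOf, idxOf, hr]
    by_cases h1 : q.b < 2 <;> by_cases h2 : b.1 < 2
    · rw [if_pos h1, dif_pos h2, bh_apply]
      simp only [Sum.elim_inl]
      rw [apply_ite (fun z : ℤ => (z : F)), Int.cast_zero, mul_ite, mul_one, mul_zero]
      exact if_congr eq_comm rfl rfl
    · rw [if_pos h1, dif_neg h2, bh_apply]
      simp [show q.b ≠ b.1 by omega]
    · rw [if_neg h1, dif_pos h2, bv_apply]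
      simp [show q.b ≠ b.1 by omega]
    · rw [if_neg h1, dif_neg h2, bv_apply]
      simp only [Sum.elim_inr]
      rw [apply_ite (fun z : ℤ => (z : F)), Int.cast_zero, mul_ite, mul_one, mul_zero]
      exact if_congr (by omega) rfl rfl

theorem idxOf_surj (a : chevB2.Idx) : ∃ b, idxOf b = a := by
  rcases a with j | u
  · have hj : j.1 < 2 := j.2
    exact ⟨⟨j.1, by omega⟩, by simp [idxOf, hj]⟩
  · have hu : u.1 < 8 := u.2
    refine ⟨⟨u.1 + 2, by omega⟩, ?_⟩
    simp [idxOf, show ¬ u.1 + 2 < 2 by omega]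

variable [CharP F 2]

theorem vec_eq_iff {v w : List Tm} (hv : ∀ q ∈ v, q.b < 10) (hw : ∀ q ∈ w, q.b < 10) :
    vec F v = vec F w ↔ parEq v w = true := by
  have key : ∀ b : Fin 10, vec F v (idxOf b) = vec F w (idxOf b) ↔ (coefSum v b.1 - coefSum w b.1) % 2 = 0 := by
    intro b
    rw [vec_apply F v hv, vec_apply F w hw, ← sub_eq_zero, ← Int.cast_sub, CharP.intCast_eq_zero_iff F 2]
    exact ⟨fun h => Int.emod_eq_zero_of_dvd (by exact_mod_cast h),
      fun h => by exact_mod_cast Int.dvd_of_emod_eq_zero h⟩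
  simp only [parEq, List.all_eq_true, List.mem_range, decide_eq_true_eq]
  refine ⟨fun h b hb => (key ⟨b, hb⟩).1 (congrFun h _), fun h => funext fun a => ?_⟩
  obtain ⟨b, rfl⟩ := idxOf_surj a
  exact (key b).2 (h b.1 b.2)

theorem target_valid (i : Fin 6) (s : Fin 2) : ∀ q ∈ target i.1 s.1, q.b < 10 := fun q hq => by
  have := six_valid i s
  rw [List.all_eq_true] at this
  simpa [Nat.blt_eq] using this q hq

/-- the fixed vector -/
noncomputable def base : chevB2.Idx → F := vec F (toTms [0])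

/-- the six vectors -/
noncomputable def six (i : Fin 6) : chevB2.Idx → F := vec F (target i.1 0)

theorem vec_append (a b : List ℕ) : vec F (toTms (a ++ b)) = vec F (toTms a) + vec F (toTms b) := by
  induction a with
  | nil => simp [vec, toTms]
  | cons x a ih =>
    simp only [vec, toTms, List.cons_append, List.map_cons, tmsVal_cons] at ih ⊢
    rw [ih, add_assoc]

theorem target_eq (j : Fin 6) (s : ℕ) : vec F (target j.1 s) = six F j + if s = 1 then base F else 0 := by
  by_cases hs : s = 1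
  · simp only [six, base, target, hs, if_true, vec_append, zero_ne_one, if_false]
    simp [vec, toTms]
  · simp [six, target, hs]

/-- `g` permutes the six pairs as `σ` does. -/
def Acts (g : GL chevB2.Idx F) (σ : Equiv.Perm (Fin 6)) : Prop :=
  (g : Matrix chevB2.Idx chevB2.Idx F).mulVec (base F) = base F ∧
    ∀ i, (g : Matrix chevB2.Idx chevB2.Idx F).mulVec (six F i) = six F (σ i) ∨
      (g : Matrix chevB2.Idx chevB2.Idx F).mulVec (six F i) = six F (σ i) + base F

variable {F}

theorem eq_of_sub {i j : Fin 6} (h : six F i = six F j ∨ six F i = six F j + base F) : i = j := by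
  by_contra hne
  rcases h with h | h
  · have := six_distinct i j 0 hne
    have e2 := (vec_eq_iff F (target_valid i 0) (target_valid j 0)).1 h
    exact Bool.false_ne_true (this.symm.trans e2)
  · have := six_distinct i j 1 hne
    have e : six F i = vec F (target j.1 1) := by rw [h, target_eq, if_pos rfl]
    exact Bool.false_ne_true (this.symm.trans ((vec_eq_iff F (target_valid i 0) (target_valid j 1)).1 e))

theorem two_eq_zero : base F + base F = 0 := by
  rw [← two_smul F (base F), show (2 : F) = 0 from CharTwo.two_eq_zero, zero_smul]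

theorem acts_unique {g : GL chevB2.Idx F} {σ τ : Equiv.Perm (Fin 6)} (h : Acts F g σ) (h' : Acts F g τ) :
    σ = τ := by
  refine Equiv.ext fun i => ?_
  refine eq_of_sub (F := F) ?_
  rcases h.2 i with e | e <;> rcases h'.2 i with e' | e' <;> rw [e] at e'
  · exact Or.inl e'
  · exact Or.inr e'
  · exact Or.inr (by rw [← e', add_assoc, two_eq_zero, add_zero])
  · exact Or.inl (add_right_cancel e')

theorem acts_one : Acts F (1 : GL chevB2.Idx F) 1 := ⟨by simp, fun i => Or.inl (by simp)⟩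

theorem acts_mul {g h : GL chevB2.Idx F} {σ τ : Equiv.Perm (Fin 6)} (hg : Acts F g σ) (hh : Acts F h τ) :
    Acts F (g * h) (σ * τ) := by
  refine ⟨by rw [Units.val_mul, ← Matrix.mulVec_mulVec, hh.1, hg.1], fun i => ?_⟩
  rw [Units.val_mul, ← Matrix.mulVec_mulVec]
  rcases hh.2 i with e | e <;> rcases hg.2 (τ i) with e' | e' <;> rw [e] <;>
    simp only [Matrix.mulVec_add, hg.1, e', Equiv.Perm.mul_apply]
  · exact Or.inl trivial
  · exact Or.inr trivial
  · exact Or.inr trivial
  · exact Or.inl (by rw [add_assoc, two_eq_zero, add_zero])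

theorem acts_inv {g : GL chevB2.Idx F} {σ : Equiv.Perm (Fin 6)} (hg : Acts F g σ) : Acts F g⁻¹ σ⁻¹ := by
  have inv_app : ∀ {x y : chevB2.Idx → F}, (g : Matrix chevB2.Idx chevB2.Idx F).mulVec x = y →
      ((g⁻¹ : GL chevB2.Idx F) : Matrix chevB2.Idx chevB2.Idx F).mulVec y = x := fun e => by
    rw [← e, Matrix.mulVec_mulVec, ← Units.val_mul, inv_mul_cancel, Units.val_one, Matrix.one_mulVec]
  refine ⟨inv_app hg.1, fun i => ?_⟩
  rcases hg.2 (σ⁻¹ i) with e | e <;> simp only [Equiv.Perm.inv_def, Equiv.apply_symm_apply] at e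
  · exact Or.inl (inv_app e)
  · right
    have := inv_app e
    rw [Matrix.mulVec_add, inv_app hg.1] at this
    rw [Equiv.Perm.inv_def, ← this, add_assoc, two_eq_zero, add_zero]

theorem acts_gen (r : Fin 8) {g : GL chevB2.Idx F}
    (hg : (g : Matrix chevB2.Idx chevB2.Idx F) = chevB2.x F r.1 1) : Acts F g (perm r) := by
  have happ : ∀ l : List Tm, (∀ q ∈ l, q.b < 10) →
      (g : Matrix chevB2.Idx chevB2.Idx F).mulVec (vec F l) = vec F (B2.fast.evalW [⟨r.1, 1, 0, 0⟩] l) ∧
        ∀ q ∈ B2.fast.evalW [⟨r.1, 1, 0, 0⟩] l, q.b < 10 := by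
    intro l hl
    have h := evalW_sound (F := F) 1 1 B2.checked.tables B2.checked.root [⟨r.1, 1, 0, 0⟩]
      (fun L hL => by rw [List.mem_singleton.1 hL]; exact r.2) l hl
    refine ⟨?_, h.1⟩
    rw [vec, vec, ← h.2, hg]
    congr 1
    simp [realize, wordMat_singleton]
  have hb : ∀ q ∈ toTms [0], q.b < 10 := by simp [toTms]
  refine ⟨?_, fun i => ?_⟩
  · obtain ⟨e, hv⟩ := happ _ hb
    rw [base, e]
    exact (vec_eq_iff F hv hb).2 (fixed_image r)
  · obtain ⟨e, hv⟩ := happ _ (target_valid i 0)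
    obtain ⟨h1, h2, -⟩ := img_facts r i
    have := (vec_eq_iff F hv (target_valid ⟨_, h1⟩ ⟨_, h2⟩)).2 (six_images r i)
    rw [show six F i = vec F (target i.1 ((0 : Fin 2) : ℕ)) from rfl, e, this, target_eq]
    by_cases hs : (sixShift.getD r.1 []).getD i.1 0 = 1
    · rw [if_pos hs]; exact Or.inr rfl
    · rw [if_neg hs, add_zero]; exact Or.inl rfl

variable (F) in
theorem exists_acts [Fintype F] (hF : Fintype.card F = 2) {g : GL chevB2.Idx F} (hg : g ∈ chevB2.group F) :
    ∃ σ, Acts F g σ := by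
  classical
  induction hg using Subgroup.closure_induction with
  | mem x hx =>
    obtain ⟨r, t, e⟩ := hx
    have ht : t = 0 ∨ t = 1 := by
      by_contra h
      push Not at h
      have : ({0, 1, t} : Finset F).card = 3 := by simp [h.1.symm, h.2.symm]
      have := Finset.card_le_univ ({0, 1, t} : Finset F)
      omega
    rcases ht with rfl | rfl
    · have h1 : x = 1 := by
        refine Units.ext ?_
        rw [e, ← x_eq_xMat r.2, ← B2.checked.val_xg, B2.checked.xg_zero]
      exact ⟨1, h1 ▸ acts_one⟩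
    · exact ⟨_, acts_gen ⟨r.1, r.2⟩ (by rw [e, ← x_eq_xMat r.2])⟩
  | one => exact ⟨1, acts_one⟩
  | mul x y _ _ hx hy =>
    obtain ⟨σ, hσ⟩ := hx
    obtain ⟨τ, hτ⟩ := hy
    exact ⟨_, acts_mul hσ hτ⟩
  | inv x _ hx =>
    obtain ⟨σ, hσ⟩ := hx
    exact ⟨_, acts_inv hσ⟩

theorem perm_facts : perm 1 = Equiv.swap 0 1 ∧ perm 6 * perm 0 * perm 5 = finRotate 6 := by
  constructor <;> decide +kernel

/-- B₂(2) is the symmetric group of degree six. -/
theorem equiv_sym_six {F : Type*} [Field F] [Fintype F] (hF : Fintype.card F = 2) :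
    Nonempty (↥(chevB2.group F) ≃* Equiv.Perm (Fin 6)) := by
  classical
  haveI : CharP F 2 := charP_of_card_eq_prime hF
  choose f hf using fun g : ↥(chevB2.group F) => exists_acts F hF g.2
  let φ : ↥(chevB2.group F) →* Equiv.Perm (Fin 6) :=
    MonoidHom.mk' f fun a b => acts_unique (hf (a * b)) (acts_mul (hf a) (hf b))
  have hr : ∀ r : Fin 8, perm r ∈ φ.range := fun r =>
    ⟨⟨B2.checked.xg r.1 1, B2.checked.xg_mem_group r.2 1⟩,
      acts_unique (hf _) (acts_gen r (B2.checked.val_xg _ _))⟩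
  have hsurj : Function.Surjective φ := by
    rw [← MonoidHom.range_eq_top, eq_top_iff,
      ← Equiv.Perm.closure_cycle_adjacent_swap isCycle_finRotate support_finRotate (0 : Fin 6)]
    rw [Subgroup.closure_le]
    rintro x (rfl | rfl)
    · rw [← perm_facts.2]; exact mul_mem (mul_mem (hr 6) (hr 0)) (hr 5)
    · rw [show (finRotate 6) 0 = 1 from by decide, ← perm_facts.1]; exact hr 1
  have hcard : Nat.card ↥(chevB2.group F) = Nat.card (Equiv.Perm (Fin 6)) := by
    have h := card_B2 (F := F) hF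
    rw [Nat.card_perm, Nat.card_fin]
    norm_num [Nat.factorial] at h ⊢
    omega
  exact ⟨MulEquiv.ofBijective φ ((Nat.bijective_iff_surjective_and_card φ).2 ⟨hsurj, hcard⟩)⟩

end Cfsg.Agent.Lib.Chev.B2Six
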