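import Cfsg.Agent.Lib.Chev.Extra
import Cfsg.Agent.Lib.Chev.Diag
import Cfsg.Agent.Lib.Chev.FieldAut

/-!
Tools for centralisers of products of commuting positive root elements: Weyl invariance of the pairing,
stabilisers of weighted sets of roots, images of coordinates, commutators in characteristic two.
-/

set_option autoImplicit false

namespace Cfsg.Agent.Lib.Chev

open Cfsg.Lie Cfsg.Agent.Lib

variable {D : ChevalleyDatum} {T : Fast} {F : Type*} [Field F]

namespace Fast

variable (T : Fast)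

/-- the pairing, from the tables -/
def pr (r s : ℕ) : ℤ := sumB T.l fun j => T.co r j * T.A j s

/-- a weighted sum of pairings -/
def lam (R : List (ℕ × ℤ)) (s : ℕ) : ℤ := (R.map fun p => p.2 * T.pr p.1 s).sum

/-- the weights are dominant, and vanish only at nodes fixing all the roots -/
def stabCheck (R : List (ℕ × ℤ)) (J : List ℕ) : Bool :=
  allBelow T.l fun k =>
    !(ltI (T.lam R (T.sp k)) 0) &&
      (!(beqI (T.lam R (T.sp k)) 0) || (J.contains k && R.all fun p => beqI (T.A k p.1) 0))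

/-- all commutator coefficients are even -/
def evenC (r s : ℕ) : Bool := (T.commT r s).all fun c => Nat.beq (c.2.1.natAbs % 2) 0

/-- exactly one commutator term is odd, and it is bilinear -/
def oneC (r s c : ℕ) : Bool :=
  match (T.commT r s).filter (fun c => !(Nat.beq (c.2.1.natAbs % 2) 0)) with
  | [(u, _, i, j)] => Nat.beq u c && Nat.beq i 1 && Nat.beq j 1
  | _ => false

/-- the roots are in range, positive, increasing and commute modulo two -/
def abCheck (l : List ℕ) : Bool :=
  (l.all fun r => Nat.blt r T.n && ltI 0 (T.key r)) &&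
    (l.all fun r => l.all fun s => Nat.beq r s || T.evenC r s)

end Fast

namespace Checked

variable (C : Checked D T)
include C

theorem pr_eq {r s : ℕ} (hr : r < D.nroots) (hs : s < D.nroots) : T.pr r s = pair D r s := by
  rw [Fast.pr, sumB_eq, pair, ← C.tables.rank]
  refine Finset.sum_congr rfl fun j hj => ?_
  rw [C.tables.coroot r hr j (Finset.mem_range.1 hj), C.tables.cartan j (Finset.mem_range.1 hj) s hs]

theorem pair_lin (r : ℕ) {s : ℕ} (hs : s < D.nroots) :
    pair D r s = ∑ k ∈ Finset.range D.rank, T.aux.coef s k * pair D r (D.simple k) := by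
  unfold pair
  simp only [Finset.mul_sum]
  rw [Finset.sum_comm]
  refine Finset.sum_congr rfl fun j hj => ?_
  rw [C.root.cartan_lin j (Finset.mem_range.1 hj) s hs, Finset.mul_sum]
  exact Finset.sum_congr rfl fun k _ => by ring

theorem pair_sg {n : GL D.Idx F} (hn : n ∈ D.monomialSubgroup F) {r s : ℕ} (hr : r < D.nroots)
    (hs : s < D.nroots) : pair D (C.sg n r) (C.sg n s) = pair D r s := by
  rw [C.monomial_eq] at hn
  induction hn using Subgroup.closure_induction generalizing r s with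
  | mem x hx =>
    rcases hx with hx | ⟨i, hi, rfl⟩
    · rw [C.sg_diag hx hr, C.sg_diag hx hs]
    · rw [C.sg_ng hi hr, C.sg_ng hi hs, C.root.pair_refl hi hr hs]
  | one => rw [C.sg_one hr, C.sg_one hs]
  | mul x y hx hy ihx ihy =>
    rw [← C.monomial_eq] at hx hy
    rw [C.sg_mul hx hy hr, C.sg_mul hx hy hs, ihx (C.sg_lt hy hr) (C.sg_lt hy hs), ihy hr hs]
  | inv x hx ih =>
    rw [← C.monomial_eq] at hx
    have := ih (C.sg_lt (inv_mem hx) hr) (C.sg_lt (inv_mem hx) hs)
    rwa [C.sg_sg_inv hx hr, C.sg_sg_inv hx hs, eq_comm] at this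

theorem lam_lin {R : List (ℕ × ℤ)} (hR : ∀ p ∈ R, p.1 < D.nroots) {s : ℕ} (hs : s < D.nroots) :
    T.lam R s = ∑ k ∈ Finset.range D.rank, T.aux.coef s k * T.lam R (D.simple k) := by
  unfold Fast.lam
  induction R with
  | nil => simp
  | cons p R ihR =>
    simp only [List.map_cons, List.sum_cons, mul_add, Finset.sum_add_distrib]
    have hp1 := hR p (by simp)
    rw [ihR (fun q hq => hR q (by simp [hq])), C.pr_eq hp1 hs, C.pair_lin p.1 hs, Finset.mul_sum]
    congr 1
    refine Finset.sum_congr rfl fun k hk => ?_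
    rw [C.pr_eq hp1 (C.root.simple_lt k (Finset.mem_range.1 hk))]
    ring

/-- A monomial element fixing weighted roots with dominant weight lies in the Levi monomial group. -/
theorem mem_of_stab {R : List (ℕ × ℤ)} {J : List ℕ} (hR : ∀ p ∈ R, p.1 < D.nroots)
    (hchk : T.stabCheck R J = true) {n : GL D.Idx F} (hn : n ∈ D.monomialSubgroup F)
    (hfix : ∀ p ∈ R, C.sg n p.1 = p.1) :
    (∃ h ∈ D.diagonalSubgroup F, ∃ w ∈ Subgroup.closure
        {g : GL D.Idx F | ∃ k ∈ J, k < D.rank ∧ g = C.ng k}, n = h * w) ∧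
      ∀ r < D.nroots, ∀ k < D.rank, k ∉ J → T.aux.coef (C.sg n r) k = T.aux.coef r k := by
  induction hm : (C.inv n).ncard using Nat.strong_induction_on generalizing n with
  | _ m ih =>
  by_cases hall : ∀ i < D.rank, D.IsPosRoot (C.sg n (D.simple i))
  · have hd := C.mem_diag_of_simple_pos hn hall
    exact ⟨⟨n, hd, 1, one_mem _, (mul_one n).symm⟩, fun r hr k _ _ => by rw [C.sg_diag hd hr]⟩
  push Not at hall
  obtain ⟨i, hi, hnp⟩ := hall
  have hp := C.root.simple_lt i hi
  have hneg := (C.key_trichotomy (C.sg_lt hn hp)).resolve_left hnp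
  have hi' : i < T.l := C.tables.rank ▸ hi
  have hchk' := (allBelow_iff.1 hchk) i hi'
  rw [← C.tables.simple i hi] at hchk'
  simp only [Bool.and_eq_true, Bool.not_eq_true', Bool.or_eq_true, Bool.eq_false_iff, ne_eq,
    ltI_iff, List.all_eq_true, List.contains_iff_mem] at hchk'
  obtain ⟨hnn, hcase⟩ := hchk'
  have hlam : T.lam R (D.simple i) = 0 := by
    refine le_antisymm ?_ (by omega)
    have e : T.lam R (D.simple i) = T.lam R (C.sg n (D.simple i)) := by
      unfold Fast.lam
      congr 1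
      refine List.map_congr_left fun p hp' => ?_
      rw [C.pr_eq (hR p hp') hp, C.pr_eq (hR p hp') (C.sg_lt hn hp)]
      conv_rhs => rw [← hfix p hp', C.pair_sg hn (hR p hp') hp]
    rw [e]
    have hs := C.sg_lt hn hp
    rw [C.lam_lin hR hs]
    refine Finset.sum_nonpos fun k hk => mul_nonpos_of_nonpos_of_nonneg ?_ ?_
    · have := C.coef_nonneg ((C.neg_pos_iff hs).2 hneg) (Finset.mem_range.1 hk)
      rw [C.root.coef_neg hs (Finset.mem_range.1 hk)] at this
      omega
    · have hk' := (allBelow_iff.1 hchk) k (C.tables.rank ▸ Finset.mem_range.1 hk)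
      rw [← C.tables.simple k (Finset.mem_range.1 hk)] at hk'
      simp only [Bool.and_eq_true, Bool.not_eq_true', Bool.eq_false_iff, ne_eq, ltI_iff] at hk'
      omega
  obtain ⟨hJ, hA⟩ : i ∈ J ∧ ∀ p ∈ R, beqI (T.A i p.1) 0 = true := by
    rcases hcase with h | h
    · rw [hlam] at h; exact absurd rfl h
    · exact h
  set n' := n * C.ng i with hn'
  have hn'm : n' ∈ D.monomialSubgroup F := mul_mem hn (C.ng_mem hi)
  have hrefl : ∀ p ∈ R, D.reflectRoot i p.1 = p.1 := fun p hp' => by
    have h0 := beqI_eq (hA p hp')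
    rw [← C.tables.cartan i hi p.1 (hR p hp')] at h0
    refine C.root.key_inj (C.root.refl_lt i hi _ (hR p hp')) (hR p hp') ?_
    rw [C.root.refl_key i hi _ (hR p hp'), h0, zero_mul, sub_zero]
  have hfix' : ∀ p ∈ R, C.sg n' p.1 = p.1 := fun p hp' => by
    rw [hn', C.sg_mul hn (C.ng_mem hi) (hR p hp'), C.sg_ng hi (hR p hp'), hrefl p hp', hfix p hp']
  have hpos : D.IsPosRoot (C.sg n' (D.simple i)) := by
    rw [hn', C.sg_mul hn (C.ng_mem hi) hp, C.sg_ng hi hp, C.root.refl_simple hi, C.sg_neg hn hp,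
      C.neg_pos_iff (C.sg_lt hn hp)]
    exact hneg
  have hcard := C.inv_step hi hn'm hpos
  have hcongr : C.inv (n' * C.ng i) = C.inv n := C.inv_congr fun r hr => by
    rw [hn', mul_assoc, C.sg_mul hn (mul_mem (C.ng_mem hi) (C.ng_mem hi)) hr,
      C.sg_diag (C.ng_sq_mem hi) hr]
  rw [hcongr] at hcard
  obtain ⟨⟨h, hh, w, hw, e⟩, hco⟩ := ih _ (by omega) hn'm hfix' rfl
  refine ⟨⟨h, hh, w * (C.ng i)⁻¹, mul_mem hw (inv_mem (Subgroup.subset_closure ⟨i, hJ, hi, rfl⟩)),
    by rw [← mul_assoc, ← e, hn', mul_inv_cancel_right]⟩, fun r hr k hk hkJ => ?_⟩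
  have h2 := hco (D.reflectRoot i r) (C.root.refl_lt i hi r hr) k hk hkJ
  rw [hn', C.sg_mul hn (C.ng_mem hi) (C.root.refl_lt i hi r hr),
    C.sg_ng hi (C.root.refl_lt i hi r hr), C.root.refl_refl i hi r hr, C.root.coef_refl hi hr hk,
    if_neg (fun h : k = i => hkJ (h ▸ hJ)), mul_zero, sub_zero] at h2
  exact h2

/-! ### commutators in characteristic two -/

theorem wg_append' (w w' : List (ℕ × F)) : C.wg (w ++ w') = C.wg w * C.wg w' := C.val_wg_append w w'

theorem wg_filter_pair (p : ℕ × F → Bool) : ∀ (w : List (ℕ × F)),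
    (∀ q ∈ w, p q = false → q.2 = 0) → C.wg (w.filter p) = C.wg w
  | [], _ => rfl
  | q :: w, h => by
    have ih := wg_filter_pair p w fun x hx => h x (by simp [hx])
    cases hq : p q
    · rw [List.filter_cons_of_neg (by simp [hq]), C.wg_cons, h q (by simp) hq, C.xg_zero, one_mul, ih]
    · rw [List.filter_cons_of_pos hq, C.wg_cons, C.wg_cons, ih]

omit C in
theorem intCast_of_parity [CharP F 2] (c : ℤ) :
    (c : F) = if Nat.beq (c.natAbs % 2) 0 then 0 else 1 := by
  have e : (c : F) = ((c.natAbs : ℕ) : F) := by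
    rcases Int.natAbs_eq c with h | h <;>
      rw [h] <;> simp [CharTwo.neg_eq]
  rw [e, CharP.cast_eq_mod F 2 c.natAbs]
  rcases Nat.mod_two_eq_zero_or_one c.natAbs with h | h <;> simp [h]

theorem comm_of_even [CharP F 2] {r s : ℕ} (hr : r < D.nroots) (hs : s < D.nroots)
    (hneg : s ≠ D.neg r) (h : T.evenC r s = true) (t u : F) :
    Commute (C.xg r t) (C.xg s u) := by
  by_cases hrs : s = r
  · subst hrs
    show _ * _ = _ * _
    rw [C.xg_add hs, C.xg_add hs, add_comm]
  have := C.comm hr hs hrs hneg t u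
  have h1 : C.wg (D.commWord F r s t u) = 1 := by
    rw [← C.wg_filter_pair (fun _ => false) _ fun q hq _ => ?_]
    · simp [C.wg_nil]
    obtain ⟨c, hc, rfl⟩ := List.mem_map.1 hq
    rw [Fast.evenC, List.all_eq_true] at h
    have h2 := h c (C.commT_eq hr hs ▸ hc)
    simp [intCast_of_parity (F := F) c.2.1, h2]
  rw [h1, mul_one] at this
  exact this.symm

theorem conj_of_one [CharP F 2] {r s c : ℕ} (hr : r < D.nroots) (hs : s < D.nroots) (hrs : s ≠ r)
    (hneg : s ≠ D.neg r) (h : T.oneC r s c = true) (t u : F) :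
    C.xg r t * C.xg s u * (C.xg r t)⁻¹ = C.xg s u * C.xg c (t * u) := by
  have h1 : C.wg (D.commWord F r s t u) = C.xg c (t * u) := by
    have key : ∀ l : List (ℕ × ℤ × ℕ × ℕ),
        C.wg (l.map fun c => (c.1, (c.2.1 : F) * (-t) ^ c.2.2.1 * u ^ c.2.2.2)) =
        C.wg ((l.filter fun c => !(Nat.beq (c.2.1.natAbs % 2) 0)).map fun c =>
          (c.1, t ^ c.2.2.1 * u ^ c.2.2.2)) := by
      intro l
      induction l with
      | nil => rfl
      | cons q l ih =>
        rw [List.map_cons, C.wg_cons, ih, intCast_of_parity (F := F) q.2.1, CharTwo.neg_eq]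
        cases hb : Nat.beq (q.2.1.natAbs % 2) 0
        · rw [List.filter_cons_of_pos (by simp [hb]), List.map_cons, C.wg_cons]; simp
        · rw [List.filter_cons_of_neg (by simp [hb])]; simp [C.xg_zero]
    rw [ChevalleyDatum.commWord, key, ← C.commT_eq hr hs]
    unfold Fast.oneC at h
    split at h
    · next u' c' i j e =>
      simp only [Bool.and_eq_true] at h
      rw [e, Nat.eq_of_beq_eq_true h.1.1, Nat.eq_of_beq_eq_true h.1.2, Nat.eq_of_beq_eq_true h.2]
      simp [C.wg_cons, C.wg_nil]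
    · exact absurd h (by simp)
  have h2 := C.comm hr hs hrs hneg t u
  rw [C.xg_inv, CharTwo.neg_eq, ← h1]
  calc C.xg r t * C.xg s u * C.xg r t = C.xg r t * (C.xg s u * C.xg r t) := mul_assoc _ _ _
    _ = C.xg r t * C.xg r t * C.xg s u * C.wg (D.commWord F r s t u) := by rw [h2]; group
    _ = _ := by rw [C.xg_add hr, CharTwo.add_self_eq_zero, C.xg_zero, one_mul]

/-! ### coordinates -/

/-- pairwise commuting positive roots -/
theorem commute_of_ab [CharP F 2] {l : List ℕ} (h : T.abCheck l = true) :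
    (∀ r ∈ l, D.IsPosRoot r) ∧ ∀ r ∈ l, ∀ s ∈ l, ∀ t u : F, Commute (C.xg r t) (C.xg s u) := by
  rw [Fast.abCheck, Bool.and_eq_true] at h
  simp only [List.all_eq_true, Bool.and_eq_true, Bool.or_eq_true, Nat.blt_eq, ltI_iff] at h
  have hp : ∀ r ∈ l, D.IsPosRoot r := fun r hr =>
    (C.root.pos_iff r).2 ⟨by rw [C.tables.nroots]; exact (h.1 r hr).1, (h.1 r hr).2⟩
  refine ⟨hp, fun r hr s hs t u => ?_⟩
  rcases h.2 r hr s hs with he | he
  · obtain rfl := Nat.eq_of_beq_eq_true he
    show _ * _ = _ * _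
    rw [C.xg_add (hp r hr).1, C.xg_add (hp r hr).1, add_comm]
  · exact C.comm_of_even (hp r hr).1 (hp s hs).1 (C.ne_neg_of_pos (hp r hr) (hp s hs)) he t u

theorem wg_perm {w w' : List (ℕ × F)} (hp : w.Perm w')
    (hc : ∀ p ∈ w, ∀ q ∈ w, Commute (C.xg p.1 p.2) (C.xg q.1 q.2)) : C.wg w = C.wg w' := by
  refine List.Perm.prod_eq' (hp.map _) ?_
  rw [List.pairwise_map]
  exact List.pairwise_of_forall_mem_list hc

/-- conjugation of a word by a monomial element -/
theorem conj_wg {n : GL D.Idx F} (c : ℕ → F)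
    (hc : ℕ → Prop) (h : ∀ r, hc r → ∀ t : F, n * C.xg r t * n⁻¹ = C.xg (C.sg n r) (c r * t)) :
    ∀ w : List (ℕ × F), (∀ p ∈ w, hc p.1) →
      n * C.wg w * n⁻¹ = C.wg (w.map fun p => (C.sg n p.1, c p.1 * p.2))
  | [], _ => by simp [C.wg_nil]
  | p :: w, hw => by
    rw [C.wg_cons, List.map_cons, C.wg_cons, ← h p.1 (hw p (by simp)),
      ← conj_wg c hc h w fun q hq => hw q (by simp [hq])]
    group

/-- A monomial element taking one product of commuting root elements to another maps the support into the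
support. -/
theorem coords_image [CharP F 2] {l : List ℕ} (hl : l.Pairwise (· < ·)) (hab : T.abCheck l = true)
    {n : GL D.Idx F} (hn : n ∈ D.monomialSubgroup F) (t t' : ℕ → F)
    (e : n * C.wg (l.map fun r => (r, t r)) * n⁻¹ = C.wg (l.map fun r => (r, t' r))) :
    ∀ r ∈ l, t r ≠ 0 → C.sg n r ∈ l ∧ t' (C.sg n r) ≠ 0 := by
  classical
  obtain ⟨hpos, hcomm⟩ := C.commute_of_ab (F := F) hab
  let p : ℕ → Bool := fun r => decide (D.IsPosRoot (C.sg n r))
  have hsplit : C.wg (l.map fun r => (r, t r)) = C.wg ((l.filter p).map fun r => (r, t r)) *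
      C.wg ((l.filter fun r => !p r).map fun r => (r, t r)) := by
    rw [← C.wg_append', ← List.map_append]
    refine C.wg_perm ((List.filter_append_perm p l).symm.map _) fun a ha b hb => ?_
    obtain ⟨r, hr, rfl⟩ := List.mem_map.1 ha
    obtain ⟨s, hs, rfl⟩ := List.mem_map.1 hb
    exact hcomm r hr s hs _ _
  choose! c hc0 hc using fun r (hr : r < D.nroots) => C.sg_conj hn hr
  have hneg0 : ∀ r ∈ l, p r = false → t r = 0 := by
    have hM : C.wg ((l.filter fun r => !p r).map fun r => (r, t r)) ∈ grp D F (C.inv n) := by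
      refine C.wg_mem _ fun q hq => ?_
      obtain ⟨r, hr, rfl⟩ := List.mem_map.1 hq
      rw [List.mem_filter] at hr
      exact ⟨hpos r hr.1, (C.key_trichotomy (C.sg_lt hn (hpos r hr.1).1)).resolve_left
        (by simpa [p] using hr.2)⟩
    have hP : n * C.wg ((l.filter p).map fun r => (r, t r)) * n⁻¹ ∈ D.borelSubgroup F := by
      rw [C.conj_wg c (· < D.nroots) hc _ (by
        intro q hq
        obtain ⟨r, hr, rfl⟩ := List.mem_map.1 hq
        exact (hpos r (List.mem_filter.1 hr).1).1)]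
      refine Subgroup.mem_sup_left ?_
      rw [posUnipotent_eq]
      refine C.wg_mem _ fun q hq => ?_
      obtain ⟨q', hq', rfl⟩ := List.mem_map.1 hq
      obtain ⟨r, hr, rfl⟩ := List.mem_map.1 hq'
      simpa [p] using (List.mem_filter.1 hr).2
    have hy : C.wg (l.map fun r => (r, t' r)) ∈ D.borelSubgroup F := by
      refine Subgroup.mem_sup_left ?_
      rw [posUnipotent_eq]
      refine C.wg_mem _ fun q hq => ?_
      obtain ⟨r, hr, rfl⟩ := List.mem_map.1 hq
      exact hpos r hr
    have hMB : n * C.wg ((l.filter fun r => !p r).map fun r => (r, t r)) * n⁻¹ ∈ D.borelSubgroup F := by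
      rw [← e, hsplit] at hy
      convert mul_mem (inv_mem hP) hy using 1
      group
    obtain ⟨τ, hm⟩ := C.sg_spec hn
    have h1 := C.eq_one_of_conj_mem_borel (C.closedSet_inv hn) hm (fun r hr => hr.2) hM hMB
    intro r hr hpr
    refine C.ordered_inj _ (hl.filter (fun r => !p r)) (fun x hx => hpos x (List.mem_filter.1 hx).1) t (fun _ => 0)
      ?_ r (List.mem_filter.2 ⟨hr, by simp [hpr]⟩)
    rw [h1, ← C.wg_filter_pair (fun _ => false) _ (fun q hq _ => by
      obtain ⟨r, _, rfl⟩ := List.mem_map.1 hq; rfl), List.filter_eq_nil_iff.2 (fun _ _ => Bool.false_ne_true), C.wg_nil]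
  have himg : ∀ r ∈ l, t r ≠ 0 → D.IsPosRoot (C.sg n r) := fun r hr ht => by
    by_contra h
    exact ht (hneg0 r hr (by simpa [p] using h))
  -- coordinates of both sides on the list of all positive roots
  let P := C.rootList {r | D.IsPosRoot r}
  have hPnd : P.Nodup := (C.rootList_sorted _).imp fun h => ne_of_lt h
  let l₁ := l.filter fun r => decide (t r ≠ 0)
  have hl₁ : ∀ r ∈ l₁, r ∈ l ∧ t r ≠ 0 := fun r hr => by simpa [l₁] using hr
  let T₁ : ℕ → F := fun x => if x ∈ l₁.map (C.sg n) then c (C.sg n⁻¹ x) * t (C.sg n⁻¹ x) else 0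
  let T₂ : ℕ → F := fun x => if x ∈ l then t' x else 0
  have e₂ : C.wg (P.map fun x => (x, T₂ x)) = C.wg (l.map fun r => (r, t' r)) := by
    have h1 : C.wg (P.map fun x => (x, T₂ x)) = C.wg ((P.filter fun x => decide (x ∈ l)).map fun x => (x, T₂ x)) := by
      rw [show (P.filter fun x => decide (x ∈ l)).map (fun x => (x, T₂ x)) =
        (P.map fun x => (x, T₂ x)).filter (fun q => decide (q.1 ∈ l)) by rw [List.filter_map]; rfl]
      refine (C.wg_filter_pair _ _ fun q hq hf => ?_).symm
      obtain ⟨x, _, rfl⟩ := List.mem_map.1 hq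
      simp only [decide_eq_false_iff_not] at hf
      simp [T₂, hf]
    have h2 : P.filter (fun x => decide (x ∈ l)) = l := by
      refine List.Perm.eq_of_pairwise (le := (· < ·)) (fun a b _ _ h h' => absurd (h.trans h') (lt_irrefl a))
        ((C.rootList_sorted _).filter _) hl ?_
      rw [List.perm_ext_iff_of_nodup (hPnd.filter _) (hl.imp fun h => ne_of_lt h)]
      intro x
      simp only [List.mem_filter, decide_eq_true_eq]
      exact ⟨fun h => h.2, fun h => ⟨C.mem_rootList.2 ⟨(hpos x h).1, hpos x h⟩, h⟩⟩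
    rw [h1, h2]
    exact congrArg C.wg (List.map_congr_left fun r hr => by simp [T₂, hr])
  have hinj : ∀ r ∈ l₁, ∀ s ∈ l₁, C.sg n r = C.sg n s → r = s := fun r hr s hs h => by
    rw [← C.sg_inv_sg hn (hpos r (hl₁ r hr).1).1, h, C.sg_inv_sg hn (hpos s (hl₁ s hs).1).1]
  have e₁ : C.wg (P.map fun x => (x, T₁ x)) = n * C.wg (l.map fun r => (r, t r)) * n⁻¹ := by
    have h1 : C.wg (P.map fun x => (x, T₁ x)) =
        C.wg ((P.filter fun x => decide (x ∈ l₁.map (C.sg n))).map fun x => (x, T₁ x)) := by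
      rw [show (P.filter fun x => decide (x ∈ l₁.map (C.sg n))).map (fun x => (x, T₁ x)) =
        (P.map fun x => (x, T₁ x)).filter (fun q => decide (q.1 ∈ l₁.map (C.sg n))) by
          rw [List.filter_map]; rfl]
      refine (C.wg_filter_pair _ _ fun q hq hf => ?_).symm
      obtain ⟨x, _, rfl⟩ := List.mem_map.1 hq
      simp only [decide_eq_false_iff_not] at hf
      exact if_neg hf
    have h0 : C.wg (l.map fun r => (r, t r)) = C.wg (l₁.map fun r => (r, t r)) := by
      rw [show l₁.map (fun r => (r, t r)) = (l.map fun r => (r, t r)).filter (fun q => decide (q.2 ≠ 0)) by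
        rw [List.filter_map]; rfl]
      exact (C.wg_filter_pair _ _ fun q _ hf => by simpa using hf).symm
    have h2 : ((l₁.map fun r => (r, t r)).map fun q => (C.sg n q.1, c q.1 * q.2)) =
        (l₁.map (C.sg n)).map fun x => (x, T₁ x) := by
      rw [List.map_map, List.map_map]
      refine List.map_congr_left fun r hr => Prod.ext rfl ?_
      show c r * t r = T₁ (C.sg n r)
      simp only [T₁, if_pos (List.mem_map_of_mem (f := C.sg n) hr), C.sg_inv_sg hn (hpos r (hl₁ r hr).1).1]
    rw [h0, C.conj_wg c (· < D.nroots) hc _ (fun q hq => by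
      obtain ⟨r, hr, rfl⟩ := List.mem_map.1 hq; exact (hpos r (hl₁ r hr).1).1), h2, h1]
    refine (C.wg_perm (List.Perm.map _ ((List.perm_ext_iff_of_nodup ?_ (hPnd.filter _)).2 fun x => ?_)) ?_).symm
    · exact List.Nodup.map_on hinj (hl.filter _ |>.imp fun h => ne_of_lt h)
    · simp only [List.mem_filter, decide_eq_true_eq]
      refine ⟨fun h => ⟨?_, h⟩, fun h => h.2⟩
      obtain ⟨r, hr, rfl⟩ := List.mem_map.1 h
      have hp' := himg r (hl₁ r hr).1 (hl₁ r hr).2
      exact C.mem_rootList.2 ⟨hp'.1, hp'⟩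
    · intro a ha b hb
      obtain ⟨x, hx, rfl⟩ := List.mem_map.1 ha
      obtain ⟨y, hy, rfl⟩ := List.mem_map.1 hb
      obtain ⟨r, hr, rfl⟩ := List.mem_map.1 hx
      obtain ⟨s, hs, rfl⟩ := List.mem_map.1 hy
      have hr' := (hpos r (hl₁ r hr).1).1
      have hs' := (hpos s (hl₁ s hs).1).1
      have key : ∀ a b : F, Commute (C.xg (C.sg n r) (c r * a)) (C.xg (C.sg n s) (c s * b)) := fun a b => by
        rw [← hc r hr', ← hc s hs']
        exact (hcomm r (hl₁ r hr).1 s (hl₁ s hs).1 a b).map (MulAut.conj n).toMonoidHom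
      have := key ((c r)⁻¹ * T₁ (C.sg n r)) ((c s)⁻¹ * T₁ (C.sg n s))
      rwa [mul_inv_cancel_left₀ (hc0 r hr'), mul_inv_cancel_left₀ (hc0 s hs')] at this
  have hco := C.ordered_inj P (C.rootList_sorted _) (fun x hx => (C.mem_rootList.1 hx).2) T₁ T₂
    (by rw [e₁, e₂, e])
  intro r hr ht
  have hσ := himg r hr ht
  have hmem : r ∈ l₁ := by simp [l₁, hr, ht]
  have h1 := hco (C.sg n r) (C.mem_rootList.2 ⟨hσ.1, hσ⟩)
  simp only [T₁, T₂, if_pos (List.mem_map_of_mem (f := C.sg n) hmem), C.sg_inv_sg hn (hpos r hr).1] at h1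
  have hne : c r * t r ≠ 0 := mul_ne_zero (hc0 r (hpos r hr).1) ht
  split_ifs at h1 with hin
  · exact ⟨hin, h1 ▸ hne⟩
  · exact absurd h1 hne

end Checked

end Cfsg.Agent.Lib.Chev
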