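import Cfsg.Agent.Lib.Chev.SLTwoHom
import Cfsg.Agent.Lib.Chev.Cent
import Cfsg.Agent.Lib.Chev.Data.G2

/-!
The subgroup of `G₂(F)` generated by the root subgroups of a short root, an orthogonal long root and the
torus, as an image of pairs of elements of `GL₂(F)` with inverse determinants.
-/

set_option autoImplicit false

namespace Cfsg.Agent.Lib.Chev.G2Odd

open Cfsg.Lie Cfsg.Agent.Lib.Chev
open scoped MatrixGroups

variable {F : Type*} [Field F]

abbrev C : Checked chevG2 G2.fast := G2.checked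

theorem nroots_eq : chevG2.nroots = 12 := C.tables.nroots

theorem simple_zero : chevG2.simple 0 = 7 := by decide +kernel
theorem simple_one : chevG2.simple 1 = 6 := by decide +kernel

theorem en_ok : ∀ i < chevG2.rank, G2.fast.en i (chevG2.simple i) = true := by decide +kernel

/-! ### the torus -/

/-- the torus element with two given coordinates -/
def tor (c0 c1 : Fˣ) : GL chevG2.Idx F := C.torus fun i => if i.val = 0 then c0 else c1

theorem val_tor (c0 c1 : Fˣ) : ((tor c0 c1 : GL chevG2.Idx F) : Matrix chevG2.Idx chevG2.Idx F) =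
    dg chevG2 fun v => (c0 : F) ^ chevG2.cartan 0 v * (c1 : F) ^ chevG2.cartan 1 v := by
  rw [tor, C.val_torus]
  refine dg_congr fun v _ => ?_
  show ((∏ i : Fin 2, (if i.val = 0 then c0 else c1) ^ chevG2.cartan i v : Fˣ) : F) = _
  simp [Fin.prod_univ_two]

theorem tor_mul (a0 a1 b0 b1 : Fˣ) : tor a0 a1 * tor b0 b1 = tor (a0 * b0) (a1 * b1) := by
  refine Units.ext ?_
  rw [Units.val_mul, val_tor, val_tor, val_tor, dg_mul]
  exact dg_congr fun v _ => by push_cast; rw [mul_zpow, mul_zpow]; ring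

theorem tor_one : tor (1 : Fˣ) 1 = 1 := by
  refine Units.ext ?_
  rw [Units.val_one, val_tor, ← dg_one]
  exact dg_congr fun v _ => by simp

theorem tor_mem_diag (c0 c1 : Fˣ) : tor c0 c1 ∈ chevG2.diagonalSubgroup F := by
  rw [← C.range_torusHom]; exact ⟨_, rfl⟩

theorem tor_mem (c0 c1 : Fˣ) : tor c0 c1 ∈ chevG2.group F := C.diag_le_group (tor_mem_diag c0 c1)

theorem exists_tor {h : GL chevG2.Idx F} (hh : h ∈ chevG2.diagonalSubgroup F) :
    ∃ c0 c1 : Fˣ, h = tor c0 c1 := by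
  obtain ⟨c, hc⟩ := C.exists_torus hh
  refine ⟨c ⟨0, by decide +kernel⟩, c ⟨1, by decide +kernel⟩, hc.symm.trans ?_ |>.trans rfl⟩ <;> rfl

theorem tor_inj {a0 a1 b0 b1 : Fˣ} (h : tor a0 a1 = tor b0 b1) : a0 = b0 ∧ a1 = b1 := by
  have h' := congrArg Units.val h
  rw [val_tor, val_tor] at h'
  have h9 := dg_inj h' 9 (by rw [nroots_eq]; omega)
  have h11 := dg_inj h' 11 (by rw [nroots_eq]; omega)
  have e : chevG2.cartan 0 9 = 1 ∧ chevG2.cartan 1 9 = 0 ∧ chevG2.cartan 0 11 = 0 ∧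
      chevG2.cartan 1 11 = 1 := by decide +kernel
  simp only [e.1, e.2.1, e.2.2.1, e.2.2.2, zpow_one, zpow_zero, mul_one, one_mul] at h9 h11
  exact ⟨Units.ext h9, Units.ext h11⟩

theorem tor_xg (c0 c1 : Fˣ) {r : ℕ} (hr : r < 12) (t : F) :
    tor c0 c1 * C.xg r t * (tor c0 c1)⁻¹ =
      C.xg r ((c0 : F) ^ chevG2.cartan 0 r * (c1 : F) ^ chevG2.cartan 1 r * t) := by
  obtain ⟨χ, hχ, e⟩ := C.exists_chr (tor_mem_diag c0 c1)
  rw [C.conj_xg_of_dg hχ e (by rw [nroots_eq]; exact hr) t]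
  have := dg_inj (e.symm.trans (val_tor c0 c1)) r (by rw [nroots_eq]; exact hr)
  rw [this]

theorem hg_seven {t : F} (ht : t ≠ 0) : (C.hg 7 t : GL chevG2.Idx F) = tor (Units.mk0 t ht) 1 := by
  refine Units.ext ?_
  rw [C.val_hg, C.hMat_eq (by rw [nroots_eq]; omega) ht, val_tor]
  refine dg_congr fun v hv => ?_
  have e : ∀ v < 12, G2.fast.pr 7 v = chevG2.cartan 0 v := by decide +kernel
  rw [← C.pr_eq (by rw [nroots_eq]; omega) hv, e v (by rwa [nroots_eq] at hv)]
  simp

theorem hg_eleven {t : F} (ht : t ≠ 0) :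
    (C.hg 11 t : GL chevG2.Idx F) = tor (Units.mk0 t ht) (Units.mk0 t ht ^ 2) := by
  refine Units.ext ?_
  rw [C.val_hg, C.hMat_eq (by rw [nroots_eq]; omega) ht, val_tor]
  refine dg_congr fun v hv => ?_
  have e : ∀ v < 12, G2.fast.pr 11 v = chevG2.cartan 0 v + 2 * chevG2.cartan 1 v := by decide +kernel
  rw [← C.pr_eq (by rw [nroots_eq]; omega) hv, e v (by rwa [nroots_eq] at hv), zpow_add₀ ht]
  simp only [Units.val_pow_eq_pow_val, Units.val_mk0, ← zpow_natCast t 2, ← zpow_mul]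
  norm_num

/-! ### two commuting copies of `SL₂` -/

theorem sl_gen : Subgroup.closure (Set.range (RootPair.upT (F := F)) ∪
    Set.range (RootPair.loT (F := F))) = ⊤ := by
  rw [eq_top_iff, ← RootPair.closure_eq_top, Subgroup.closure_le]
  rintro g (hg | hg)
  · exact Subgroup.subset_closure (Or.inl hg)
  rw [Set.mem_singleton_iff] at hg
  subst hg
  have e : (RootPair.wT : SL(2, F)) = RootPair.upT 1 * RootPair.loT (-1) * RootPair.upT 1 := by
    apply Subtype.ext
    simp [RootPair.val_wT, RootPair.val_upT, RootPair.val_loT, Matrix.mul_fin_two]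
  rw [e]
  exact mul_mem (mul_mem (Subgroup.subset_closure (Or.inl ⟨_, rfl⟩))
    (Subgroup.subset_closure (Or.inr ⟨_, rfl⟩))) (Subgroup.subset_closure (Or.inl ⟨_, rfl⟩))

/-- the homomorphism from `SL₂` given by a root -/
noncomputable def phi (r : ℕ) : SL(2, F) →* GL chevG2.Idx F :=
  if hr : r < chevG2.nroots then (C.exists_slTwo_hom en_ok hr).choose else 1

theorem phi_up {r : ℕ} (hr : r < 12) (t : F) : phi r (RootPair.upT t) = C.xg r t := by
  rw [phi, dif_pos (by rw [nroots_eq]; exact hr)]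
  exact ((C.exists_slTwo_hom (F := F) en_ok (by rw [nroots_eq]; exact hr)).choose_spec.2 t).1

theorem phi_lo {r : ℕ} (hr : r < 12) (t : F) : phi r (RootPair.loT t) = C.xg (chevG2.neg r) t := by
  rw [phi, dif_pos (by rw [nroots_eq]; exact hr)]
  exact ((C.exists_slTwo_hom (F := F) en_ok (by rw [nroots_eq]; exact hr)).choose_spec.2 t).2

/-- the monomial element of `SL₂` -/
def nT (t : F) : SL(2, F) := RootPair.upT t * RootPair.loT (-t⁻¹) * RootPair.upT t

theorem phi_nT {r : ℕ} (hr : r < 12) (t : F) : phi r (nT t) = C.wg (chevG2.nWord r t) := by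
  simp only [nT, map_mul, phi_up hr, phi_lo hr, ChevalleyDatum.nWord, C.wg_cons, C.wg_nil, mul_one,
    mul_assoc]

theorem nT_one : nT (1 : F) = RootPair.wT := by
  apply Subtype.ext
  simp [nT, RootPair.val_wT, RootPair.val_upT, RootPair.val_loT, Matrix.mul_fin_two]

/-- the diagonal element of `SL₂` -/
def dT (t : F) : SL(2, F) := nT t * nT (-1)

theorem val_dT {t : F} (ht : t ≠ 0) :
    ((dT t : SL(2, F)) : Matrix (Fin 2) (Fin 2) F) = !![t, 0; 0, t⁻¹] := by
  simp [dT, nT, RootPair.val_upT, RootPair.val_loT, Matrix.mul_fin_two, ht]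

theorem phi_dT {r : ℕ} (hr : r < 12) (t : F) : phi r (dT t) = C.hg r t := by
  rw [dT, map_mul, phi_nT hr, phi_nT hr, Checked.hg, ChevalleyDatum.hWord, C.val_wg_append]

theorem phi_mem {r : ℕ} (hr : r < 12) (s : SL(2, F)) : phi r s ∈ chevG2.group F := by
  have : (⊤ : Subgroup SL(2, F)) ≤ (chevG2.group F).comap (phi r) := by
    rw [← sl_gen, Subgroup.closure_le]
    rintro g (⟨t, rfl⟩ | ⟨t, rfl⟩) <;> rw [SetLike.mem_coe, Subgroup.mem_comap]
    · rw [phi_up hr]; exact C.xg_mem_group (by rw [nroots_eq]; exact hr) t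
    · rw [phi_lo hr]
      exact C.xg_mem_group (C.root.neg_lt r (by rw [nroots_eq]; exact hr)) t
  exact this (Subgroup.mem_top s)

theorem phi_comm (s s' : SL(2, F)) : phi 7 s * phi 11 s' = phi 11 s' * phi 7 s := by
  have key : ∀ r ∈ [7, 4], ∀ r' ∈ [11, 0], ∀ a b : F,
      (C.xg r a : GL chevG2.Idx F) * C.xg r' b = C.xg r' b * C.xg r a := by
    intro r hr r' hr' a b
    have hd : ∀ r ∈ [7, 4], ∀ r' ∈ [11, 0], G2.fast.commT r r' = [] ∧ r < 12 ∧ r' < 12 ∧
        r' ≠ r ∧ r' ≠ chevG2.neg r := by decide +kernel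
    obtain ⟨e, h1, h2, h3, h4⟩ := hd r hr r' hr'
    have hr1 : r < chevG2.nroots := by rw [nroots_eq]; exact h1
    have hr2 : r' < chevG2.nroots := by rw [nroots_eq]; exact h2
    have hc := C.comm hr1 hr2 h3 h4 a b
    rw [show chevG2.commWord F r r' a b = [] by
      rw [ChevalleyDatum.commWord, ← C.commT_eq hr1 hr2, e]; rfl, C.wg_nil, mul_one] at hc
    exact hc.symm
  have hn : chevG2.neg 7 = 4 ∧ chevG2.neg 11 = 0 := by decide +kernel
  have h1 : ∀ t : F, ∀ s' : SL(2, F), ∀ r ∈ [7, 4],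
      phi 11 s' ∈ Subgroup.centralizer {(C.xg r t : GL chevG2.Idx F)} := by
    intro t s' r hr
    have : (⊤ : Subgroup SL(2, F)) ≤
        (Subgroup.centralizer {(C.xg r t : GL chevG2.Idx F)}).comap (phi 11) := by
      rw [← sl_gen, Subgroup.closure_le]
      rintro g (⟨u, rfl⟩ | ⟨u, rfl⟩) <;>
        rw [SetLike.mem_coe, Subgroup.mem_comap, Subgroup.mem_centralizer_singleton_iff]
      · rw [phi_up (by omega)]; exact (key r hr 11 (by simp) t u).symm
      · rw [phi_lo (by omega), hn.2]; exact (key r hr 0 (by simp) t u).symm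
    exact this (Subgroup.mem_top s')
  have : (⊤ : Subgroup SL(2, F)) ≤
      (Subgroup.centralizer {(phi 11 s' : GL chevG2.Idx F)}).comap (phi 7) := by
    rw [← sl_gen, Subgroup.closure_le]
    rintro g (⟨u, rfl⟩ | ⟨u, rfl⟩) <;>
      rw [SetLike.mem_coe, Subgroup.mem_comap, Subgroup.mem_centralizer_singleton_iff]
    · rw [phi_up (by omega)]
      exact (Subgroup.mem_centralizer_singleton_iff.1 (h1 u s' 7 (by simp))).symm
    · rw [phi_lo (by omega), hn.1]
      exact (Subgroup.mem_centralizer_singleton_iff.1 (h1 u s' 4 (by simp))).symm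
  exact Subgroup.mem_centralizer_singleton_iff.1 (this (Subgroup.mem_top s))

/-- `diag(d, 1)` -/
def dd : Fˣ →* GL (Fin 2) F where
  toFun d := ⟨!![(d : F), 0; 0, 1], !![((d⁻¹ : Fˣ) : F), 0; 0, 1],
    by simp [Matrix.mul_fin_two, Matrix.one_fin_two],
    by simp [Matrix.mul_fin_two, Matrix.one_fin_two]⟩
  map_one' := by
    apply Units.ext
    show !![((1 : Fˣ) : F), 0; 0, 1] = 1
    simp [Matrix.one_fin_two]
  map_mul' a b := by
    apply Units.ext
    simp only [Units.val_mul, Matrix.mul_fin_two, mul_zero, zero_mul, add_zero, mul_one]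
    simp

theorem val_dd (d : Fˣ) : ((dd d : GL (Fin 2) F) : Matrix (Fin 2) (Fin 2) F) = !![(d : F), 0; 0, 1] :=
  rfl

theorem det_dd (d : Fˣ) : Matrix.GeneralLinearGroup.det (dd d) = d := by
  apply Units.ext
  simp [Matrix.GeneralLinearGroup.val_det_apply, val_dd, Matrix.det_fin_two]

/-- the component of determinant one -/
def slc (g : GL (Fin 2) F) : SL(2, F) :=
  ⟨((g * (dd (Matrix.GeneralLinearGroup.det g))⁻¹ : GL (Fin 2) F) : Matrix (Fin 2) (Fin 2) F), by
    rw [← Matrix.GeneralLinearGroup.val_det_apply, map_mul, map_inv, det_dd, mul_inv_cancel,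
      Units.val_one]⟩

theorem toGL_slc (g : GL (Fin 2) F) :
    (slc g).toGL = g * (dd (Matrix.GeneralLinearGroup.det g))⁻¹ := Units.ext rfl

theorem det_toGL (s : SL(2, F)) : Matrix.GeneralLinearGroup.det s.toGL = 1 := by
  apply Units.ext
  rw [Matrix.GeneralLinearGroup.val_det_apply, Units.val_one]
  exact s.2

theorem toGL_inj {s s' : SL(2, F)} (h : s.toGL = s'.toGL) : s = s' :=
  Subtype.ext (congrArg Units.val h)

/-- conjugation by `diag(d, 1)` -/
def cd (d : Fˣ) : SL(2, F) →* SL(2, F) where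
  toFun s := slc (dd d * s.toGL)
  map_one' := toGL_inj (by simp [toGL_slc, det_dd])
  map_mul' a b := toGL_inj (by
    simp only [toGL_slc, map_mul, det_dd, det_toGL, mul_one]
    group)

theorem toGL_cd (d : Fˣ) (s : SL(2, F)) : (cd d s).toGL = dd d * s.toGL * (dd d)⁻¹ := by
  show (slc _).toGL = _
  simp [toGL_slc, map_mul, det_dd, det_toGL]

theorem slc_toGL_mul_dd (s : SL(2, F)) (d : Fˣ) : slc (s.toGL * dd d) = s :=
  toGL_inj (by simp [toGL_slc, map_mul, det_dd, det_toGL, mul_assoc])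

theorem cd_up (d : Fˣ) (t : F) : cd d (RootPair.upT t) = RootPair.upT ((d : F) * t) := by
  refine toGL_inj ?_
  rw [toGL_cd, mul_inv_eq_iff_eq_mul]
  apply Units.ext
  simp [val_dd, RootPair.val_upT, Matrix.mul_fin_two]

theorem cd_lo (d : Fˣ) (t : F) : cd d (RootPair.loT t) = RootPair.loT ((d : F)⁻¹ * t) := by
  refine toGL_inj ?_
  rw [toGL_cd, mul_inv_eq_iff_eq_mul]
  apply Units.ext
  simp [val_dd, RootPair.val_loT]
  field_simp

theorem tor_phi {r : ℕ} (hr : r < 12) (e d : Fˣ)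
    (hd : ((e : F) ^ chevG2.cartan 1 r) = d) (hd' : ((e : F) ^ chevG2.cartan 1 (chevG2.neg r)) = (d : F)⁻¹)
    (s : SL(2, F)) : tor 1 e * phi r s * (tor 1 e)⁻¹ = phi r (cd d s) := by
  have hnr : chevG2.neg r < 12 := by
    rw [← nroots_eq]; exact C.root.neg_lt r (by rw [nroots_eq]; exact hr)
  have : (⊤ : Subgroup SL(2, F)) ≤
      ((MulAut.conj (tor (1 : Fˣ) e)).toMonoidHom.comp (phi r)).eqLocus ((phi r).comp (cd d)) := by
    rw [← sl_gen, Subgroup.closure_le]
    rintro g (⟨t, rfl⟩ | ⟨t, rfl⟩)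
    · show tor 1 e * phi r _ * (tor 1 e)⁻¹ = phi r (cd d _)
      rw [cd_up, phi_up hr, phi_up hr, tor_xg _ _ hr, Units.val_one, one_zpow, one_mul, hd]
    · show tor 1 e * phi r _ * (tor 1 e)⁻¹ = phi r (cd d _)
      rw [cd_lo, phi_lo hr, phi_lo hr, tor_xg _ _ hnr, Units.val_one, one_zpow, one_mul, hd']
  exact this (Subgroup.mem_top s)

theorem tor_phi_seven (e : Fˣ) (s : SL(2, F)) :
    tor 1 e * phi 7 s * (tor 1 e)⁻¹ = phi 7 (cd e⁻¹ s) := by
  have h : chevG2.cartan 1 7 = -1 ∧ chevG2.cartan 1 (chevG2.neg 7) = 1 := by decide +kernel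
  exact tor_phi (by omega) e e⁻¹ (by simp [h.1]) (by simp [h.2]) s

theorem tor_phi_eleven (e : Fˣ) (s : SL(2, F)) :
    tor 1 e * phi 11 s * (tor 1 e)⁻¹ = phi 11 (cd e s) := by
  have h : chevG2.cartan 1 11 = 1 ∧ chevG2.cartan 1 (chevG2.neg 11) = -1 := by decide +kernel
  exact tor_phi (by omega) e e (by simp [h.1]) (by simp [h.2]) s

/-- pairs with inverse determinants -/
def Pairs (F : Type*) [Field F] : Subgroup (GL (Fin 2) F × GL (Fin 2) F) :=
  MonoidHom.ker (((Matrix.GeneralLinearGroup.det (n := Fin 2) (R := F)).comp (MonoidHom.fst _ _)) *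
    ((Matrix.GeneralLinearGroup.det (n := Fin 2) (R := F)).comp (MonoidHom.snd _ _)))

theorem mem_Pairs {g : GL (Fin 2) F × GL (Fin 2) F} :
    g ∈ Pairs F ↔ Matrix.GeneralLinearGroup.det g.1 * Matrix.GeneralLinearGroup.det g.2 = 1 :=
  Iff.rfl

/-- the homomorphism onto the subgroup -/
noncomputable def big : Pairs F →* GL chevG2.Idx F where
  toFun g := phi 7 (slc g.1.1) * phi 11 (slc g.1.2) * tor 1 (Matrix.GeneralLinearGroup.det g.1.2)
  map_one' := by
    rw [show slc ((1 : Pairs F) : GL (Fin 2) F × GL (Fin 2) F).1 = 1 from toGL_inj (by simp [toGL_slc]),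
      show slc ((1 : Pairs F) : GL (Fin 2) F × GL (Fin 2) F).2 = 1 from toGL_inj (by simp [toGL_slc])]
    simp [tor_one]
  map_mul' g g' := by
    have hs : ∀ a b : GL (Fin 2) F,
        slc (a * b) = slc a * cd (Matrix.GeneralLinearGroup.det a) (slc b) := fun a b =>
      toGL_inj (by simp only [toGL_slc, map_mul, toGL_cd]; group)
    have hd : ∀ g : Pairs F, Matrix.GeneralLinearGroup.det g.1.1 =
        (Matrix.GeneralLinearGroup.det g.1.2)⁻¹ := fun g => mul_eq_one_iff_eq_inv.1 (mem_Pairs.1 g.2)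
    simp only [Subgroup.coe_mul, Prod.fst_mul, Prod.snd_mul, hs, map_mul, hd]
    rw [← tor_phi_seven, ← tor_phi_eleven]
    rw [show tor (1 : Fˣ) (Matrix.GeneralLinearGroup.det g.1.2 * Matrix.GeneralLinearGroup.det g'.1.2) =
      tor 1 (Matrix.GeneralLinearGroup.det g.1.2) * tor 1 (Matrix.GeneralLinearGroup.det g'.1.2) by
        rw [tor_mul, one_mul]]
    set τ := tor 1 (Matrix.GeneralLinearGroup.det g.1.2)
    set τ' := tor 1 (Matrix.GeneralLinearGroup.det g'.1.2)
    set a := phi 7 (slc g.1.1)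
    set b := phi 11 (slc g.1.2)
    set a' := phi 7 (slc g'.1.1) with ha'
    set b' := phi 11 (slc g'.1.2)
    have hab : b * (τ * a' * τ⁻¹) = τ * a' * τ⁻¹ * b := by
      simp only [τ, a', b, tor_phi_seven]; exact (phi_comm _ _).symm
    calc a * (τ * a' * τ⁻¹) * (b * (τ * b' * τ⁻¹)) * (τ * τ')
        = a * ((τ * a' * τ⁻¹) * b) * (τ * b' * τ⁻¹) * (τ * τ') := by group
      _ = a * (b * (τ * a' * τ⁻¹)) * (τ * b' * τ⁻¹) * (τ * τ') := by rw [hab]
      _ = a * b * τ * (a' * b' * τ') := by group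

theorem big_apply (g : Pairs F) : big g =
    phi 7 (slc g.1.1) * phi 11 (slc g.1.2) * tor 1 (Matrix.GeneralLinearGroup.det g.1.2) := rfl

theorem big_mem (g : Pairs F) : big g ∈ chevG2.group F :=
  mul_mem (mul_mem (phi_mem (by omega) _) (phi_mem (by omega) _)) (tor_mem _ _)

/-- the pair of two elements of `SL₂` -/
def slPair : SL(2, F) × SL(2, F) →* Pairs F where
  toFun s := ⟨(s.1.toGL, s.2.toGL), mem_Pairs.2 (by simp [det_toGL])⟩
  map_one' := Subtype.ext (by simp)
  map_mul' a b := Subtype.ext (by simp)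

theorem big_slPair (s : SL(2, F) × SL(2, F)) : big (slPair s) = phi 7 s.1 * phi 11 s.2 := by
  have e : ∀ s : SL(2, F), slc s.toGL = s := fun s => toGL_inj (by simp [toGL_slc, det_toGL])
  rw [big_apply]
  show phi 7 (slc s.1.toGL) * phi 11 (slc s.2.toGL) * tor 1 (Matrix.GeneralLinearGroup.det s.2.toGL) = _
  rw [e, e, det_toGL, tor_one, mul_one]

/-- a diagonal pair giving a given torus element -/
def torPair (c0 c1 : Fˣ) : Pairs F :=
  ⟨((dT (c0 : F)).toGL * dd c1⁻¹, dd c1), mem_Pairs.2 (by simp [map_mul, det_toGL, det_dd])⟩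

theorem big_torPair (c0 c1 : Fˣ) : big (torPair c0 c1) = tor c0 c1 := by
  rw [big_apply]
  show phi 7 (slc ((dT (c0 : F)).toGL * dd c1⁻¹)) * phi 11 (slc (dd c1)) *
    tor 1 (Matrix.GeneralLinearGroup.det (dd c1)) = _
  rw [slc_toGL_mul_dd, det_dd, show slc (dd c1) = 1 from toGL_inj (by simp [toGL_slc, det_dd]),
    phi_dT (by omega), hg_seven c0.ne_zero, map_one, mul_one, tor_mul, Units.mk0_val, mul_one, one_mul]

end Cfsg.Agent.Lib.Chev.G2Odd
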