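/-!
Tables comparing the actions of G2(2) and of SU(3,3) on sixty-three points.
-/

set_option autoImplicit false

namespace Cfsg.Agent.Lib.Chev.G2Two

/-- the long root vectors of the adjoint module, as lists of codes -/
def ptCodes : List (List Nat) := [
  [2], [3], [2, 3], [7], [2, 7], [3, 4, 5, 7], [2, 3, 4, 5, 7], [8], [3, 8], [2, 4, 6, 8],
  [2, 3, 4, 6, 8], [1, 7, 8], [1, 2, 3, 7, 8], [1, 2, 4, 5, 6, 7, 8], [1, 3, 4, 5, 6, 7, 8],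
  [12], [0, 1, 3, 12], [7, 12], [0, 1, 2, 3, 7, 12], [2, 5, 9, 12], [0, 1, 2, 3, 4, 5, 9, 12],
  [2, 5, 7, 9, 12], [0, 1, 3, 4, 5, 7, 9, 12], [8, 10, 11, 12], [0, 1, 3, 6, 8, 10, 11, 12],
  [3, 4, 5, 7, 8, 10, 11, 12], [0, 1, 2, 4, 5, 6, 7, 8, 10, 11, 12],
  [1, 2, 3, 4, 5, 8, 9, 10, 11, 12], [0, 2, 3, 5, 6, 8, 9, 10, 11, 12], [1, 7, 8, 9, 10, 11, 12],
  [0, 2, 4, 6, 7, 8, 9, 10, 11, 12], [13], [0, 2, 13], [8, 13], [0, 2, 3, 8, 13], [3, 6, 10, 13],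
  [0, 2, 3, 4, 6, 10, 13], [3, 6, 8, 10, 13], [0, 2, 4, 6, 8, 10, 13], [7, 9, 11, 13],
  [0, 2, 5, 7, 9, 11, 13], [2, 4, 6, 7, 8, 9, 11, 13], [0, 3, 4, 5, 6, 7, 8, 9, 11, 13],
  [1, 2, 3, 4, 6, 7, 9, 10, 11, 13], [0, 1, 2, 3, 5, 6, 7, 9, 10, 11, 13],
  [1, 7, 8, 9, 10, 11, 13], [0, 1, 3, 4, 5, 7, 8, 9, 10, 11, 13], [12, 13], [0, 2, 7, 12, 13],
  [0, 1, 3, 8, 12, 13], [1, 7, 8, 12, 13], [2, 3, 5, 6, 9, 10, 12, 13],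
  [0, 3, 4, 5, 6, 7, 9, 10, 12, 13], [0, 1, 2, 4, 5, 6, 8, 9, 10, 12, 13],
  [1, 2, 3, 5, 6, 7, 8, 9, 10, 12, 13], [0, 2, 5, 9, 11, 12, 13], [7, 9, 11, 12, 13],
  [1, 2, 4, 5, 6, 8, 9, 11, 12, 13], [0, 1, 2, 3, 4, 6, 7, 8, 9, 11, 12, 13],
  [0, 1, 3, 6, 10, 11, 12, 13], [1, 3, 4, 5, 6, 7, 10, 11, 12, 13], [8, 10, 11, 12, 13],
  [0, 2, 3, 4, 5, 7, 8, 10, 11, 12, 13]]

/-- the permutations of the twelve root elements -/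
def ptPerms : List (List Nat) := [

  [0, 1, 2, 3, 4, 5, 6, 8, 7, 10, 9, 12, 11, 14, 13, 17, 18, 15, 16, 21, 22, 19, 20, 25, 26, 23, 24, 29, 30, 27, 28, 32, 31, 34, 33, 36, 35, 38, 37, 40, 39, 42, 41, 44, 43, 46, 45, 48, 47, 50, 49, 52, 51, 54, 53, 56, 55, 58, 57, 60, 59, 62, 61],
  [0, 1, 2, 4, 3, 6, 5, 7, 8, 9, 10, 12, 11, 14, 13, 16, 15, 18, 17, 20, 19, 22, 21, 24, 23, 26, 25, 28, 27, 30, 29, 33, 34, 31, 32, 37, 38, 35, 36, 41, 42, 39, 40, 45, 46, 43, 44, 49, 50, 47, 48, 53, 54, 51, 52, 57, 58, 55, 56, 61, 62, 59, 60],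
  [0, 1, 2, 3, 4, 6, 5, 7, 8, 10, 9, 11, 12, 14, 13, 19, 20, 21, 22, 15, 16, 17, 18, 27, 28, 29, 30, 23, 24, 25, 26, 35, 36, 37, 38, 31, 32, 33, 34, 43, 44, 45, 46, 39, 40, 41, 42, 51, 52, 53, 54, 47, 48, 49, 50, 59, 60, 61, 62, 55, 56, 57, 58],
  [0, 1, 2, 3, 4, 6, 5, 9, 10, 7, 8, 13, 14, 11, 12, 15, 16, 17, 18, 21, 22, 19, 20, 26, 25, 24, 23, 28, 27, 30, 29, 39, 40, 41, 42, 44, 43, 46, 45, 31, 32, 33, 34, 36, 35, 38, 37, 56, 55, 58, 57, 59, 60, 61, 62, 48, 47, 50, 49, 51, 52, 53, 54],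
  [0, 1, 2, 5, 6, 3, 4, 7, 8, 10, 9, 14, 13, 12, 11, 23, 24, 25, 26, 28, 27, 30, 29, 15, 16, 17, 18, 20, 19, 22, 21, 31, 32, 33, 34, 37, 38, 35, 36, 42, 41, 40, 39, 44, 43, 46, 45, 61, 62, 59, 60, 55, 56, 57, 58, 51, 52, 53, 54, 49, 50, 47, 48],
  [0, 2, 1, 3, 4, 6, 5, 11, 12, 13, 14, 7, 8, 9, 10, 15, 18, 17, 16, 19, 22, 21, 20, 29, 28, 27, 30, 25, 24, 23, 26, 47, 48, 50, 49, 51, 52, 54, 53, 56, 55, 57, 58, 60, 59, 61, 62, 31, 32, 34, 33, 35, 36, 38, 37, 40, 39, 41, 42, 44, 43, 45, 46],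
  [2, 1, 0, 11, 12, 14, 13, 7, 8, 10, 9, 3, 4, 6, 5, 47, 49, 50, 48, 51, 53, 54, 52, 61, 59, 60, 62, 57, 55, 56, 58, 31, 34, 33, 32, 35, 38, 37, 36, 45, 44, 43, 46, 41, 40, 39, 42, 15, 18, 16, 17, 19, 22, 20, 21, 28, 29, 27, 30, 24, 25, 23, 26],
  [0, 5, 6, 3, 4, 1, 2, 23, 25, 30, 28, 29, 27, 26, 24, 15, 22, 17, 20, 21, 18, 19, 16, 7, 14, 8, 13, 12, 10, 11, 9, 31, 32, 61, 62, 52, 51, 42, 41, 56, 55, 38, 37, 44, 43, 50, 49, 47, 48, 46, 45, 36, 35, 57, 58, 40, 39, 53, 54, 60, 59, 33, 34],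
  [9, 1, 10, 39, 41, 46, 44, 7, 8, 0, 2, 45, 43, 40, 42, 15, 16, 56, 58, 53, 51, 26, 25, 61, 59, 22, 21, 28, 27, 50, 48, 31, 38, 33, 36, 37, 34, 35, 32, 3, 13, 4, 14, 12, 6, 11, 5, 47, 30, 49, 29, 20, 60, 19, 62, 57, 17, 55, 18, 24, 52, 23, 54],
  [19, 35, 51, 3, 21, 60, 43, 7, 37, 57, 27, 11, 54, 41, 25, 15, 59, 17, 44, 0, 36, 4, 52, 61, 49, 14, 30, 10, 34, 45, 26, 31, 55, 33, 28, 1, 20, 8, 53, 56, 48, 13, 46, 6, 18, 29, 42, 47, 40, 24, 50, 2, 22, 38, 12, 32, 39, 9, 62, 16, 5, 23, 58],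
  [4, 16, 18, 3, 0, 22, 20, 33, 49, 41, 58, 50, 34, 57, 42, 15, 1, 17, 2, 21, 6, 19, 5, 61, 37, 46, 53, 62, 54, 45, 38, 31, 48, 7, 12, 59, 43, 24, 30, 39, 55, 9, 14, 36, 51, 29, 25, 47, 32, 8, 11, 44, 60, 26, 28, 40, 56, 13, 10, 35, 52, 23, 27],
  [32, 8, 34, 17, 48, 25, 62, 7, 1, 38, 36, 50, 18, 26, 60, 15, 49, 3, 12, 55, 27, 40, 46, 23, 59, 5, 13, 20, 51, 45, 41, 31, 0, 33, 2, 37, 10, 35, 9, 56, 21, 30, 52, 58, 54, 29, 22, 47, 4, 16, 11, 28, 42, 57, 44, 19, 39, 53, 43, 24, 14, 61, 6]]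

/-- the anisotropic points, coordinates coded as `a + 3 b` for `a + b i` -/
def uPts : List (List Nat) := [
  [1, 4, 6], [1, 5, 4], [1, 1, 7], [1, 8, 6], [1, 0, 3], [1, 7, 5], [1, 3, 8], [1, 8, 2],
  [1, 6, 5], [0, 1, 3], [1, 7, 8], [1, 8, 8], [1, 7, 1], [1, 1, 5], [1, 2, 0], [1, 7, 4],
  [0, 1, 0], [1, 2, 7], [1, 0, 6], [1, 5, 5], [1, 5, 6], [1, 6, 8], [1, 7, 6], [1, 5, 7],
  [1, 5, 2], [0, 1, 1], [1, 8, 7], [1, 3, 4], [1, 2, 4], [1, 6, 0], [1, 8, 1], [1, 4, 2],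
  [1, 4, 8], [1, 0, 1], [1, 7, 3], [1, 7, 7], [1, 3, 0], [1, 2, 8], [1, 6, 7], [0, 1, 6],
  [1, 2, 5], [1, 0, 0], [1, 8, 3], [1, 4, 1], [1, 4, 7], [1, 3, 7], [1, 8, 5], [1, 3, 5],
  [1, 5, 1], [1, 0, 2], [1, 5, 3], [0, 1, 2], [1, 6, 4], [1, 4, 5], [1, 4, 4], [1, 1, 0],
  [1, 5, 8], [1, 4, 3], [0, 0, 1], [1, 7, 2], [1, 1, 4], [1, 1, 8], [1, 8, 4]]

/-- the isotropic points -/
def uIso : List (List Nat) := [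
  [0, 1, 4], [0, 1, 5], [0, 1, 7], [0, 1, 8], [1, 0, 4], [1, 0, 5], [1, 0, 7], [1, 0, 8],
  [1, 1, 1], [1, 1, 2], [1, 1, 3], [1, 1, 6], [1, 2, 1], [1, 2, 2], [1, 2, 3], [1, 2, 6],
  [1, 3, 1], [1, 3, 2], [1, 3, 3], [1, 3, 6], [1, 4, 0], [1, 5, 0], [1, 6, 1], [1, 6, 2],
  [1, 6, 3], [1, 6, 6], [1, 7, 0], [1, 8, 0]]

/-- words in root elements acting as the transvections with parameters `i` and `-i` -/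
def uWords : List (List (List Nat)) := [
  [[5, 1, 7, 4], [4, 7, 1, 5]], [[0, 8, 0, 9], [9, 0, 8, 0]], [[5, 8, 5, 4], [4, 5, 8, 5]],
  [[2, 0, 9, 0], [0, 9, 2, 0]], [[3, 8], [8, 3]], [[8, 1, 0, 9, 1, 0], [2, 8, 0, 9, 2, 0]],
  [[5, 0, 8, 5, 3, 0], [5, 3, 0, 8, 5, 0]], [[4, 0, 10, 6, 7, 0], [7, 0, 6, 10, 4, 0]],
  [[8, 0, 9, 0], [0, 9, 0, 8]], [[9, 1, 7, 1], [1, 7, 1, 9]], [[9, 1, 11, 2], [4, 2, 9, 4]],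
  [[7, 1, 0, 9, 1, 0], [1, 0, 9, 1, 7, 0]], [[6, 0, 8, 3], [3, 8, 0, 6]],
  [[4, 1, 7, 1], [1, 7, 4, 1]], [[4, 10, 6, 7], [7, 6, 10, 4]],
  [[2, 1, 0, 9, 1, 0], [1, 0, 9, 2, 1, 0]], [[9, 0, 10, 2], [3, 2, 9, 3]],
  [[5, 0, 8, 5, 4, 0], [4, 5, 0, 8, 5, 0]], [[0, 8, 3, 0], [3, 0, 8, 0]],
  [[1, 9, 2, 1], [2, 1, 9, 1]], [[4, 7], [7, 4]], [[2, 3, 8, 2], [2, 8, 3, 2]],
  [[2, 4, 7, 2], [2, 7, 4, 2]], [[3, 9, 0, 8, 3, 0], [9, 5, 0, 8, 5, 0]],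
  [[5, 8, 5, 3], [5, 3, 8, 5]], [[1, 9, 1, 7], [7, 1, 9, 1]], [[7, 3, 8, 7], [8, 5, 11, 3]],
  [[9, 2], [2, 9]]]

end Cfsg.Agent.Lib.Chev.G2Two
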