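import Cfsg.Agent.Lib.Chev.Extra
import Cfsg.Agent.Lib.Chev.SLTwoHom
import Cfsg.Agent.Lib.Chev.Order

/-!
Over a finite field of odd characteristic every involution of a split Chevalley group with injective
torus parametrisation is conjugate to a diagonal element.
-/

set_option autoImplicit false

namespace Cfsg.Agent.Lib.Chev

open Cfsg.Lie Cfsg.Agent.Lib
open scoped MatrixGroups

/-- Two nodes with even Cartan integers both ways are orthogonal, and their root elements commute. -/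
def orthChk (T : Fast) : Bool :=
  allBelow T.l fun a => allBelow T.l fun b =>
    Nat.beq a b || (T.A a (T.sp b)).natAbs % 2 == 1 || (T.A b (T.sp a)).natAbs % 2 == 1 ||
      (T.A a (T.sp b) == 0 && Nat.beq (T.w a (T.sp b)) (T.sp b) && !T.en a (T.sp b))

section Field

variable {F : Type*} [Field F] [Fintype F]

theorem isSquare_mul_of_not (h2 : (2 : F) ≠ 0) {a b : F} (ha : ¬ IsSquare a) (hb : ¬ IsSquare b) :
    IsSquare (a * b) := by
  classical
  have hF : ringChar F ≠ 2 := by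
    intro h
    apply h2
    have : CharP F 2 := by rw [← h]; exact ringChar.charP F
    exact CharTwo.two_eq_zero
  have ha0 : a ≠ 0 := by rintro rfl; exact ha IsSquare.zero
  have hb0 : b ≠ 0 := by rintro rfl; exact hb IsSquare.zero
  rw [← quadraticChar_one_iff_isSquare (mul_ne_zero ha0 hb0), map_mul,
    quadraticChar_neg_one_iff_not_isSquare.2 ha, quadraticChar_neg_one_iff_not_isSquare.2 hb]
  norm_num

theorem exists_nonsquare_one_sub (h2 : (2 : F) ≠ 0) {c : F} (hc : ¬ IsSquare c) :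
    ∃ a : F, ¬ IsSquare (1 - a ^ 2 / c) ∧ 1 - a ^ 2 / c ≠ 0 := by
  open Polynomial in
  classical
  have hc0 : c ≠ 0 := by rintro rfl; exact hc IsSquare.zero
  have hcard : Fintype.card F % 2 = 1 := by
    refine FiniteField.odd_card_of_char_ne_two fun h => h2 ?_
    have : CharP F 2 := by rw [← h]; exact ringChar.charP F
    exact CharTwo.two_eq_zero
  obtain ⟨a, b, hab⟩ := FiniteField.exists_root_sum_quadratic
    (f := (Polynomial.X : F[X]) ^ 2 - Polynomial.C c) (g := (X : F[X]) ^ 2) (degree_X_pow_sub_C two_pos c)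
    (degree_X_pow 2) hcard
  simp only [eval_sub, eval_pow, eval_X, eval_C] at hab
  have hb : b ≠ 0 := fun h => hc ⟨a, by rw [h] at hab; linear_combination -hab⟩
  have e : 1 - a ^ 2 / c = b ^ 2 * c⁻¹ := by field_simp; linear_combination -hab
  refine ⟨a, fun ⟨r, hr⟩ => hc ?_, ?_⟩
  · rw [e] at hr
    have hr0 : r ≠ 0 := by
      rintro rfl
      rw [mul_zero, mul_eq_zero] at hr
      exact hr.elim (pow_ne_zero 2 hb) (inv_ne_zero hc0)
    refine ⟨b / r, ?_⟩
    field_simp at hr ⊢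
    linear_combination -hr
  · rw [e]; exact mul_ne_zero (pow_ne_zero 2 hb) (inv_ne_zero hc0)

theorem not_isSquare_zpow_odd {c : F} (hc : ¬ IsSquare c) {k : ℤ} (hk : Odd k) :
    ¬ IsSquare (c ^ k) := by
  obtain ⟨m, rfl⟩ := hk
  have hc0 : c ≠ 0 := by rintro rfl; exact hc IsSquare.zero
  rintro ⟨r, hr⟩
  refine hc ⟨r * (c ^ m)⁻¹, ?_⟩
  have hm : c ^ m ≠ 0 := zpow_ne_zero _ hc0
  rw [show 2 * m + 1 = m + m + 1 by ring, zpow_add₀ hc0, zpow_add₀ hc0, zpow_one] at hr
  field_simp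
  linear_combination hr

end Field

namespace RootPair

variable {G F : Type*} [Group G] [Field F] {X Y : F → G} (P : RootPair X Y)
include P

/-- The passage from `Y X` to `X H Y`. -/
theorem Y_mul_X {a b l : F} (hl : l = 1 + a * b) (h0 : l ≠ 0) :
    Y a * X b = X (b / l) * P.hEl l⁻¹ * Y (a / l) := by
  obtain ⟨φ, -, hφ⟩ := P.exists_hom
  have e : loT a * upT b = upT (b / l) *
      ((upT l⁻¹ * loT (-l) * upT l⁻¹) * (upT (-1) * loT 1 * upT (-1))) * loT (a / l) := by
    ext i j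
    fin_cases i <;> fin_cases j <;>
      simp [val_upT, val_loT, Matrix.SpecialLinearGroup.coe_mul, Matrix.mul_apply, Fin.sum_univ_two] <;>
      field_simp <;> (try rw [hl]) <;> ring
  have h := congrArg φ e
  simp only [map_mul, fun t => (hφ t).1, fun t => (hφ t).2] at h
  rw [P.hEl_eq, inv_inv]
  exact h

end RootPair

namespace Checked

variable {D : ChevalleyDatum} {T : Fast} (C : Checked D T) {F : Type*} [Field F]
include C

theorem ncard_inv_inv {g : GL D.Idx F} (hg : g ∈ D.monomialSubgroup F) :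
    (C.inv g⁻¹).ncard = (C.inv g).ncard := by
  rw [← C.len_eq (inv_mem hg), ← C.len_eq hg, ← C.cls_toN_inv hg, C.len_inv]

theorem ncard_inv_mul_ng {i : ℕ} (hi : i < D.rank) {m : GL D.Idx F} (hm : m ∈ D.monomialSubgroup F)
    (hneg : D.IsNegRoot (C.sg m (D.simple i))) :
    (C.inv (m * C.ng i)).ncard + 1 = (C.inv m).ncard := by
  have R := C.root
  have hp := R.simple_lt i hi
  have hm' := mul_mem hm (C.ng_mem (F := F) hi)
  have h1 : C.sg (m * C.ng i) (D.simple i) = D.neg (C.sg m (D.simple i)) := by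
    rw [C.sg_mul hm (C.ng_mem hi) hp, C.sg_ng hi hp, R.refl_simple hi, C.sg_neg hm hp]
  have h := C.inv_step hi hm' (by rw [h1, C.neg_pos_iff (C.sg_lt hm hp)]; exact hneg)
  rw [← h]
  congr 1
  refine C.inv_congr fun r hr => ?_
  rw [C.sg_mul hm' (C.ng_mem hi) hr, C.sg_mul hm (C.ng_mem hi) (C.sg_lt (C.ng_mem hi) hr),
    C.sg_ng hi hr, C.sg_ng hi (R.refl_lt i hi r hr), R.refl_refl i hi r hr]

theorem coef_sg {g : GL D.Idx F} (hg : g ∈ D.monomialSubgroup F) {r : ℕ} (hr : r < D.nroots)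
    {j : ℕ} (hj : j < D.rank) :
    T.aux.coef (C.sg g r) j =
      ∑ k ∈ Finset.range D.rank, T.aux.coef r k * T.aux.coef (C.sg g (D.simple k)) j := by
  obtain ⟨τ, h⟩ := C.sg_spec hg
  exact h.lin r hr j hj

theorem root_ext {r s : ℕ} (hr : r < D.nroots) (hs : s < D.nroots)
    (h : ∀ j < D.rank, T.aux.coef r j = T.aux.coef s j) : r = s := by
  refine C.root.key_inj hr hs ?_
  rw [C.root.key_eq r hr, C.root.key_eq s hs]
  exact enc_congr h

theorem pos_of_coef_pos {r : ℕ} (hr : r < D.nroots) {k : ℕ} (hk : k < D.rank)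
    (h : 0 < T.aux.coef r k) : D.IsPosRoot r := by
  refine (C.key_trichotomy hr).resolve_right fun hneg => ?_
  have := C.coef_nonneg ((C.neg_pos_iff hr).2 hneg) hk
  rw [C.root.coef_neg hr hk] at this
  linarith

theorem chrOf_refl (c : Fin D.rank → Fˣ) {j : ℕ} (hj : j < D.rank) {v : ℕ} (hv : v < D.nroots) :
    C.chrOf c (D.reflectRoot j v) = C.chrOf c v * C.chrOf c (D.simple j) ^ (-D.cartan j v) := by
  have R := C.root
  have hw := R.refl_lt j hj v hv
  have key : ∀ i < D.rank, D.cartan i (D.reflectRoot j v) =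
      D.cartan i v - D.cartan j v * D.cartan i (D.simple j) := by
    intro i hi
    rw [R.cartan_lin i hi _ hw, R.cartan_lin i hi v hv, Finset.sum_congr rfl fun k hk => by
      rw [R.coef_refl hj hv (Finset.mem_range.1 hk)]]
    simp only [sub_mul, Finset.sum_sub_distrib, mul_ite, mul_one, mul_zero, ite_mul, zero_mul,
      Finset.sum_ite_eq', Finset.mem_range, hj, if_true]
  simp only [chrOf]
  rw [← Units.val_zpow_eq_zpow_val, ← Units.val_mul]
  congr 1
  rw [← Finset.prod_zpow, ← Finset.prod_mul_distrib]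
  refine Finset.prod_congr rfl fun i _ => ?_
  rw [← zpow_mul, ← zpow_add, key i i.2]
  congr 1; ring

theorem chrOf_single {j : Fin D.rank} (u : Fˣ) (v : ℕ) :
    C.chrOf (Pi.mulSingle j u) v = (u : F) ^ D.cartan j v := by
  simp only [chrOf]
  rw [Fintype.prod_eq_single j fun i hi => by rw [Pi.mulSingle_eq_of_ne hi, one_zpow],
    Pi.mulSingle_eq_same, Units.val_zpow_eq_zpow_val]

theorem chrOf_mul (c d : Fin D.rank → Fˣ) (v : ℕ) :
    C.chrOf (c * d) v = C.chrOf c v * C.chrOf d v := by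
  simp only [chrOf, Pi.mul_apply, mul_zpow, Finset.prod_mul_distrib, Units.val_mul]

theorem chrOf_ne (c : Fin D.rank → Fˣ) (v : ℕ) : C.chrOf c v ≠ 0 := Units.ne_zero _

theorem isChr_chrOf (c : Fin D.rank → Fˣ) : ∃ χ : ℕ → F, IsChr D χ ∧
    ∀ v < D.nroots, C.chrOf c v = χ v := by
  have hmem : C.torus c ∈ D.diagonalSubgroup F := by
    rw [← C.range_torusHom]; exact ⟨c, rfl⟩
  obtain ⟨χ, h1, e⟩ := C.exists_chr hmem
  rw [C.val_torus] at e
  exact ⟨χ, h1, dg_inj e⟩

theorem torus_mem (c : Fin D.rank → Fˣ) : C.torus c ∈ D.diagonalSubgroup F := by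
  rw [← C.range_torusHom]; exact ⟨c, rfl⟩

theorem torus_mul (c d : Fin D.rank → Fˣ) : C.torus (c * d) = C.torus c * C.torus d :=
  map_mul (C.torusHom (F := F)) c d

theorem torus_xg (c : Fin D.rank → Fˣ) {r : ℕ} (hr : r < D.nroots) (t : F) :
    C.torus c * C.xg r t * (C.torus c)⁻¹ = C.xg r (C.chrOf c r * t) := by
  obtain ⟨χ, h1, h2⟩ := C.isChr_chrOf c
  rw [h2 r hr]
  refine C.conj_xg_of_dg h1 ?_ hr t
  rw [C.val_torus]
  exact dg_congr h2

theorem ng_torus {j : ℕ} (hj : j < D.rank) (c : Fin D.rank → Fˣ) :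
    C.ng j * C.torus c = C.torus (c * Pi.mulSingle ⟨j, hj⟩
      (Units.mk0 _ (C.chrOf_ne c (D.simple j)))⁻¹) * C.ng j := by
  refine Units.ext ?_
  simp only [Units.val_mul, val_ng, C.val_torus]
  rw [C.nMat_dg hj]
  congr 1
  refine dg_congr fun v hv => ?_
  rw [C.chrOf_mul, C.chrOf_single, C.chrOf_refl c hj hv, zpow_neg, Units.val_inv_eq_inv_val,
    Units.val_mk0, inv_zpow]

theorem ng_sq {j : ℕ} (hj : j < D.rank) :
    (C.ng j : GL D.Idx F) * C.ng j = C.torus (Pi.mulSingle ⟨j, hj⟩ (-1 : Fˣ)) := by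
  have hp := C.root.simple_lt j hj
  have e : (C.ng j : GL D.Idx F) * C.ng j = C.hg (D.simple j) (-1) := by
    have e := C.nWord_eq_hg_mul (F := F) (i := j) (-1)
    rw [← C.ng_inv] at e
    have h1 : C.hg (D.simple j) (-1 : F) * C.hg (D.simple j) (-1 : F) = 1 := by
      rw [C.hg_mul hp (neg_ne_zero.2 one_ne_zero) (neg_ne_zero.2 one_ne_zero), neg_one_mul, neg_neg]
      refine Units.ext ?_
      rw [C.val_hg, C.hMat_eq hp one_ne_zero, Units.val_one, ← dg_one]
      exact dg_congr fun v _ => one_zpow _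
    calc (C.ng j : GL D.Idx F) * C.ng j
        = (C.hg (D.simple j) (-1 : F) * (C.hg (D.simple j) (-1 : F) * C.ng j)) * C.ng j := by
          rw [← mul_assoc, h1, one_mul]
      _ = _ := by rw [← e, mul_assoc, inv_mul_cancel, mul_one]
  rw [e]
  refine Units.ext ?_
  rw [C.val_hg, C.hMat_simple hj (neg_ne_zero.2 one_ne_zero), C.val_torus]
  refine dg_congr fun v _ => ?_
  rw [C.chrOf_single, Units.val_neg, Units.val_one]

theorem ng_fix {a b : ℕ} (ha : a < D.rank) (hb : b < D.rank)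
    (hw : D.reflectRoot a (D.simple b) = D.simple b) (he : T.en a (D.simple b) = false) (t : F) :
    C.ng a * C.xg (D.simple b) t = C.xg (D.simple b) t * C.ng a := by
  rw [C.ng_xg ha (C.root.simple_lt b hb), hw, eta, he]
  simp [sgn]

theorem ng_fix_neg {a b : ℕ} (ha : a < D.rank) (hb : b < D.rank)
    (hw : D.reflectRoot a (D.simple b) = D.simple b) (he : T.en a (D.simple b) = false) (t : F) :
    C.ng a * C.xg (D.neg (D.simple b)) t = C.xg (D.neg (D.simple b)) t * C.ng a := by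
  have hp := C.root.simple_lt b hb
  rw [C.ng_xg ha (C.root.neg_lt _ hp), C.root.refl_neg' ha hp, hw, eta,
    show T.en a (D.neg (D.simple b)) = T.en a (D.simple b) from C.root.en_neg a ha _ hp, he]
  simp [sgn]

theorem ng_comm {a b : ℕ} (ha : a < D.rank) (hb : b < D.rank)
    (hw : D.reflectRoot a (D.simple b) = D.simple b) (he : T.en a (D.simple b) = false) :
    (C.ng a : GL D.Idx F) * C.ng b = C.ng b * C.ng a := by
  have h1 := fun t : F => (C.ng_fix ha hb hw he t : Commute _ _)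
  have h2 := fun t : F => (C.ng_fix_neg ha hb hw he t : Commute _ _)
  have e : (C.ng b : GL D.Idx F) =
      C.xg (D.simple b) 1 * C.xg (D.neg (D.simple b)) (-(1 : F)⁻¹) * C.xg (D.simple b) 1 := by
    simp only [ng, ChevalleyDatum.nWord, C.wg_cons, C.wg_nil, mul_one, ← mul_assoc]
  rw [e]
  exact Commute.mul_right (Commute.mul_right (h1 1) (h2 _)) (h1 1)

/-- A list of pairwise orthogonal nodes. -/
def OList (_ : Checked D T) (l : List ℕ) : Prop :=
  l.Nodup ∧ (∀ a ∈ l, a < D.rank) ∧ ∀ a ∈ l, ∀ b ∈ l, a ≠ b →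
    D.cartan a (D.simple b) = 0 ∧ D.reflectRoot a (D.simple b) = D.simple b ∧
      T.en a (D.simple b) = false

theorem olist_tail {a : ℕ} {l : List ℕ} (h : C.OList (a :: l)) :
    C.OList l ∧ a ∉ l ∧ a < D.rank := by
  obtain ⟨h1, h2, h3⟩ := h
  rw [List.nodup_cons] at h1
  exact ⟨⟨h1.2, fun b hb => h2 b (by simp [hb]), fun b hb c hc => h3 b (by simp [hb]) c (by simp [hc])⟩,
    h1.1, h2 a (by simp)⟩

theorem prod_ng_mem : ∀ (l : List ℕ), C.OList l →
    (l.map fun a => (C.ng a : GL D.Idx F)).prod ∈ D.monomialSubgroup F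
  | [], _ => by simp
  | a :: l, h => by
    obtain ⟨hl, -, ha⟩ := C.olist_tail h
    rw [List.map_cons, List.prod_cons]
    exact mul_mem (C.ng_mem ha) (prod_ng_mem l hl)

theorem prod_ng_comm {a : ℕ} : ∀ (l : List ℕ), C.OList (a :: l) →
    Commute (C.ng a : GL D.Idx F) (l.map fun a => (C.ng a : GL D.Idx F)).prod := fun l h => by
  obtain ⟨hn, hlt, h3⟩ := h
  refine Commute.list_prod_right _ _ fun x hx => ?_
  obtain ⟨b, hb, rfl⟩ := List.mem_map.1 hx
  have hab : a ≠ b := fun e => (List.nodup_cons.1 hn).1 (e ▸ hb)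
  obtain ⟨-, hw, he⟩ := h3 a (by simp) b (by simp [hb]) hab
  exact C.ng_comm (hlt a (by simp)) (hlt b (by simp [hb])) hw he

theorem coef_prod_ng : ∀ (l : List ℕ), C.OList l → ∀ {r : ℕ}, r < D.nroots → ∀ {k : ℕ}, k < D.rank →
    T.aux.coef (C.sg (l.map fun a => (C.ng a : GL D.Idx F)).prod r) k =
      T.aux.coef r k - (if k ∈ l then D.cartan k r else 0)
  | [], _, r, hr, k, _ => by simp [C.sg_one hr]
  | a :: l, h, r, hr, k, hk => by
    obtain ⟨hl, hal, ha⟩ := C.olist_tail h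
    have hm := C.prod_ng_mem (F := F) l hl
    have hx := C.sg_lt hm hr
    have ih := fun k hk => coef_prod_ng l hl hr (k := k) hk
    rw [List.map_cons, List.prod_cons, C.sg_mul (C.ng_mem ha) hm hr, C.sg_ng ha hx,
      C.root.coef_refl ha hx hk, ih k hk]
    have hc : D.cartan a (C.sg (l.map fun a => (C.ng a : GL D.Idx F)).prod r) = D.cartan a r := by
      rw [C.root.cartan_lin a ha _ hx, C.root.cartan_lin a ha r hr]
      refine Finset.sum_congr rfl fun j hj => ?_
      rw [ih j (Finset.mem_range.1 hj)]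
      split_ifs with hjl
      · rw [(h.2.2 a (by simp) j (by simp [hjl]) fun e => hal (e ▸ hjl)).1, mul_zero, mul_zero]
      · rw [sub_zero]
    rw [hc]
    by_cases hka : k = a
    · subst hka; simp [hal]
    · simp [hka]

theorem prod_ng_torus : ∀ (l : List ℕ), C.OList l → ∀ c : Fin D.rank → Fˣ,
    ∃ d : Fin D.rank → Fˣ,
      (l.map fun a => (C.ng a : GL D.Idx F)).prod * C.torus c *
        (l.map fun a => (C.ng a : GL D.Idx F)).prod = C.torus d ∧
      ∀ k : Fin D.rank, d k = if k.val ∈ l then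
        -(c k * (Units.mk0 _ (C.chrOf_ne c (D.simple k.val)))⁻¹) else c k
  | [], _, c => ⟨c, by simp, fun k => by simp⟩
  | a :: l, h, c => by
    obtain ⟨hl, hal, ha⟩ := C.olist_tail h
    obtain ⟨d, hd, hdk⟩ := prod_ng_torus l hl c
    set Q := (l.map fun a => (C.ng a : GL D.Idx F)).prod
    have hcm : C.ng a * Q = Q * C.ng a := (C.prod_ng_comm l h).eq
    refine ⟨d * Pi.mulSingle ⟨a, ha⟩ (Units.mk0 _ (C.chrOf_ne d (D.simple a)))⁻¹ *
      Pi.mulSingle ⟨a, ha⟩ (-1), ?_, fun k => ?_⟩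
    · rw [List.map_cons, List.prod_cons]
      calc C.ng a * Q * C.torus c * (C.ng a * Q) = C.ng a * (Q * C.torus c * Q) * C.ng a := by
            nth_rw 2 [hcm]; group
        _ = _ := by
            rw [hd, C.ng_torus ha, mul_assoc, C.ng_sq ha, ← C.torus_mul]
    · have hchr : C.chrOf d (D.simple a) = C.chrOf c (D.simple a) := by
        simp only [chrOf]
        congr 1
        refine Finset.prod_congr rfl fun i _ => ?_
        rw [hdk i]
        split_ifs with hi
        · have hia : (i : ℕ) ≠ a := fun e => hal (e ▸ hi)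
          have := (h.2.2 i (by simp [hi]) a (by simp) hia).1
          rw [this, zpow_zero, zpow_zero]
        · rfl
      by_cases hka : k = ⟨a, ha⟩
      · subst hka
        simp only [Pi.mul_apply, Pi.mulSingle_eq_same, List.mem_cons, true_or, if_true]
        rw [hdk ⟨a, ha⟩, if_neg hal]
        ext
        simp [hchr]
      · have hne : k.val ≠ a := fun e => hka (Fin.ext e)
        simp only [Pi.mul_apply, Pi.mulSingle_eq_of_ne hka, mul_one, List.mem_cons, hne, false_or]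
        exact hdk k

/-- Conjugation by an involution in `N` on a root it negates. -/
theorem invol_conj {m : GL D.Idx F} (hm : m ∈ D.monomialSubgroup F) (h2 : m * m = 1) {r : ℕ}
    (hr : r < D.nroots) (hs : C.sg m r = D.neg r) :
    ∃ c : F, c ≠ 0 ∧ (∀ t, m * C.xg r t = C.xg (D.neg r) (c * t) * m) ∧
      ∀ t, m * C.xg (D.neg r) t = C.xg r (c⁻¹ * t) * m := by
  obtain ⟨τ, h⟩ := C.sg_spec hm
  obtain ⟨c, hc, e⟩ := C.mo_conj h hr
  rw [hs] at e
  have hinv : m⁻¹ = m := inv_eq_of_mul_eq_one_left h2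
  refine ⟨c, hc, fun t => ?_, fun t => ?_⟩
  · rw [← e t, inv_mul_cancel_right]
  · have h1 := e (c⁻¹ * t)
    rw [← mul_assoc, mul_inv_cancel₀ hc, one_mul] at h1
    calc m * C.xg (D.neg r) t = m * (m * C.xg r (c⁻¹ * t) * m⁻¹) := by rw [h1]
      _ = _ := by rw [hinv, ← mul_assoc, ← mul_assoc, h2, one_mul]

/-- An element inverted root subgroup: descent. -/
theorem conj_shorter_of_square [Fintype F] (h2F : (2 : F) ≠ 0) {m : GL D.Idx F}
    (hm : m ∈ D.monomialSubgroup F) (h2 : m * m = 1) {i : ℕ} (hi : i < D.rank)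
    (hs : C.sg m (D.simple i) = D.neg (D.simple i)) {c : F} (hc : c ≠ 0) (hsq : IsSquare c)
    (h1 : ∀ t, m * C.xg (D.simple i) t = C.xg (D.neg (D.simple i)) (c * t) * m)
    (h1' : ∀ t, m * C.xg (D.neg (D.simple i)) t = C.xg (D.simple i) (c⁻¹ * t) * m) :
    ∃ y ∈ D.group F, y * m * y⁻¹ ∈ D.monomialSubgroup F ∧
      (C.inv (y * m * y⁻¹)).ncard < (C.inv m).ncard := by
  have R := C.root
  have hp := R.simple_lt i hi
  have hnp := R.neg_lt _ hp
  let X : F → GL D.Idx F := fun t => C.xg (D.simple i) t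
  let Y : F → GL D.Idx F := fun t => C.xg (D.neg (D.simple i)) t
  have P : RootPair X Y := C.rootPair R.en_simple hp
  have hX : ∀ t, m * X t = Y (c * t) * m := h1
  have hY : ∀ t, m * Y t = X (c⁻¹ * t) * m := h1'
  obtain ⟨r, hr⟩ := hsq
  have hr0 : r ≠ 0 := by rintro rfl; exact hc (by rw [hr, mul_zero])
  set s := r⁻¹ with hsdef
  have hs0 : s ≠ 0 := inv_ne_zero hr0
  have hcs : c * s = s⁻¹ := by rw [hr, hsdef, inv_inv]; field_simp
  set n' := P.nEl s * m with hn'
  have hn'Y : ∀ t, n' * Y t = Y (-t) * n' := fun t => by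
    rw [hn', mul_assoc, hY, ← mul_assoc,
      show P.nEl s * X (c⁻¹ * t) = Y (-(s⁻¹ ^ 2 * (c⁻¹ * t))) * P.nEl s from
        mul_inv_eq_iff_eq_mul.1 (P.n_conj hs0 _), mul_assoc,
      show s⁻¹ ^ 2 * (c⁻¹ * t) = t by rw [hr, hsdef, inv_inv]; field_simp]
  have hg1 : X s * m * (X s)⁻¹ = n' * Y (-(c * s)) := by
    rw [P.X_inv, mul_assoc, hX, ← mul_assoc, hn', mul_assoc (P.nEl s)]
    have e1 : P.nEl s = X s * Y (-s⁻¹) * X s := rfl
    have e2 : m * Y (-(c * s)) = X (-s) * m := by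
      rw [hY, mul_neg, inv_mul_cancel_left₀ hc]
    rw [e2, e1, ← mul_assoc, mul_assoc (X s * Y (-s⁻¹)), P.X_add, add_neg_cancel, P.X_zero, mul_one,
      mul_neg, hcs]
  have hnm : n' = C.hg (D.simple i) s * C.ng i * m := by
    rw [hn', ← C.nWord_eq_hg_mul]
    congr 1
    simp only [RootPair.nEl, X, Y, ChevalleyDatum.nWord, C.wg_cons, C.wg_nil, mul_one, ← mul_assoc]
  have hH : C.hg (D.simple i) s ∈ D.diagonalSubgroup F := C.hg_mem hp hs0
  have hmem : n' ∈ D.monomialSubgroup F := by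
    rw [hnm]; exact mul_mem (mul_mem (C.diag_le_monomial hH) (C.ng_mem hi)) hm
  have hy : Y (-(c * s) / 2) * X s ∈ D.group F :=
    mul_mem (C.xg_mem_group hnp _) (C.xg_mem_group hp _)
  have hgm : Y (-(c * s) / 2) * X s * m * (Y (-(c * s) / 2) * X s)⁻¹ = n' := by
    calc Y (-(c * s) / 2) * X s * m * (Y (-(c * s) / 2) * X s)⁻¹
        = Y (-(c * s) / 2) * (X s * m * (X s)⁻¹) * (Y (-(c * s) / 2))⁻¹ := by group
      _ = (Y (-(c * s) / 2) * n') * (Y (-(c * s)) * Y (-(-(c * s) / 2))) := by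
          rw [hg1, P.Y_inv]; group
      _ = n' := by
          rw [show Y (-(c * s) / 2) * n' = n' * Y (-(-(c * s) / 2)) by rw [hn'Y, neg_neg],
            mul_assoc, P.Y_add, P.Y_add]
          have : -(-(c * s) / 2) + (-(c * s) + -(-(c * s) / 2)) = (0 : F) := by field_simp; ring
          rw [this, P.Y_zero, mul_one]
  refine ⟨_, hy, hgm ▸ hmem, ?_⟩
  rw [hgm]
  have hneg : D.IsNegRoot (C.sg m (D.simple i)) := by
    rw [hs, C.neg_neg_iff hp]; exact R.pos_simple hi
  have e : (C.inv n').ncard = (C.inv (m * C.ng i)).ncard := by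
    rw [← C.ncard_inv_inv hmem]
    refine congrArg Set.ncard (C.inv_congr fun x hx => ?_)
    have hinv : m⁻¹ = m := inv_eq_of_mul_eq_one_left h2
    have hng : ∀ z < D.nroots, C.sg (C.ng i : GL D.Idx F)⁻¹ z = D.reflectRoot i z := fun z hz => by
      have := C.sg_inv_sg (C.ng_mem (F := F) hi) (R.refl_lt i hi z hz)
      rwa [C.sg_ng hi (R.refl_lt i hi z hz), R.refl_refl i hi z hz] at this
    rw [hnm, mul_inv_rev, mul_inv_rev, hinv, ← mul_assoc,
      C.sg_mul (mul_mem hm (inv_mem (C.ng_mem hi))) (inv_mem (C.diag_le_monomial hH)) hx,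
      C.sg_diag (inv_mem hH) hx, C.sg_mul hm (inv_mem (C.ng_mem hi)) hx, hng x hx,
      C.sg_mul hm (C.ng_mem hi) hx, C.sg_ng hi hx]
  have := C.ncard_inv_mul_ng hi hm hneg
  omega

/-- An involution in `N` outside `H` has a shorter monomial conjugate. -/
theorem exists_shorter [Fintype F] (h2F : (2 : F) ≠ 0) (hchk : orthChk T = true)
    (hinj : ∀ d : Fin D.rank → Fˣ, C.torus d = 1 → d = 1) {m : GL D.Idx F}
    (hm : m ∈ D.monomialSubgroup F) (h2 : m * m = 1) (hnd : m ∉ D.diagonalSubgroup F) :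
    ∃ y ∈ D.group F, y * m * y⁻¹ ∈ D.monomialSubgroup F ∧
      (C.inv (y * m * y⁻¹)).ncard < (C.inv m).ncard := by
  classical
  have R := C.root
  have hinv : m⁻¹ = m := inv_eq_of_mul_eq_one_left h2
  have hmm : ∀ r < D.nroots, C.sg m (C.sg m r) = r := fun r hr => by
    rw [← C.sg_mul hm hm hr, h2, C.sg_one hr]
  -- a fundamental root sent to a negative root other than its negative
  by_cases hA : ∃ i < D.rank, D.IsNegRoot (C.sg m (D.simple i)) ∧
      C.sg m (D.simple i) ≠ D.neg (D.simple i)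
  · obtain ⟨i, hi, hneg, hne⟩ := hA
    have hp := R.simple_lt i hi
    have hn := C.ng_mem (F := F) hi
    have hmem : C.ng i * m * (C.ng i : GL D.Idx F)⁻¹ ∈ D.monomialSubgroup F :=
      mul_mem (mul_mem hn hm) (inv_mem hn)
    refine ⟨C.ng i, C.ng_mem_group hi, hmem, ?_⟩
    have hX := mul_mem hm hn
    have hng : ∀ z < D.nroots, C.sg (C.ng i : GL D.Idx F)⁻¹ z = D.reflectRoot i z := fun z hz => by
      have := C.sg_inv_sg (C.ng_mem (F := F) hi) (R.refl_lt i hi z hz)
      rwa [C.sg_ng hi (R.refl_lt i hi z hz), R.refl_refl i hi z hz] at this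
    have h1 := C.ncard_inv_mul_ng hi hm hneg
    have hneg2 : D.IsNegRoot (C.sg (m * C.ng i)⁻¹ (D.simple i)) := by
      rw [mul_inv_rev, hinv, C.sg_mul (inv_mem hn) hm hp, hng _ (C.sg_lt hm hp)]
      have hb := C.sg_lt hm hp
      have hp' := (C.refl_pos hi ((C.neg_pos_iff hb).2 hneg) fun h => hne (by conv_rhs => rw [← h, R.neg_neg' hb])).1
      rw [R.refl_neg' hi hb, C.neg_pos_iff (R.refl_lt i hi _ hb)] at hp'
      exact hp'
    have h3 := C.ncard_inv_mul_ng hi (inv_mem hX) hneg2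
    rw [C.ncard_inv_inv hX] at h3
    have e : (C.inv (C.ng i * m * (C.ng i : GL D.Idx F)⁻¹)).ncard =
        (C.inv ((m * C.ng i)⁻¹ * C.ng i)).ncard := by
      refine congrArg Set.ncard (C.inv_congr fun x hx => ?_)
      rw [C.sg_mul (mul_mem hn hm) (inv_mem hn) hx, hng x hx,
        C.sg_mul hn hm (R.refl_lt i hi x hx), C.sg_ng hi (C.sg_lt hm (R.refl_lt i hi x hx)),
        C.sg_mul (inv_mem hX) hn hx, C.sg_ng hi hx, mul_inv_rev, hinv,
        C.sg_mul (inv_mem hn) hm (R.refl_lt i hi x hx), hng _ (C.sg_lt hm (R.refl_lt i hi x hx))]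
    omega
  push Not at hA
  let J : List ℕ := (List.range D.rank).filter fun a => decide (D.IsNegRoot (C.sg m (D.simple a)))
  have hJ : ∀ a, a ∈ J ↔ a < D.rank ∧ D.IsNegRoot (C.sg m (D.simple a)) := fun a => by
    simp [J, List.mem_filter]
  have hflip : ∀ a ∈ J, C.sg m (D.simple a) = D.neg (D.simple a) := fun a ha =>
    hA a ((hJ a).1 ha).1 ((hJ a).1 ha).2
  have hpp := fun a (ha : a ∈ J) => R.simple_lt a ((hJ a).1 ha).1
  have hcv : ∀ a ∈ J, ∃ c : F, c ≠ 0 ∧
      (∀ t, m * C.xg (D.simple a) t = C.xg (D.neg (D.simple a)) (c * t) * m) ∧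
      ∀ t, m * C.xg (D.neg (D.simple a)) t = C.xg (D.simple a) (c⁻¹ * t) * m :=
    fun a ha => C.invol_conj hm h2 (hpp a ha) (hflip a ha)
  by_cases hsq : ∃ a ∈ J, ∃ c : F, c ≠ 0 ∧ IsSquare c ∧
      (∀ t, m * C.xg (D.simple a) t = C.xg (D.neg (D.simple a)) (c * t) * m) ∧
      ∀ t, m * C.xg (D.neg (D.simple a)) t = C.xg (D.simple a) (c⁻¹ * t) * m
  · obtain ⟨a, ha, c, hc, hs, e1, e2⟩ := hsq
    exact C.conj_shorter_of_square h2F hm h2 ((hJ a).1 ha).1 (hflip a ha) hc hs e1 e2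
  push Not at hsq
  by_cases hodd : ∃ i ∈ J, ∃ j ∈ J, i ≠ j ∧ Odd (D.cartan i (D.simple j))
  · obtain ⟨i, hiJ, j, hjJ, hij, hA1⟩ := hodd
    have hi := ((hJ i).1 hiJ).1
    have hj := ((hJ j).1 hjJ).1
    have hp := hpp i hiJ
    have hq := hpp j hjJ
    obtain ⟨c, hc, hX, hY⟩ := hcv i hiJ
    obtain ⟨d, hd, hX', hY'⟩ := hcv j hjJ
    have hcs : ¬ IsSquare c := fun hs => let ⟨t, ht⟩ := hsq i hiJ c hc hs hX; ht (hY t)
    have hds : ¬ IsSquare d := fun hs => let ⟨t, ht⟩ := hsq j hjJ d hd hs hX'; ht (hY' t)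
    obtain ⟨a, hl, hl0⟩ := exists_nonsquare_one_sub h2F hcs
    set l := 1 - a ^ 2 / c with hldef
    let X : F → GL D.Idx F := fun t => C.xg (D.simple i) t
    let Y : F → GL D.Idx F := fun t => C.xg (D.neg (D.simple i)) t
    have P : RootPair X Y := C.rootPair R.en_simple hp
    have hYX := P.Y_mul_X (a := a) (b := -(c⁻¹ * a)) (l := l) (by rw [hldef]; field_simp; ring) hl0
    set e := a / (c * l) with hedef
    have hh : P.hEl l⁻¹ = C.hg (D.simple i) l⁻¹ := by
      simp only [RootPair.hEl_eq, X, Y, Checked.hg, ChevalleyDatum.hWord, C.val_wg_append,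
        ChevalleyDatum.nWord, C.wg_cons, C.wg_nil, mul_one, inv_neg, inv_one, neg_neg, ← mul_assoc]
    have hy : X e * Y a ∈ D.group F :=
      mul_mem (C.xg_mem_group hp _) (C.xg_mem_group (R.neg_lt _ hp) _)
    set n2 := C.hg (D.simple i) l⁻¹ * m with hn2
    have hH := C.hg_mem (F := F) hp (inv_ne_zero hl0)
    have hmem : n2 ∈ D.monomialSubgroup F := mul_mem (C.diag_le_monomial hH) hm
    have hgm : X e * Y a * m * (X e * Y a)⁻¹ = n2 := by
      calc X e * Y a * m * (X e * Y a)⁻¹ = X e * Y a * (m * Y (-a)) * (X e)⁻¹ := by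
            rw [mul_inv_rev, P.Y_inv]; group
        _ = X e * (Y a * X (-(c⁻¹ * a))) * m * X (-e) := by
            rw [show m * Y (-a) = X (c⁻¹ * -a) * m from hY _, mul_neg, P.X_inv]; group
        _ = X (e + -(c⁻¹ * a) / l) * P.hEl l⁻¹ * (Y (a / l) * m) * X (-e) := by
            rw [hYX, ← P.X_add]; group
        _ = X (e + -(c⁻¹ * a) / l) * P.hEl l⁻¹ * m * (X (c⁻¹ * (a / l)) * X (-e)) := by
            have hYm : Y (a / l) * m = m * X (c⁻¹ * (a / l)) := by
              rw [show m * X (c⁻¹ * (a / l)) = Y (c * (c⁻¹ * (a / l))) * m from hX _, ← mul_assoc c,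
                mul_inv_cancel₀ hc, one_mul]
            rw [hYm]; group
        _ = n2 := by
            rw [P.X_add, show e + -(c⁻¹ * a) / l = 0 by rw [hedef]; field_simp; ring,
              show c⁻¹ * (a / l) + -e = 0 by rw [hedef]; field_simp; ring, P.X_zero, one_mul, mul_one,
              hh]
    have hn22 : n2 * n2 = 1 := by rw [← hgm, conj_mul, h2]; group
    have hsg : ∀ r < D.nroots, C.sg n2 r = C.sg m r := fun r hr => by
      rw [hn2, C.sg_mul (C.diag_le_monomial hH) hm hr, C.sg_diag hH (C.sg_lt hm hr)]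
    have hflip2 : C.sg n2 (D.simple j) = D.neg (D.simple j) := by rw [hsg _ hq, hflip j hjJ]
    obtain ⟨d2, hd2, hX2, hY2⟩ := C.invol_conj hmem hn22 hq hflip2
    have hd2' : d2 = l⁻¹ ^ (-D.cartan i (D.simple j)) * d := by
      have h1 := hX2 1
      rw [hn2, mul_assoc, hX', ← mul_assoc,
        mul_inv_eq_iff_eq_mul.1 (C.hg_xg hp (R.neg_lt _ hq) (inv_ne_zero hl0) (d * 1)),
        C.pair_neg hq, R.pair_simple hi, mul_assoc, mul_one, mul_one] at h1
      have h2' := mul_right_cancel h1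
      exact (sub_eq_zero.1 (C.xg_eq_one (R.neg_lt _ hq) (by
        rw [sub_eq_add_neg, ← C.xg_add (R.neg_lt _ hq), ← C.xg_inv, ← h2', mul_inv_cancel]))).symm
    have hsq2 : IsSquare d2 := by
      rw [hd2', inv_zpow, zpow_neg, inv_inv]
      exact isSquare_mul_of_not h2F (not_isSquare_zpow_odd hl hA1) hds
    obtain ⟨y, hyG, hy1, hy2⟩ := C.conj_shorter_of_square h2F hmem hn22 hj hflip2 hd2 hsq2 hX2 hY2
    refine ⟨y * (X e * Y a), mul_mem hyG hy, ?_, ?_⟩
    · rw [show y * (X e * Y a) * m * (y * (X e * Y a))⁻¹ = y * (X e * Y a * m * (X e * Y a)⁻¹) * y⁻¹ by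
        group, hgm]
      exact hy1
    · rw [show y * (X e * Y a) * m * (y * (X e * Y a))⁻¹ = y * (X e * Y a * m * (X e * Y a)⁻¹) * y⁻¹ by
        group, hgm, ← C.inv_congr hsg]
      exact hy2
  exfalso
  push Not at hodd
  have hO : C.OList J := by
    refine ⟨List.nodup_range.filter _, fun a ha => ((hJ a).1 ha).1, fun a ha b hb hab => ?_⟩
    have hla := ((hJ a).1 ha).1
    have hlb := ((hJ b).1 hb).1
    have h := (allBelow_iff.1 ((allBelow_iff.1 hchk) a (C.tables.rank ▸ hla))) b (C.tables.rank ▸ hlb)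
    have e1 : ¬ (T.A a (T.sp b)).natAbs % 2 = 1 := fun hh => by
      refine hodd a ha b hb hab ?_
      rw [C.tables.cartan a hla _ (hpp b hb), C.tables.simple b hlb]
      exact Int.natAbs_odd.1 (Nat.odd_iff.2 hh)
    have e2 : ¬ (T.A b (T.sp a)).natAbs % 2 = 1 := fun hh => by
      refine hodd b hb a ha (Ne.symm hab) ?_
      rw [C.tables.cartan b hlb _ (hpp a ha), C.tables.simple a hla]
      exact Int.natAbs_odd.1 (Nat.odd_iff.2 hh)
    simp [e1, e2, Bool.and_eq_true, hab] at h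
    rw [C.tables.cartan a hla _ (hpp b hb), C.refl a hla _ (hpp b hb), C.tables.simple b hlb]
    exact ⟨h.1.1, h.1.2, h.2⟩
  set Q := (J.map fun a => (C.ng a : GL D.Idx F)).prod with hQ
  have hQm := C.prod_ng_mem (F := F) J hO
  have hh : m * Q ∈ D.diagonalSubgroup F := by
    refine C.mem_diag_of_simple_pos (mul_mem hm hQm) fun b hb => ?_
    have hp := R.simple_lt b hb
    have hr := C.sg_lt hQm hp
    have hco : ∀ k < D.rank, T.aux.coef (C.sg (m * Q) (D.simple b)) k =
        T.aux.coef (C.sg m (D.simple b)) k +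
          if k ∈ J then D.cartan k (D.simple b) else 0 := by
      intro k hk
      rw [C.sg_mul hm hQm hp, C.coef_sg hm hr hk, Finset.sum_congr rfl fun a ha => by
        rw [C.coef_prod_ng J hO hp (Finset.mem_range.1 ha), R.coef_simple b hb a (Finset.mem_range.1 ha),
          sub_mul]]
      rw [Finset.sum_sub_distrib, sub_eq_add_neg]
      simp only [ite_mul, one_mul, zero_mul, Finset.sum_ite_eq', Finset.mem_range, hb, if_true]
      congr 1
      by_cases hkJ : k ∈ J
      · rw [if_pos hkJ, Finset.sum_eq_single k]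
        · rw [if_pos hkJ, hflip k hkJ, R.coef_neg (hpp k hkJ) hk, R.coef_simple k hk k hk, if_pos rfl]
          ring
        · intro a ha hak
          by_cases haJ : a ∈ J
          · rw [if_pos haJ, hflip a haJ, R.coef_neg (hpp a haJ) hk,
              R.coef_simple a (Finset.mem_range.1 ha) k hk, if_neg (Ne.symm hak)]
            ring
          · rw [if_neg haJ]
        · intro h; exact absurd (Finset.mem_range.2 hk) h
      · rw [if_neg hkJ, Finset.sum_eq_zero, neg_zero]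
        intro a ha
        by_cases haJ : a ∈ J
        · rw [if_pos haJ, hflip a haJ, R.coef_neg (hpp a haJ) hk,
            R.coef_simple a (Finset.mem_range.1 ha) k hk, if_neg (fun h => hkJ (by rw [h]; exact haJ))]
          ring
        · rw [if_neg haJ]
    have hlt := C.sg_lt (mul_mem hm hQm) hp
    by_cases hbJ : b ∈ J
    · refine C.pos_of_coef_pos hlt hb ?_
      rw [hco b hb, if_pos hbJ, hflip b hbJ, R.coef_neg hp hb, R.coef_simple b hb b hb, if_pos rfl,
        R.cartan_self b hb]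
      norm_num
    · have hpos : D.IsPosRoot (C.sg m (D.simple b)) :=
        (C.key_trichotomy (C.sg_lt hm hp)).resolve_right fun hn => hbJ ((hJ b).2 ⟨hb, hn⟩)
      obtain ⟨k, hk, hkJ, hne⟩ : ∃ k < D.rank, k ∉ J ∧ T.aux.coef (C.sg m (D.simple b)) k ≠ 0 := by
        by_contra hcon
        push Not at hcon
        have h1 := C.coef_sg hm (C.sg_lt hm hp) hb
        rw [hmm _ hp, R.coef_simple b hb b hb, if_pos rfl, Finset.sum_eq_zero] at h1
        · exact one_ne_zero h1
        · intro a ha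
          by_cases haJ : a ∈ J
          · rw [hflip a haJ, R.coef_neg (hpp a haJ) hb, R.coef_simple a (Finset.mem_range.1 ha) b hb,
              if_neg (fun h => hbJ (by rw [h]; exact haJ))]
            ring
          · rw [hcon a (Finset.mem_range.1 ha) haJ, zero_mul]
      refine C.pos_of_coef_pos hlt hk ?_
      rw [hco k hk, if_neg hkJ, add_zero]
      exact lt_of_le_of_ne (C.coef_nonneg hpos hk) (Ne.symm hne)
  have hJne : J ≠ [] := by
    intro h
    refine hnd (C.mem_diag_of_simple_pos hm fun b hb => ?_)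
    refine (C.key_trichotomy (C.sg_lt hm (R.simple_lt b hb))).resolve_right fun hn => ?_
    exact List.not_mem_nil (h ▸ (hJ b).2 ⟨hb, hn⟩)
  obtain ⟨i, hiJ⟩ := List.exists_mem_of_ne_nil J hJne
  have hi := ((hJ i).1 hiJ).1
  have hp := hpp i hiJ
  obtain ⟨c, hc⟩ := C.exists_torus (inv_mem hh)
  -- m = Q * torus c
  have hmQ : m = Q * C.torus c := by
    rw [hc, mul_inv_rev, ← mul_assoc, mul_inv_cancel, one_mul, hinv]
  obtain ⟨d, hd, hdk⟩ := C.prod_ng_torus J hO c
  have h1 : C.torus (d * c) = 1 := by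
    rw [C.torus_mul, ← hd, ← h2, hmQ, hQ]; group
  have h2' := congrFun (hinj _ h1) ⟨i, hi⟩
  rw [Pi.mul_apply, hdk ⟨i, hi⟩, if_pos hiJ, Pi.one_apply] at h2'
  have hsquare : IsSquare (-C.chrOf c (D.simple i)) := by
    refine ⟨((c ⟨i, hi⟩ : Fˣ) : F), ?_⟩
    have h3 := congrArg (fun u : Fˣ => (u : F)) h2'
    have hχ := C.chrOf_ne c (D.simple i)
    simp only [Units.val_mul, Units.val_neg, Units.val_inv_eq_inv_val, Units.val_mk0, Units.val_one] at h3
    field_simp at h3
    linear_combination h3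
  have hQX : ∀ t, Q * C.xg (D.simple i) t = C.xg (D.neg (D.simple i)) (-t) * Q := by
    intro t
    obtain ⟨l1, l2, hl⟩ := List.append_of_mem hiJ
    have hnd' : J.Nodup := hO.1
    rw [hl, List.nodup_middle, List.nodup_cons] at hnd'
    have hfix : ∀ a ∈ l1 ++ l2, ∀ s : F, (C.ng a * C.xg (D.simple i) s = C.xg (D.simple i) s * C.ng a) ∧
        C.ng a * C.xg (D.neg (D.simple i)) s = C.xg (D.neg (D.simple i)) s * C.ng a := by
      intro a ha s
      have haJ : a ∈ J := by rw [hl]; simp only [List.mem_append, List.mem_cons] at ha ⊢; tauto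
      have hai : a ≠ i := fun e => hnd'.1 (e ▸ ha)
      obtain ⟨-, hw, he⟩ := hO.2.2 a haJ i hiJ hai
      exact ⟨C.ng_fix ((hJ a).1 haJ).1 hi hw he s, C.ng_fix_neg ((hJ a).1 haJ).1 hi hw he s⟩
    have hl2 : Commute (l2.map fun a => (C.ng a : GL D.Idx F)).prod (C.xg (D.simple i) t) :=
      Commute.list_prod_left _ _ fun x hx => by
        obtain ⟨a, ha, rfl⟩ := List.mem_map.1 hx
        exact (hfix a (by simp [ha]) t).1
    have hl1 : Commute (l1.map fun a => (C.ng a : GL D.Idx F)).prod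
        (C.xg (D.neg (D.simple i)) (-t)) :=
      Commute.list_prod_left _ _ fun x hx => by
        obtain ⟨a, ha, rfl⟩ := List.mem_map.1 hx
        exact (hfix a (by simp [ha]) (-t)).2
    rw [hQ, hl, List.map_append, List.prod_append, List.map_cons, List.prod_cons, mul_assoc,
      mul_assoc, hl2.eq, ← mul_assoc (C.ng i), C.ng_xg hi hp, R.refl_simple hi, eta,
      show T.en i (D.simple i) = true from R.en_simple i hi]
    simp only [sgn, cond_true, Int.cast_neg, Int.cast_one, neg_mul, one_mul]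
    rw [mul_assoc, ← mul_assoc, hl1.eq, mul_assoc]
  obtain ⟨c', hc', hX, hY⟩ := hcv i hiJ
  have hc'eq : c' = -C.chrOf c (D.simple i) := by
    have h4 := hX 1
    rw [mul_one, hmQ, mul_assoc, mul_inv_eq_iff_eq_mul.1 (C.torus_xg c hp 1), ← mul_assoc, hQX,
      mul_one, mul_assoc] at h4
    have h5 := mul_right_cancel h4
    have h6 : C.xg (D.neg (D.simple i)) (c' + -(-C.chrOf c (D.simple i))) = 1 := by
      rw [← C.xg_add (R.neg_lt _ hp), ← C.xg_inv, h5, mul_inv_cancel]
    exact eq_of_sub_eq_zero (by rw [sub_eq_add_neg]; exact C.xg_eq_one (R.neg_lt _ hp) h6)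
  obtain ⟨t, ht⟩ := hsq i hiJ c' hc' (hc'eq ▸ hsquare) hX
  exact ht (hY t)

/-- A monomial involution is conjugate to a diagonal element. -/
theorem conj_diag_of_mono [Fintype F] (h2F : (2 : F) ≠ 0) (hchk : orthChk T = true)
    (hinj : ∀ d : Fin D.rank → Fˣ, C.torus d = 1 → d = 1) {m : GL D.Idx F}
    (hm : m ∈ D.monomialSubgroup F) (h2 : m * m = 1) :
    ∃ y ∈ D.group F, y * m * y⁻¹ ∈ D.diagonalSubgroup F := by
  induction h : (C.inv m).ncard using Nat.strong_induction_on generalizing m with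
  | _ k ih =>
    by_cases hd : m ∈ D.diagonalSubgroup F
    · exact ⟨1, one_mem _, by simpa using hd⟩
    obtain ⟨y, hy, h1, h3⟩ := C.exists_shorter h2F hchk hinj hm h2 hd
    obtain ⟨z, hz, h4⟩ := ih _ (h ▸ h3) h1 (by rw [conj_mul, h2]; group) rfl
    refine ⟨z * y, mul_mem hz hy, ?_⟩
    rwa [show z * y * m * (z * y)⁻¹ = z * (y * m * y⁻¹) * z⁻¹ by group]

theorem odd_orderOf_pos [Fintype F] (h2F : (2 : F) ≠ 0) {u : GL D.Idx F}
    (hu : u ∈ D.posUnipotent F) : Odd (orderOf u) := by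
  classical
  have hq : Odd (Fintype.card F) := by
    rw [Nat.odd_iff]
    refine FiniteField.odd_card_of_char_ne_two fun h => h2F ?_
    have : CharP F 2 := by rw [← h]; exact ringChar.charP F
    exact CharTwo.two_eq_zero
  have h := Subgroup.orderOf_dvd_natCard _ hu
  rw [posUnipotent_eq, C.card_grp C.closedSet_pos] at h
  exact hq.pow.of_dvd_nat h

/-- An involution is conjugate to a monomial one. -/
theorem conj_mono [Fintype F] (h2F : (2 : F) ≠ 0) {g : GL D.Idx F} (hg : g ∈ D.group F)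
    (h2 : g * g = 1) :
    ∃ y ∈ D.group F, y * g * y⁻¹ ∈ D.monomialSubgroup F := by
  obtain ⟨b, hb, n, hn, v, hv, rfl⟩ := C.exists_bnu hg
  have hvU : v ∈ D.posUnipotent F := by
    rw [posUnipotent_eq]; exact grp_mem_mono hv fun r hr => hr.1
  obtain ⟨u, hu, h, hh, hbe⟩ := C.mem_borel.1 (mul_mem (Subgroup.mem_sup_left hvU) hb)
  have hvG : v ∈ D.group F := C.pos_le_group hvU
  set m := h * n with hmdef
  have hm : m ∈ D.monomialSubgroup F := mul_mem (C.diag_le_monomial hh) hn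
  have e : v * (b * n * v) * v⁻¹ = u * m := by
    calc v * (b * n * v) * v⁻¹ = v * b * n := by group
      _ = u * m := by rw [hbe, hmdef]; group
  have hum : u * m * (u * m) = 1 := by rw [← e, conj_mul, h2]; group
  have hu' : u ∈ grp D F {r | D.IsPosRoot r ∧ 0 ≤ r} := by
    rw [posUnipotent_eq] at hu
    exact grp_mem_mono hu fun r hr => ⟨hr, Nat.zero_le r⟩
  obtain ⟨t, ht, s, hs, hts⟩ := C.grp_split 0 (C.inv m) hu'
  have hs' : s ∈ grp D F (C.inv m) := grp_mem_mono hs fun r hr => hr.2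
  have ht' := C.conj_noninv hm (grp_mem_mono ht fun r hr => ⟨hr.1.1, hr.2⟩)
  have e1 : m * u = u⁻¹ * m⁻¹ := by
    calc m * u = u⁻¹ * (u * m * (u * m)) * m⁻¹ := by group
      _ = _ := by rw [hum]; group
  have e2 : m * t * m⁻¹ * m * s = u⁻¹ * m⁻¹ * 1 := by
    rw [mul_one, ← e1, hts]; group
  have hB := Subgroup.mem_sup_left (T := D.diagonalSubgroup F) ht'
  have hh0 := (C.bnu_unique hB (Subgroup.mem_sup_left (inv_mem hu)) hm (inv_mem hm) hs'
    (one_mem _) e2).1
  have hh1 : m * m ∈ D.diagonalSubgroup F := by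
    have := inv_mem hh0
    rwa [mul_inv_rev, inv_inv] at this
  have e3 : m * t * m⁻¹ * m * s = u⁻¹ * (m * m)⁻¹ * m * 1 := by
    rw [e2]; group
  have hB2 : u⁻¹ * (m * m)⁻¹ ∈ D.borelSubgroup F :=
    mul_mem (Subgroup.mem_sup_left (inv_mem hu)) (Subgroup.mem_sup_right (inv_mem hh1))
  obtain ⟨e4, e5⟩ := (C.bnu_unique hB hB2 hm hm hs' (one_mem _) e3).2 rfl
  have htu : t = u := by rw [hts, e5, mul_one]
  rw [htu] at e4 ht'
  have hmm : m * m = 1 := by
    refine inv_eq_one.1 (Subgroup.mem_bot.1 ?_)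
    rw [← C.pos_inf_diag (F := F), Subgroup.mem_inf]
    refine ⟨?_, inv_mem hh1⟩
    rw [show (m * m)⁻¹ = u * (m * u * m⁻¹) by rw [e4]; group]
    exact mul_mem hu ht'
  have hconj : m * u * m⁻¹ = u⁻¹ := by rw [e4, hmm, inv_one, mul_one]
  obtain ⟨k, hk⟩ := C.odd_orderOf_pos h2F hu
  set x := u ^ (k + 1) with hx
  have hxx : x * x = u := by
    rw [hx, ← pow_add, show k + 1 + (k + 1) = orderOf u + 1 by omega, pow_succ, pow_orderOf_eq_one,
      one_mul]
  have hxm : m * x * m⁻¹ = x⁻¹ := by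
    rw [hx, ← conj_pow, hconj, inv_pow]
  refine ⟨x⁻¹ * v, mul_mem (inv_mem (pow_mem (C.pos_le_group hu) _)) hvG, ?_⟩
  have : x⁻¹ * v * (b * n * v) * (x⁻¹ * v)⁻¹ = m := by
    calc x⁻¹ * v * (b * n * v) * (x⁻¹ * v)⁻¹ = x⁻¹ * (v * (b * n * v) * v⁻¹) * x := by group
      _ = x⁻¹ * (x * x * m) * x := by rw [e, hxx]
      _ = x * (m * x * m⁻¹) * m := by group
      _ = m := by rw [hxm, mul_inv_cancel, one_mul]
  rw [this]; exact hm

/-- Every involution is conjugate to a diagonal element. -/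
theorem conj_diag_of_invol [Fintype F] (h2F : (2 : F) ≠ 0) (hchk : orthChk T = true)
    (hinj : ∀ d : Fin D.rank → Fˣ, C.torus d = 1 → d = 1) {g : GL D.Idx F} (hg : g ∈ D.group F)
    (h2 : g * g = 1) :
    ∃ y ∈ D.group F, y * g * y⁻¹ ∈ D.diagonalSubgroup F := by
  obtain ⟨y, hy, h1⟩ := C.conj_mono h2F hg h2
  obtain ⟨z, hz, h3⟩ := C.conj_diag_of_mono h2F hchk hinj h1 (by rw [conj_mul, h2]; group)
  refine ⟨z * y, mul_mem hz hy, ?_⟩
  rwa [show z * y * g * (z * y)⁻¹ = z * (y * g * y⁻¹) * z⁻¹ by group]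

end Checked

end Cfsg.Agent.Lib.Chev
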