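import Cfsg.Agent.Lib.Chev.InvolMono
import Cfsg.Agent.Lib.Chev.Parabolic
import Cfsg.Agent.Lib.Chev.Cent

/-!
In a simply laced Chevalley group over a finite field of characteristic two every involution is conjugate
to a product of root elements `x_r(1)` of pairwise orthogonal roots.
-/

set_option autoImplicit false

namespace Cfsg.Agent.Lib.Chev

open Cfsg.Lie Cfsg.Agent.Lib

/-- facts on orthogonal roots used below: they commute modulo two -/
def Fast.slChk (T : Fast) : Bool :=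
  allBelow T.n fun a => beqI (T.pr a a) 2 && allBelow T.n fun b =>
    !(beqI (T.pr a b) 0) || (beqI (T.pr b a) 0 && T.evenC a b && !(Nat.beq b (T.ng a)))

variable {D : ChevalleyDatum} {T : Fast} {F : Type*} [Field F]

/-- the hypotheses on the tables -/
structure SLData (D : ChevalleyDatum) (T : Fast) : Prop where
  chk : Checked D T
  supp : T.suppOK = true
  sl : T.slChk = true

namespace SLData

variable (H : SLData D T)
include H

/-- the subsystem subgroup of a set of nodes -/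
def msub (_ : SLData D T) (F : Type*) [Field F] (J : Set ℕ) : Subgroup (GL D.Idx F) :=
  grp D F {r | D.InRootSub J r}

/-- pairwise orthogonal roots in the subsystem of `J` -/
def OrthIn (_ : SLData D T) (J : Set ℕ) (l : List ℕ) : Prop :=
  l.Nodup ∧ (∀ r ∈ l, D.InRootSub J r) ∧ ∀ r ∈ l, ∀ s ∈ l, r ≠ s → pair D r s = 0

/-- conjugate to an orthogonal product -/
def Split (H : SLData D T) (J : Set ℕ) (y : GL D.Idx F) : Prop :=
  ∃ k ∈ H.msub F J, ∃ l, H.OrthIn J l ∧ k * y * k⁻¹ = H.chk.wg (l.map fun r => (r, (1 : F)))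

theorem Split.of_conj {J : Set ℕ} {y k : GL D.Idx F} (hk : k ∈ H.msub F J)
    (h : H.Split J (k * y * k⁻¹)) : H.Split J y := by
  obtain ⟨k', hk', l, hl, e⟩ := h
  exact ⟨k' * k, mul_mem hk' hk, l, hl, by rw [← e]; group⟩

theorem sl_facts {a : ℕ} (ha : a < D.nroots) :
    pair D a a = 2 ∧ ∀ b < D.nroots, pair D a b = 0 →
      pair D b a = 0 ∧ T.evenC a b = true ∧ b ≠ D.neg a := by
  have h := allBelow_iff.1 H.sl a (H.chk.tables.nroots ▸ ha)
  rw [Bool.and_eq_true] at h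
  refine ⟨by rw [← H.chk.pr_eq ha ha]; exact beqI_eq h.1, fun b hb hab => ?_⟩
  have hb' := allBelow_iff.1 h.2 b (H.chk.tables.nroots ▸ hb)
  rw [H.chk.pr_eq ha hb, hab] at hb'
  simp only [beqI_self, Bool.not_true, Bool.false_or, Bool.and_eq_true, Bool.not_eq_true',
    ] at hb'
  refine ⟨by rw [← H.chk.pr_eq hb ha]; exact beqI_eq hb'.1.1, hb'.1.2, fun e => ?_⟩
  · rw [H.chk.tables.neg a ha] at e
    rw [e] at hb'
    simp at hb'

theorem commute_orth [CharP F 2] {a b : ℕ} (ha : a < D.nroots) (hb : b < D.nroots)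
    (h : pair D a b = 0) (t u : F) : Commute (H.chk.xg a t) (H.chk.xg b u) := by
  obtain ⟨-, hh⟩ := H.sl_facts ha
  obtain ⟨-, hc, hn⟩ := hh b hb h
  exact H.chk.comm_of_even ha hb hn hc t u

/-! ### characteristic two -/

section CharTwo

variable [CharP F 2]

theorem eta_two (i s : ℕ) : eta T F i s = 1 := by
  rcases mul_self_eq_one_iff.1 (eta_sq (T := T) (F := F) i s) with h | h <;>
    simp [h, CharTwo.neg_eq]

theorem ng_conj {i : ℕ} (hi : i < D.rank) {s : ℕ} (hs : s < D.nroots) (t : F) :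
    H.chk.ng i * H.chk.xg s t * (H.chk.ng i)⁻¹ = H.chk.xg (D.reflectRoot i s) t := by
  rw [H.chk.ng_xg hi hs, mul_inv_cancel_right, H.eta_two, one_mul]

theorem ng_inv_two (i : ℕ) : (H.chk.ng i : GL D.Idx F)⁻¹ = H.chk.ng i := by
  rw [H.chk.ng_inv, CharTwo.neg_eq]
  rfl

theorem xg_inv_two (r : ℕ) (t : F) : (H.chk.xg r t : GL D.Idx F)⁻¹ = H.chk.xg r t := by
  rw [H.chk.xg_inv, CharTwo.neg_eq]

/-- `x_a(t) x_{-a}(1/t) x_a(t) = x_{-a}(1/t) x_a(t) x_{-a}(1/t)`. -/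
theorem braid_two (hen : ∀ i < D.rank, T.en i (D.simple i) = true) {a : ℕ} (ha : a < D.nroots) {t : F}
    (ht : t ≠ 0) :
    H.chk.xg a t * H.chk.xg (D.neg a) t⁻¹ * H.chk.xg a t =
      H.chk.xg (D.neg a) t⁻¹ * H.chk.xg a t * H.chk.xg (D.neg a) t⁻¹ := by
  have h : H.chk.xg a t * H.chk.xg (D.neg a) (-t⁻¹) * H.chk.xg a t * H.chk.xg a t *
      (H.chk.xg a t * H.chk.xg (D.neg a) (-t⁻¹) * H.chk.xg a t)⁻¹ = H.chk.xg (D.neg a) (-(t⁻¹ ^ 2 * t)) :=
    (H.chk.rootPair (F := F) hen ha).N_conj t ht t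
  have e : t⁻¹ ^ 2 * t = t⁻¹ := by field_simp
  simp only [CharTwo.neg_eq, e] at h
  have hA : H.chk.xg a t * H.chk.xg a t = 1 := by
    rw [H.chk.xg_add ha, CharTwo.add_self_eq_zero, H.chk.xg_zero]
  set A := H.chk.xg a t
  set B := H.chk.xg (D.neg a) t⁻¹
  have hAi : A⁻¹ = A := inv_eq_of_mul_eq_one_right hA
  have hBi : B⁻¹ = B := H.xg_inv_two _ _
  have h' : A * B * A * B * A = B := by
    calc A * B * A * B * A = A * B * (A * A) * A * B * A := by rw [hA, mul_one]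
      _ = A * B * A * A * (A⁻¹ * B⁻¹ * A⁻¹) := by rw [hAi, hBi]; simp only [mul_assoc]
      _ = A * B * A * A * (A * B * A)⁻¹ := by simp only [mul_inv_rev, mul_assoc]
      _ = B := h
  calc A * B * A = A * B * A * B * A * (A⁻¹ * B⁻¹) := by group
    _ = B * A * B := by rw [h', hAi, hBi, mul_assoc]

end CharTwo

/-! ### degrees -/

theorem msub_le_levi (J : Set ℕ) : H.msub F J ≤ D.leviSubgroup F J := by
  rw [H.chk.levi_eq J]; exact le_sup_right

theorem msub_le_group (J : Set ℕ) : H.msub F J ≤ D.group F :=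
  H.chk.grp_le_group fun _ hr => hr.1

theorem ng_mem_msub {J : Set ℕ} {j : ℕ} (hj : j < D.rank) (hjJ : j ∈ J) :
    (H.chk.ng j : GL D.Idx F) ∈ H.msub F J := by
  refine H.chk.wg_mem _ fun p hp => ?_
  have hs := (H.chk.inRootSub_simple H.supp J hj).2 hjJ
  simp only [ChevalleyDatum.nWord, List.mem_cons, List.not_mem_nil, or_false] at hp
  rcases hp with rfl | rfl | rfl
  exacts [hs, (H.chk.inRootSub_neg H.supp J hs.1).2 hs, hs]

theorem deg_eq_zero_iff {J : Set ℕ} {r : ℕ} (hr : r < D.nroots) :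
    H.chk.deg J r = 0 ↔ D.InRootSub J r := by
  refine ⟨fun h => ?_, H.chk.deg_zero H.supp J⟩
  by_contra hout
  rcases H.chk.key_trichotomy hr with hp | hn
  · exact (H.chk.deg_pos H.supp J hp hout).ne' h
  · have := H.chk.deg_pos H.supp J ((H.chk.neg_pos_iff hr).2 hn)
      (fun h' => hout ((H.chk.inRootSub_neg H.supp J hr).1 h'))
    rw [H.chk.deg_neg J hr, h] at this
    simp at this

theorem deg_nonpos {J : Set ℕ} {r : ℕ} (hn : D.IsNegRoot r) : H.chk.deg J r ≤ 0 := by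
  have hr : r < D.nroots := hn.1
  by_cases hin : D.InRootSub J r
  · rw [H.chk.deg_zero H.supp J hin]
  · have := H.chk.deg_pos H.supp J ((H.chk.neg_pos_iff hr).2 hn)
      (fun h' => hin ((H.chk.inRootSub_neg H.supp J hr).1 h'))
    rw [H.chk.deg_neg J hr] at this
    omega

theorem deg_sg {J : Set ℕ} {m : GL D.Idx F} (hm : m ∈ D.monomialSubgroup F) (hL : m ∈ H.msub F J)
    {r : ℕ} (hr : r < D.nroots) : H.chk.deg J (H.chk.sg m r) = H.chk.deg J r := by
  obtain ⟨τ, h⟩ := H.chk.sg_spec hm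
  obtain ⟨d, hd, e⟩ := h.vec r hr
  have hlt := H.chk.sg_lt hm hr
  have hne : (m : Matrix D.Idx D.Idx F) (Sum.inr ⟨H.chk.sg m r, hlt⟩) (Sum.inr ⟨r, hr⟩) ≠ 0 := by
    have e' := congrFun e (Sum.inr ⟨H.chk.sg m r, hlt⟩)
    rw [congrFun (mulVec_bv _ (⟨r, hr⟩ : Fin D.nroots)) _] at e'
    rw [e']
    simp [bv_apply, hd]
  exact H.chk.levi_grade H.supp J (H.msub_le_levi J hL) _ _ hne

theorem node_mem_of_neg {J : Set ℕ} {m : GL D.Idx F} (hm : m ∈ D.monomialSubgroup F)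
    (hL : m ∈ H.msub F J) {r : ℕ} (hr : D.IsPosRoot r) (hneg : D.IsNegRoot (H.chk.sg m r)) :
    D.InRootSub J r := by
  by_contra hout
  have h1 := H.chk.deg_pos H.supp J hr hout
  rw [← H.deg_sg hm hL hr.1] at h1
  exact absurd (H.deg_nonpos hneg) (not_le.2 h1)

theorem sg_mem_sub {J : Set ℕ} {m : GL D.Idx F} (hm : m ∈ D.monomialSubgroup F)
    (hL : m ∈ H.msub F J) {r : ℕ} (hr : D.InRootSub J r) : D.InRootSub J (H.chk.sg m r) := by
  rw [← H.deg_eq_zero_iff (H.chk.sg_lt hm hr.1), H.deg_sg hm hL hr.1]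
  exact H.chk.deg_zero H.supp J hr

theorem simple_of_neg {J : Set ℕ} {m : GL D.Idx F} (hm : m ∈ D.monomialSubgroup F)
    (hL : m ∈ H.msub F J) {j : ℕ} (hj : j < D.rank) (hneg : D.IsNegRoot (H.chk.sg m (D.simple j))) :
    j ∈ J :=
  (H.chk.inRootSub_simple H.supp J hj).1 (H.node_mem_of_neg hm hL (H.chk.root.pos_simple hj) hneg)

theorem levi_part {J : Set ℕ} {S S' : Set ℕ} (hS : ∀ r ∈ S, D.IsPosRoot r)
    (hS' : ∀ r ∈ S', D.InRootSub J r) (hsub : ∀ r ∈ S, D.InRootSub J r → r ∈ S') {v : GL D.Idx F}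
    (hv : v ∈ grp D F S) (hL : v ∈ D.leviSubgroup F J) : v ∈ grp D F S' := by
  have hle : grp D F S ≤ D.unipotentRadical F J ⊔ grp D F S' := by
    rw [H.chk.unipotentRadical_eq J]
    refine H.chk.grp_le fun r hr t => ?_
    by_cases h : D.InRootSub J r
    · exact Subgroup.mem_sup_right (H.chk.xg_mem (hsub r hr h) t)
    · exact Subgroup.mem_sup_left (H.chk.xg_mem (S := H.chk.radRoots J) ⟨hS r hr, h⟩ t)
  have hnorm : grp D F S' ≤ Subgroup.normalizer (D.unipotentRadical F J : Set (GL D.Idx F)) := by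
    refine le_trans ?_ (H.chk.parabolic_le_normalizer H.supp J)
    rw [H.chk.parabolic_eq H.supp J]
    exact le_sup_of_le_right (grp_mono fun r hr => Or.inr (hS' r hr))
  have hmem : v ∈ ((D.unipotentRadical F J ⊔ grp D F S' : Subgroup (GL D.Idx F)) : Set (GL D.Idx F)) :=
    hle hv
  rw [Subgroup.coe_mul_of_right_le_normalizer_left _ _ hnorm] at hmem
  obtain ⟨a, ha, b, hb, rfl⟩ := hmem
  have hbL : b ∈ D.leviSubgroup F J := by
    rw [H.chk.levi_eq J]
    exact Subgroup.mem_sup_right (grp_mem_mono hb fun r hr => hS' r hr)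
  have haL : a ∈ D.leviSubgroup F J := by
    have := mul_mem hL (inv_mem hbL)
    simpa using this
  have h1 : a ∈ D.unipotentRadical F J ⊓ D.leviSubgroup F J := ⟨ha, haL⟩
  rw [H.chk.radical_inf_levi H.supp J, Subgroup.mem_bot] at h1
  subst h1
  simpa using hb

/-! ### Bruhat cells inside the subsystem subgroup -/

theorem to_bnu {g b₁ n b₂ : GL D.Idx F} (hn : n ∈ D.monomialSubgroup F) (h₁ : b₁ ∈ D.borelSubgroup F)
    (h₂ : b₂ ∈ D.borelSubgroup F) (e : g = b₁ * n * b₂) :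
    ∃ b ∈ D.borelSubgroup F, ∃ u ∈ grp D F (H.chk.inv n), g = b * n * u := by
  obtain ⟨u, hu, h, hh, rfl⟩ := H.chk.mem_borel.1 h₂
  have hu' : u ∈ grp D F {r | D.IsPosRoot r ∧ 0 ≤ r} := by
    rw [posUnipotent_eq] at hu
    exact grp_mem_mono hu fun r hr => ⟨hr, Nat.zero_le r⟩
  obtain ⟨t, ht, s, hs, rfl⟩ := H.chk.grp_split 0 (H.chk.inv n) hu'
  have ht' := H.chk.conj_noninv hn (grp_mem_mono ht fun r hr => ⟨hr.1.1, hr.2⟩)
  have hs' : s ∈ grp D F (H.chk.inv n) := grp_mem_mono hs fun r hr => hr.2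
  refine ⟨b₁ * (n * t * n⁻¹) * (n * h * n⁻¹),
    mul_mem (mul_mem h₁ (Subgroup.mem_sup_left ht'))
      (Subgroup.mem_sup_right (H.chk.mono_conj_diag hn h hh)), h⁻¹ * s * h, ?_, ?_⟩
  · have := H.chk.diag_normalizes (fun r hr => ((H.chk.closedSet_inv hn).pos r hr).1) (inv_mem hh) hs'
    rwa [inv_inv] at this
  · rw [e]; group

theorem exists_bnu_sub [CharP F 2] {J : Set ℕ} {g : GL D.Idx F} (hg : g ∈ H.msub F J) :
    ∃ n ∈ D.monomialSubgroup F, n ∈ H.msub F J ∧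
      ∃ b ∈ D.borelSubgroup F, ∃ u ∈ grp D F (H.chk.inv n), g = b * n * u := by
  suffices key : ∃ n ∈ D.monomialSubgroup F, n ∈ H.msub F J ∧ ∃ b ∈ D.borelSubgroup F,
      ∃ b' ∈ D.borelSubgroup F, g = b * n * b' by
    obtain ⟨n, hn, hnM, b, hb, b', hb', e⟩ := key
    exact ⟨n, hn, hnM, H.to_bnu hn hb hb' e⟩
  have hgP : g ∈ D.parabolicSubgroup F J := by
    rw [← H.chk.radical_sup_levi H.supp J]
    exact Subgroup.mem_sup_right (H.msub_le_levi J hg)
  clear hg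
  have hP : D.parabolicSubgroup F J ≤ Subgroup.closure ((D.borelSubgroup F : Set (GL D.Idx F)) ∪
      {x | ∃ j ∈ J, j < D.rank ∧ x = H.chk.ng j}) := by
    refine sup_le (fun b hb => Subgroup.subset_closure (Or.inl hb)) ((Subgroup.closure_le _).2 ?_)
    rintro x ⟨j, hjJ, hj, e⟩
    exact Subgroup.subset_closure (Or.inr ⟨j, hjJ, hj, Units.ext (e.trans (H.chk.val_ng j).symm)⟩)
  have step : ∀ j ∈ J, j < D.rank → ∀ y : GL D.Idx F,
      (∃ n ∈ D.monomialSubgroup F, n ∈ H.msub F J ∧ ∃ b ∈ D.borelSubgroup F,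
        ∃ b' ∈ D.borelSubgroup F, y = b * n * b') →
      ∃ n ∈ D.monomialSubgroup F, n ∈ H.msub F J ∧ ∃ b ∈ D.borelSubgroup F,
        ∃ b' ∈ D.borelSubgroup F, H.chk.ng j * y = b * n * b' := by
    rintro j hjJ hj y ⟨n, hn, hnM, b, hb, b', hb', rfl⟩
    obtain ⟨σ, τ, hm⟩ := H.chk.exists_mo (inv_mem hn)
    obtain ⟨h1, h2⟩ := H.chk.bn_step hj hn hb hm
    have lift : ∀ k, k ∈ D.monomialSubgroup F → k ∈ H.msub F J →
        H.chk.ng j * b * n ∈ DoubleCoset.doubleCoset k (D.borelSubgroup F : Set (GL D.Idx F))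
          (D.borelSubgroup F) →
        ∃ k ∈ D.monomialSubgroup F, k ∈ H.msub F J ∧ ∃ c ∈ D.borelSubgroup F,
          ∃ c' ∈ D.borelSubgroup F, H.chk.ng j * (b * n * b') = c * k * c' := by
      intro k hk hkM hmem
      obtain ⟨x, hx, z, hz, e⟩ := DoubleCoset.mem_doubleCoset.1 hmem
      refine ⟨k, hk, hkM, x, hx, z * b', mul_mem hz hb', ?_⟩
      rw [← mul_assoc, ← mul_assoc, e]
      group
    have hsn := lift _ (mul_mem (H.chk.ng_mem hj) hn) (mul_mem (H.ng_mem_msub hj hjJ) hnM)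
    rcases H.chk.key_trichotomy (hm.lt _ (H.chk.root.simple_lt j hj)) with h | h
    · exact hsn (h1 h)
    · rcases h2 h with h' | h'
      exacts [hsn h', lift n hn hnM h']
  have hg' := hP hgP
  induction hg' using Subgroup.closure_induction_left with
  | one => exact ⟨1, one_mem _, one_mem _, 1, one_mem _, 1, one_mem _, by simp⟩
  | mul_left x hx y hy ih =>
    have ih' := ih (by
      rcases hx with hx | ⟨j, hjJ, hj, rfl⟩
      · have := mul_mem (inv_mem (Subgroup.mem_sup_left hx : x ∈ D.parabolicSubgroup F J)) hgP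
        rwa [inv_mul_cancel_left] at this
      · have := mul_mem (inv_mem (H.chk.ng_mem_parabolic J hj hjJ)) hgP
        rwa [inv_mul_cancel_left] at this)
    rcases hx with hx | ⟨j, hjJ, hj, rfl⟩
    · obtain ⟨n, hn, hnM, b, hb, b', hb', rfl⟩ := ih'
      exact ⟨n, hn, hnM, x * b, mul_mem hx hb, b', hb', by group⟩
    · exact step j hjJ hj y ih'
  | inv_mul_cancel x hx y hy ih =>
    have ih' := ih (by
      rcases hx with hx | ⟨j, hjJ, hj, rfl⟩
      · have := mul_mem (Subgroup.mem_sup_left hx : x ∈ D.parabolicSubgroup F J) hgP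
        rwa [mul_inv_cancel_left] at this
      · have := mul_mem (H.chk.ng_mem_parabolic J hj hjJ) hgP
        rwa [mul_inv_cancel_left] at this)
    rcases hx with hx | ⟨j, hjJ, hj, rfl⟩
    · obtain ⟨n, hn, hnM, b, hb, b', hb', rfl⟩ := ih'
      exact ⟨n, hn, hnM, x⁻¹ * b, mul_mem (inv_mem hx) hb, b', hb', by group⟩
    · rw [H.ng_inv_two]
      exact step j hjJ hj y ih'

/-! ### involutions of the form `v m` -/

theorem mono_part [CharP F 2] {v m : GL D.Idx F} (hv : v ∈ D.posUnipotent F)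
    (hm : m ∈ D.monomialSubgroup F) (h2 : v * m * (v * m) = 1) :
    m * m = 1 ∧ m * v * m⁻¹ = v⁻¹ ∧ v ∈ grp D F {r | D.IsPosRoot r ∧ r ∉ H.chk.inv m} := by
  have hu' : v ∈ grp D F {r | D.IsPosRoot r ∧ 0 ≤ r} := by
    rw [posUnipotent_eq] at hv
    exact grp_mem_mono hv fun r hr => ⟨hr, Nat.zero_le r⟩
  obtain ⟨t, ht, s, hs, hts⟩ := H.chk.grp_split 0 (H.chk.inv m) hu'
  have hs' : s ∈ grp D F (H.chk.inv m) := grp_mem_mono hs fun r hr => hr.2
  have ht0 : t ∈ grp D F {r | D.IsPosRoot r ∧ r ∉ H.chk.inv m} :=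
    grp_mem_mono ht fun r hr => ⟨hr.1.1, hr.2⟩
  have ht' := H.chk.conj_noninv hm ht0
  have e1 : m * v = v⁻¹ * m⁻¹ := by
    calc m * v = v⁻¹ * (v * m * (v * m)) * m⁻¹ := by group
      _ = _ := by rw [h2]; group
  have e2 : m * t * m⁻¹ * m * s = v⁻¹ * m⁻¹ * 1 := by
    rw [mul_one, ← e1, hts]; group
  have hB := Subgroup.mem_sup_left (T := D.diagonalSubgroup F) ht'
  have hh0 := (H.chk.bnu_unique hB (Subgroup.mem_sup_left (inv_mem hv)) hm (inv_mem hm) hs'
    (one_mem _) e2).1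
  have hh1 : m * m ∈ D.diagonalSubgroup F := by
    have := inv_mem hh0
    rwa [mul_inv_rev, inv_inv] at this
  have e3 : m * t * m⁻¹ * m * s = v⁻¹ * (m * m)⁻¹ * m * 1 := by
    rw [e2]; group
  have hB2 : v⁻¹ * (m * m)⁻¹ ∈ D.borelSubgroup F :=
    mul_mem (Subgroup.mem_sup_left (inv_mem hv)) (Subgroup.mem_sup_right (inv_mem hh1))
  obtain ⟨e4, e5⟩ := (H.chk.bnu_unique hB hB2 hm hm hs' (one_mem _) e3).2 rfl
  obtain rfl : v = t := by rw [hts, e5, mul_one]
  have hmm : m * m = 1 := by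
    refine inv_eq_one.1 (Subgroup.mem_bot.1 ?_)
    rw [← H.chk.pos_inf_diag (F := F), Subgroup.mem_inf]
    refine ⟨?_, inv_mem hh1⟩
    rw [show (m * m)⁻¹ = v * (m * v * m⁻¹) by rw [e4]; group]
    exact mul_mem hv ht'
  exact ⟨hmm, by rw [e4, hmm, inv_one, mul_one], ht0⟩

end SLData

end Cfsg.Agent.Lib.Chev
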