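import Cfsg.Agent.Lib.Chev.InvolOrthThm

/-!
Certificates for the classification of orthogonal products, and for ranks of `g - 1`.
-/

set_option autoImplicit false

namespace Cfsg.Agent.Lib.Chev

open Cfsg.Lie Cfsg.Agent.Lib

namespace Fast

variable (T : Fast)

/-- image of a root under a word in the nodes -/
def actW (wd : List ℕ) (r : ℕ) : ℕ := wd.foldl (fun x i => T.w i x) r

/-- the roots are pairwise commuting -/
def commList (L : List ℕ) : Bool :=
  L.all fun a => Nat.blt a T.n && L.all fun b =>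
    Nat.beq a b || (T.evenC a b && !(Nat.beq b (T.ng a)))

/-- extension of the `k`-th representative by one root -/
def stepChk (reps : List (List ℕ)) (k : ℕ) (es : List (ℕ × List ℕ × ℕ)) : Bool :=
  ((reps.getD k []).all fun r => Nat.blt r T.n) &&
  allBelow T.n fun b => !((reps.getD k []).all fun r => beqI (T.pr r b) 0) ||
    match es.find? fun e => Nat.beq e.1 b with
    | none => false
    | some e => e.2.1.all (fun i => Nat.blt i T.l) && Nat.blt e.2.2 reps.length &&
        ((b :: reps.getD k []).map (T.actW e.2.1)).isPerm (reps.getD e.2.2 [])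

/-- parity mask of a list of terms -/
def parMask : List Tm → ℕ
  | [] => 0
  | q :: l => (bif Nat.beq (q.c.natAbs % 2) 1 then 2 ^ q.b else 0) ^^^ parMask l

/-- a column of `g - 1`, for `g` the product of `x_r(1)` over `S` -/
def colOf (S : List ℕ) (b : ℕ) : ℕ :=
  parMask (T.evalW (S.map fun r => ⟨r, 1, 0, 0⟩) [⟨b, 0, 0, 1⟩]) ^^^ 2 ^ b

/-- two words with parameters one act alike modulo two -/
def wordEqChk (u v : List ℕ) : Bool :=
  (u.all fun r => Nat.blt r T.n) && (v.all fun r => Nat.blt r T.n) &&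
    allBelow (T.l + T.n) fun b => Nat.beq (T.colOf u b) (T.colOf v b)

/-- a reduction of a representative: a word `w` with `w S = y w`, and a word in the nodes taking `y` to a
target or to an earlier representative -/
structure Red where
  /-- conjugating word -/
  w : List ℕ
  /-- the new roots -/
  y : List ℕ
  /-- node word -/
  wd : List ℕ
  /-- the destination is a target -/
  tgt : Bool
  /-- destination -/
  i : ℕ

/-- one reduction is valid -/
def redOK (reps targets : List (List ℕ)) (j : ℕ) (e : Red) : Bool :=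
  (T.wordEqChk (e.w ++ reps.getD j []) (e.y ++ e.w)) && (e.wd.all fun i => Nat.blt i T.l) &&
    bif e.tgt then Nat.blt e.i targets.length && (e.y.map (T.actW e.wd)).isPerm (targets.getD e.i [])
    else Nat.blt e.i j && !(reps.getD e.i []).isEmpty &&
      (e.y.map (T.actW e.wd)).isPerm (reps.getD e.i [])

/-- the columns are correct -/
def colsChk (S cols : List ℕ) : Bool :=
  (S.all fun r => Nat.blt r T.n) && allBelow (T.l + T.n) fun b => Nat.beq (T.colOf S b) (cols.getD b 0)

end Fast

/-- exclusive or of some entries -/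
def xorL (cols : List ℕ) : List ℕ → ℕ
  | [] => 0
  | i :: l => cols.getD i 0 ^^^ xorL cols l

/-- a certificate that the columns span a space of dimension `k` with reduced basis `B` and pivots `P` -/
def rankChk (N : ℕ) (cols B P : List ℕ) (pre sel : List (List ℕ)) (k : ℕ) : Bool :=
  Nat.beq B.length k &&
  (allBelow k fun i => Nat.blt (P.getD i 0) N && (pre.getD i []).all (fun b => Nat.blt b N) &&
    Nat.beq (xorL cols (pre.getD i [])) (B.getD i 0) &&
    allBelow k fun j => (B.getD j 0).testBit (P.getD i 0) == Nat.beq i j) &&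
  allBelow N fun b => (sel.getD b []).all (fun i => Nat.blt i k) &&
    Nat.beq (xorL B (sel.getD b [])) (cols.getD b 0)

variable {D : ChevalleyDatum} {T : Fast} {F : Type*} [Field F]

namespace SLData

variable (H : SLData D T)
include H

theorem actW_facts : ∀ (wd : List ℕ), (∀ i ∈ wd, i < D.rank) → ∀ r < D.nroots,
    T.actW wd r < D.nroots ∧ ∀ s < D.nroots, pair D (T.actW wd r) (T.actW wd s) = pair D r s
  | [], _, r, hr => ⟨hr, fun s _ => rfl⟩
  | i :: wd, h, r, hr => by
    have hi := h i (by simp)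
    have e : ∀ x < D.nroots, T.actW (i :: wd) x = T.actW wd (D.reflectRoot i x) := fun x hx => by
      rw [H.chk.refl i hi x hx]; rfl
    obtain ⟨h1, h2⟩ := actW_facts wd (fun j hj => h j (by simp [hj])) _ (H.chk.root.refl_lt i hi r hr)
    refine ⟨(e r hr).symm ▸ h1, fun s hs => ?_⟩
    rw [e r hr, e s hs, h2 _ (H.chk.root.refl_lt i hi s hs), H.chk.root.pair_refl hi hr hs]

/-- product of root elements with parameter one -/
def X (H : SLData D T) (F : Type*) [Field F] (l : List ℕ) : GL D.Idx F :=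
  H.chk.wg (l.map fun r => (r, (1 : F)))

theorem X_mem {l : List ℕ} (h : ∀ r ∈ l, r < D.nroots) : H.X F l ∈ D.group F :=
  H.chk.wg_mem_group _ fun p hp => by
    obtain ⟨r, hr, rfl⟩ := List.mem_map.1 hp
    exact h r hr

theorem X_cons (a : ℕ) (l : List ℕ) : H.X F (a :: l) = H.chk.xg a 1 * H.X F l := rfl

theorem X_append (l l' : List ℕ) : H.X F (l ++ l') = H.X F l * H.X F l' := by
  rw [X, List.map_append, H.chk.wg_append']
  rfl

theorem X_perm {l l' : List ℕ} (hp : l.Perm l')
    (hc : ∀ a ∈ l, ∀ b ∈ l, Commute (H.chk.xg a (1 : F)) (H.chk.xg b 1)) : H.X F l = H.X F l' := by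
  refine H.chk.wg_perm (hp.map _) fun p hp q hq => ?_
  obtain ⟨a, ha, rfl⟩ := List.mem_map.1 hp
  obtain ⟨b, hb, rfl⟩ := List.mem_map.1 hq
  exact hc a ha b hb

theorem commute_of_commList [CharP F 2] {L : List ℕ} (hL : T.commList L = true) :
    (∀ a ∈ L, a < D.nroots) ∧
      ∀ a ∈ L, ∀ b ∈ L, Commute (H.chk.xg a (1 : F)) (H.chk.xg b 1) := by
  simp only [Fast.commList, List.all_eq_true, Bool.and_eq_true, Nat.blt_eq, Bool.or_eq_true] at hL
  refine ⟨fun a ha => H.chk.tables.nroots ▸ (hL a ha).1, fun a ha b hb => ?_⟩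
  rcases (hL a ha).2 b hb with e | e
  · rw [Nat.eq_of_beq_eq_true e]
  simp only [Bool.not_eq_true', Bool.eq_false_iff] at e
  have hlta : a < D.nroots := H.chk.tables.nroots ▸ (hL a ha).1
  have hltb : b < D.nroots := H.chk.tables.nroots ▸ (hL b hb).1
  exact H.chk.comm_of_even hlta hltb
    (fun hb' => e.2 (by rw [hb', H.chk.tables.neg a hlta]; simp)) e.1 1 1

theorem orbit_rep {reps : List (List ℕ)} {steps : ℕ → List (ℕ × List ℕ × ℕ)}
    (h0 : reps.getD 0 [] = []) (hlen : 0 < reps.length)
    (hsteps : ∀ k < reps.length, T.stepChk reps k (steps k) = true) :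
    ∀ l : List ℕ, H.OrthIn Set.univ l → ∃ wd : List ℕ, (∀ i ∈ wd, i < D.rank) ∧
      ∃ j < reps.length, (l.map (T.actW wd)).Perm (reps.getD j [])
  | [], _ => ⟨[], by simp, 0, hlen, by rw [h0]; rfl⟩
  | b :: l, hl => by
    obtain ⟨hnd, hr, hp⟩ := hl
    obtain ⟨hbl, hnd'⟩ := List.nodup_cons.1 hnd
    obtain ⟨wd, hwd, k, hk, hperm⟩ := orbit_rep h0 hlen hsteps l
      ⟨hnd', fun r hr' => hr r (by simp [hr']), fun r h1 s h2 => hp r (by simp [h1]) s (by simp [h2])⟩
    have hb := (hr b (by simp)).1
    obtain ⟨hb', -⟩ := H.actW_facts wd hwd b hb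
    have hs := hsteps k hk
    rw [Fast.stepChk, Bool.and_eq_true] at hs
    have hb'' := allBelow_iff.1 hs.2 (T.actW wd b) (H.chk.tables.nroots ▸ hb')
    have horth : ((reps.getD k []).all fun r => beqI (T.pr r (T.actW wd b)) 0) = true := by
      rw [List.all_eq_true]
      intro r hr'
      obtain ⟨x, hx, rfl⟩ := List.mem_map.1 (hperm.mem_iff.2 hr')
      have hx' := (hr x (by simp [hx])).1
      obtain ⟨h1, h2⟩ := H.actW_facts wd hwd x hx'
      rw [H.chk.pr_eq h1 hb', h2 b hb, hp x (by simp [hx]) b (by simp) (fun e => hbl (e ▸ hx)),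
        beqI_self]
    rw [horth, Bool.not_true, Bool.false_or] at hb''
    split at hb''
    · exact absurd hb'' (by simp)
    next e he =>
      simp only [Bool.and_eq_true, List.all_eq_true, Nat.blt_eq, List.isPerm_iff] at hb''
      refine ⟨wd ++ e.2.1, fun i hi => ?_, e.2.2, hb''.1.2, ?_⟩
      · rcases List.mem_append.1 hi with hi | hi
        exacts [hwd i hi, H.chk.tables.rank ▸ hb''.1.1 i hi]
      · have e1 : (b :: l).map (T.actW (wd ++ e.2.1)) =
            ((T.actW wd b) :: l.map (T.actW wd)).map (T.actW e.2.1) := by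
          simp [Fast.actW, List.foldl_append]
        rw [e1]
        exact (((hperm.cons _).map _).trans hb''.2)

theorem actW_conj [CharP F 2] : ∀ (wd : List ℕ), (∀ i ∈ wd, i < D.rank) → ∀ l : List ℕ,
    (∀ r ∈ l, r < D.nroots) →
    ∃ k ∈ D.group F, k * H.X F l * k⁻¹ = H.X F (l.map (T.actW wd))
  | [], _, l, _ => ⟨1, one_mem _, by simp [show T.actW [] = id from rfl]⟩
  | i :: wd, h, l, hl => by
    have hi := h i (by simp)
    obtain ⟨k', hk', e'⟩ := actW_conj wd (fun j hj => h j (by simp [hj])) (l.map (T.w i)) fun r hr => by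
      obtain ⟨x, hx, rfl⟩ := List.mem_map.1 hr
      rw [← H.chk.refl i hi x (hl x hx)]
      exact H.chk.root.refl_lt i hi x (hl x hx)
    have e : H.chk.ng i * H.X F l * (H.chk.ng i)⁻¹ = H.X F (l.map (T.w i)) := by
      rw [X, H.conj_word (fun p => (T.w i p.1, p.2))]
      · rw [X, List.map_map, List.map_map]; rfl
      · intro p hp
        obtain ⟨s, hs, rfl⟩ := List.mem_map.1 hp
        rw [H.ng_conj hi (hl s hs), H.chk.refl i hi s (hl s hs)]
    refine ⟨k' * H.chk.ng i, mul_mem hk' (H.chk.ng_mem_group hi), ?_⟩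
    calc k' * H.chk.ng i * H.X F l * (k' * H.chk.ng i)⁻¹ =
          k' * (H.chk.ng i * H.X F l * (H.chk.ng i)⁻¹) * k'⁻¹ := by group
      _ = H.X F (l.map (T.actW (i :: wd))) := by rw [e, e', List.map_map]; rfl

theorem orth_commute [CharP F 2] {l : List ℕ} (hl : H.OrthIn Set.univ l) :
    ∀ a ∈ l, ∀ b ∈ l, Commute (H.chk.xg a (1 : F)) (H.chk.xg b 1) := by
  intro a ha b hb
  by_cases h : a = b
  · rw [h]
  · exact H.commute_orth (hl.2.1 a ha).1 (hl.2.1 b hb).1 (hl.2.2 a ha b hb h) 1 1

/-! ### ranks -/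

/-- a packed vector over the prime field -/
def vec (_ : SLData D T) (F : Type*) [Field F] (v : ℕ) : D.Idx → F :=
  Sum.elim (fun i => if v.testBit i.val then 1 else 0)
    (fun u => if v.testBit (D.rank + u.val) then 1 else 0)

theorem vec_xor [CharP F 2] (a b : ℕ) : H.vec F (a ^^^ b) = H.vec F a + H.vec F b := by
  funext x
  rcases x with i | u <;> simp only [vec, Sum.elim_inl, Sum.elim_inr, Pi.add_apply, Nat.testBit_xor]
  · cases a.testBit i.val <;> cases b.testBit i.val <;> simp [CharTwo.add_self_eq_zero]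
  · cases a.testBit (D.rank + u.val) <;> cases b.testBit (D.rank + u.val) <;>
      simp [CharTwo.add_self_eq_zero]

theorem vec_zero : H.vec F 0 = 0 := by
  funext x; rcases x with i | u <;> simp [vec]

theorem vec_pow {b : ℕ} (hb : b < D.rank + D.nroots) : H.vec F (2 ^ b) = vecOf D F b := by
  funext x
  unfold vecOf
  rcases x with i | u <;> split_ifs with h <;>
    simp only [vec, Sum.elim_inl, Sum.elim_inr, Nat.testBit_two_pow, bh_apply, bv_apply, decide_eq_true_eq]
  · exact if_congr eq_comm rfl rfl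
  · exact if_neg (by omega)
  · exact if_neg (by omega)
  · exact if_congr (by omega) rfl rfl

theorem parMask_sound [CharP F 2] : ∀ l : List Tm, Valid D l →
    H.vec F (Fast.parMask l) = tmsVal D (1 : F) 1 l
  | [], _ => by simp [Fast.parMask, H.vec_zero]
  | q :: l, h => by
    rw [Fast.parMask, H.vec_xor, tmsVal_cons, parMask_sound l fun x hx => h x (by simp [hx])]
    congr 1
    rw [tmVal, Checked.intCast_of_parity (F := F) q.c]
    rcases Nat.mod_two_eq_zero_or_one q.c.natAbs with e | e
    · simp [e, H.vec_zero, show Nat.beq 0 1 = false from rfl]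
    · simp [e, H.vec_pow (h q (by simp))]

theorem colOf_sound [CharP F 2] {S : List ℕ} (hS : ∀ r ∈ S, r < T.n) {b : ℕ}
    (hb : b < D.rank + D.nroots) :
    H.vec F (T.colOf S b) = ((H.X F S : Matrix D.Idx D.Idx F) - 1).mulVec (vecOf D F b) := by
  have hw : ∀ L ∈ S.map (fun r => (⟨r, 1, 0, 0⟩ : Let)), L.r < D.nroots := by
    intro L hL
    obtain ⟨r, hr, rfl⟩ := List.mem_map.1 hL
    exact H.chk.tables.nroots ▸ hS r hr
  have hval := evalW_sound (1 : F) 1 H.chk.tables H.chk.root _ hw [⟨b, 0, 0, 1⟩] (by simp [Valid, hb])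
  rw [Fast.colOf, H.vec_xor, H.parMask_sound _ hval.1, ← hval.2, H.vec_pow hb, Matrix.sub_mulVec,
    Matrix.one_mulVec, sub_eq_add_neg, ← neg_one_smul F (vecOf D F b), CharTwo.neg_eq, one_smul]
  congr 2
  · rw [X, H.chk.val_wg, realize, List.map_map]
    congr 1
    refine List.map_congr_left fun r _ => ?_
    simp
  · simp [tmVal]

theorem col_sound [CharP F 2] {S cols : List ℕ} (h : T.colsChk S cols = true) {b : ℕ}
    (hb : b < D.rank + D.nroots) :
    H.vec F (cols.getD b 0) =
      ((H.X F S : Matrix D.Idx D.Idx F) - 1).mulVec (vecOf D F b) := by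
  simp only [Fast.colsChk, Bool.and_eq_true, List.all_eq_true, Nat.blt_eq, allBelow_iff] at h
  rw [← Nat.eq_of_beq_eq_true (h.2 b (by rw [← H.chk.tables.rank, ← H.chk.tables.nroots]; exact hb))]
  exact H.colOf_sound h.1 hb

theorem wordEq_sound [CharP F 2] {u v : List ℕ} (h : T.wordEqChk u v = true) :
    H.X F u = H.X F v ∧ (∀ r ∈ u, r < D.nroots) ∧ ∀ r ∈ v, r < D.nroots := by
  simp only [Fast.wordEqChk, Bool.and_eq_true, List.all_eq_true, Nat.blt_eq, allBelow_iff] at h
  refine ⟨Units.ext (ext_vecOf fun b hb => ?_), fun r hr => H.chk.tables.nroots ▸ h.1.1 r hr,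
    fun r hr => H.chk.tables.nroots ▸ h.1.2 r hr⟩
  have hb' : b < T.l + T.n := by rw [← H.chk.tables.rank, ← H.chk.tables.nroots]; exact hb
  have key : ∀ S : List ℕ, (∀ r ∈ S, r < T.n) → H.vec F (T.colOf S b) =
      ((H.X F S : Matrix D.Idx D.Idx F) - 1).mulVec (vecOf D F b) := fun S hS =>
    H.colOf_sound (fun r hr => hS r hr) hb
  have e := congrArg (H.vec F) (Nat.eq_of_beq_eq_true (h.2 b hb'))
  rw [key u h.1.1, key v h.1.2, Matrix.sub_mulVec, Matrix.sub_mulVec] at e
  simpa using e

/-- Every involution is conjugate to one of the targets. -/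
theorem classify [CharP F 2] [Finite F] {reps targets : List (List ℕ)}
    {steps : ℕ → List (ℕ × List ℕ × ℕ)} {red : ℕ → Fast.Red}
    (h0 : reps.getD 0 [] = []) (hlen : 0 < reps.length)
    (hsteps : ∀ k < reps.length, T.stepChk reps k (steps k) = true)
    (hcomm : ∀ j < reps.length, T.commList (reps.getD j []) = true)
    (hred : ∀ j < reps.length, 0 < j → T.redOK reps targets j (red j) = true)
    (htc : ∀ i < targets.length, T.commList (targets.getD i []) = true)
    {g : GL D.Idx F} (hg : g ∈ D.group F) (h2 : g * g = 1) (h1 : g ≠ 1) :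
    ∃ t ∈ targets, ∃ k ∈ D.group F, k * g * k⁻¹ = H.X F t := by
  obtain ⟨k, hk, l, hl, e⟩ := H.split_group hg h2
  obtain ⟨wd, hwd, j, hj, hperm⟩ := H.orbit_rep h0 hlen hsteps l hl
  obtain ⟨k', hk', e'⟩ := H.actW_conj (F := F) wd hwd l fun r hr => (hl.2.1 r hr).1
  have hX : k' * k * g * (k' * k)⁻¹ = H.X F (reps.getD j []) := by
    rw [H.X_perm hperm.symm (H.commute_of_commList (hcomm j hj)).2, ← e',
      show H.X F l = k * g * k⁻¹ from e.symm]
    group
  have key : ∀ j, j < reps.length → 0 < j →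
      ∃ t ∈ targets, ∃ c ∈ D.group F, c * H.X F (reps.getD j []) * c⁻¹ = H.X F t := by
    intro j
    induction j using Nat.strong_induction_on with
    | _ j ih =>
      intro hj hj0
      have hr := hred j hj hj0
      simp only [Fast.redOK, Bool.and_eq_true, List.all_eq_true, Nat.blt_eq] at hr
      obtain ⟨⟨hw, hwd⟩, hdest⟩ := hr
      obtain ⟨hX, hu, hv⟩ := H.wordEq_sound (F := F) hw
      obtain ⟨c, hc, ec⟩ := H.actW_conj (F := F) (red j).wd
        (fun i hi => H.chk.tables.rank ▸ hwd i hi) (red j).y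
        fun r hr => hv r (List.mem_append_left _ hr)
      have hstep : c * H.X F (red j).w * H.X F (reps.getD j []) * (c * H.X F (red j).w)⁻¹ =
          H.X F ((red j).y.map (T.actW (red j).wd)) := by
        rw [← ec, mul_assoc c, ← H.X_append, hX, H.X_append]
        group
      have hmem : c * H.X F (red j).w ∈ D.group F :=
        mul_mem hc (H.X_mem fun r hr => hu r (List.mem_append_left _ hr))
      cases ht : (red j).tgt <;>
        simp only [ht, cond_true, cond_false, Bool.and_eq_true, Nat.blt_eq, List.isPerm_iff] at hdest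
      · obtain ⟨⟨hlt, hne⟩, hp⟩ := hdest
        have hi0 : 0 < (red j).i := Nat.pos_of_ne_zero fun h => by rw [h, h0] at hne; simp at hne
        rw [← H.X_perm hp.symm (H.commute_of_commList (hcomm _ (hlt.trans hj))).2] at hstep
        obtain ⟨t, ht', c', hc', e''⟩ := ih _ hlt (hlt.trans hj) hi0
        exact ⟨t, ht', c' * (c * H.X F (red j).w), mul_mem hc' hmem, by rw [← e'', ← hstep]; group⟩
      · obtain ⟨hlt, hp⟩ := hdest
        rw [← H.X_perm hp.symm (H.commute_of_commList (htc _ hlt)).2] at hstep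
        refine ⟨targets.getD (red j).i [], ?_, c * H.X F (red j).w, hmem, hstep⟩
        rw [List.getD_eq_getElem _ _ hlt]; exact List.getElem_mem hlt
  rcases Nat.eq_zero_or_pos j with hj0 | hj0
  · rw [hj0, h0, show H.X F [] = 1 from rfl, conj_eq_one_iff] at hX
    exact absurd hX h1
  · obtain ⟨t, ht, c, hc, ec⟩ := key j hj hj0
    exact ⟨t, ht, c * (k' * k), mul_mem hc (mul_mem hk' hk), by rw [← ec, ← hX]; group⟩

theorem rank_of_chk [CharP F 2] {cols B P : List ℕ} {pre sel : List (List ℕ)} {k : ℕ}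
    {M : Matrix D.Idx D.Idx F}
    (hc : ∀ b < D.rank + D.nroots, H.vec F (cols.getD b 0) = M.mulVec (vecOf D F b))
    (h : rankChk (T.l + T.n) cols B P pre sel k = true) : M.rank = k := by
  classical
  simp only [rankChk, Bool.and_eq_true, allBelow_iff, List.all_eq_true, Nat.blt_eq, beq_iff_eq] at h
  obtain ⟨⟨hlen, hpiv⟩, hsel⟩ := h
  have hN : T.l + T.n = D.rank + D.nroots := by rw [H.chk.tables.rank, H.chk.tables.nroots]
  let v : Fin k → (D.Idx → F) := fun i => H.vec F (B.getD i 0)
  have hpre : ∀ (l : List ℕ), (∀ b ∈ l, b < T.l + T.n) →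
      H.vec F (xorL cols l) ∈ LinearMap.range M.mulVecLin := by
    intro l
    induction l with
    | nil => intro _; rw [xorL, H.vec_zero]; exact Submodule.zero_mem _
    | cons b l ih =>
      intro hb
      rw [xorL, H.vec_xor]
      refine Submodule.add_mem _ ⟨vecOf D F b, ?_⟩ (ih fun x hx => hb x (by simp [hx]))
      rw [Matrix.mulVecLin_apply, hc b (hN ▸ hb b (by simp))]
  have hspan : ∀ (l : List ℕ), (∀ i ∈ l, i < k) →
      H.vec F (xorL B l) ∈ Submodule.span F (Set.range v) := by
    intro l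
    induction l with
    | nil => intro _; rw [xorL, H.vec_zero]; exact Submodule.zero_mem _
    | cons b l ih =>
      intro hb
      rw [xorL, H.vec_xor]
      exact Submodule.add_mem _ (Submodule.subset_span ⟨⟨b, hb b (by simp)⟩, rfl⟩)
        (ih fun x hx => hb x (by simp [hx]))
  have hrange : LinearMap.range M.mulVecLin = Submodule.span F (Set.range v) := by
    refine le_antisymm ?_ (Submodule.span_le.2 ?_)
    · rw [Matrix.range_mulVecLin, Submodule.span_le]
      rintro _ ⟨x, rfl⟩
      obtain ⟨b, hb, e⟩ : ∃ b < D.rank + D.nroots, vecOf D F b = Pi.single x 1 := by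
        rcases x with i | u
        · refine ⟨i.val, by omega, ?_⟩
          funext y
          rcases y with j | w <;> simp [vecOf, bh_apply, Pi.single_apply, Fin.ext_iff]
        · refine ⟨D.rank + u.val, by omega, ?_⟩
          funext y
          rcases y with j | w <;> simp [vecOf, bv_apply, Pi.single_apply, Fin.ext_iff]
      have h1 : M.col x = H.vec F (cols.getD b 0) := by
        rw [hc b hb, e, Matrix.mulVec_single_one]
      rw [SetLike.mem_coe, h1, ← Nat.eq_of_beq_eq_true (hsel b (hN ▸ hb)).2]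
      exact hspan _ (hsel b (hN ▸ hb)).1
    · rintro _ ⟨i, rfl⟩
      obtain ⟨⟨⟨-, hp⟩, he⟩, -⟩ := hpiv i.val i.isLt
      show H.vec F (B.getD i.val 0) ∈ _
      rw [← Nat.eq_of_beq_eq_true he]
      exact hpre _ hp
  have hli : LinearIndependent F v := by
    rw [Fintype.linearIndependent_iff]
    intro g hg i
    obtain ⟨⟨⟨hPlt, -⟩, -⟩, hdual⟩ := hpiv i.val i.isLt
    set p := P.getD i.val 0
    obtain ⟨x, hx⟩ : ∃ x : D.Idx, ∀ w, H.vec F w x = if w.testBit p then 1 else 0 := by
      by_cases hpl : p < D.rank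
      · exact ⟨Sum.inl ⟨p, hpl⟩, fun w => rfl⟩
      · exact ⟨Sum.inr ⟨p - D.rank, by omega⟩, fun w => by
          simp only [vec, Sum.elim_inr]
          rw [show D.rank + (p - D.rank) = p by omega]⟩
    have h1 := congrFun hg x
    rw [Finset.sum_apply, Finset.sum_eq_single i] at h1
    · have hii := hdual i.val i.isLt
      simp only [Pi.smul_apply, v, hx] at h1
      rw [hii] at h1
      simpa using h1
    · intro j _ hj
      have hij := hdual j.val j.isLt
      simp only [Pi.smul_apply, v, hx]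
      rw [hij, if_neg, smul_zero]
      simp only [Bool.not_eq_true]
      exact Bool.eq_false_iff.2 fun e => hj (Fin.ext (Nat.eq_of_beq_eq_true e).symm)
    · simp
  rw [Matrix.rank, hrange, finrank_span_eq_card hli, Fintype.card_fin]

theorem rank_eq [CharP F 2] {S cols B P : List ℕ} {pre sel : List (List ℕ)} {k : ℕ}
    (hc : T.colsChk S cols = true) (h : rankChk (T.l + T.n) cols B P pre sel k = true) :
    ((H.X F S : Matrix D.Idx D.Idx F) - 1).rank = k :=
  H.rank_of_chk (fun _ hb => H.col_sound hc hb) h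

/-- conjugate elements have equal rank of `g - 1` -/
theorem rank_conj {g h : GL D.Idx F} :
    (((h * g * h⁻¹ : GL D.Idx F) : Matrix D.Idx D.Idx F) - 1).rank =
      ((g : Matrix D.Idx D.Idx F) - 1).rank := by
  have e : ((h * g * h⁻¹ : GL D.Idx F) : Matrix D.Idx D.Idx F) - 1 =
      (h : Matrix D.Idx D.Idx F) * ((g : Matrix D.Idx D.Idx F) - 1) *
        ((h⁻¹ : GL D.Idx F) : Matrix D.Idx D.Idx F) := by
    simp [mul_sub, sub_mul]
  rw [e, Matrix.rank_mul_eq_left_of_isUnit_det, Matrix.rank_mul_eq_right_of_isUnit_det]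
  · exact (Matrix.isUnit_iff_isUnit_det _).1 h.isUnit
  · exact (Matrix.isUnit_iff_isUnit_det _).1 (h⁻¹).isUnit

theorem X_orderOf [CharP F 2] {S cols B P : List ℕ} {pre sel : List (List ℕ)} {k : ℕ}
    (hcl : T.commList S = true) (hnd : S.Nodup) (hk : 0 < k)
    (hc : T.colsChk S cols = true) (h : rankChk (T.l + T.n) cols B P pre sel k = true) :
    H.X F S ∈ D.group F ∧ orderOf (H.X F S) = 2 := by
  obtain ⟨hlt, hcomm⟩ := H.commute_of_commList (F := F) hcl
  refine ⟨H.X_mem hlt, orderOf_eq_prime ?_ ?_⟩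
  · rw [pow_two]
    clear hcl h hc hnd
    induction S with
    | nil => simp [X, H.chk.wg_nil]
    | cons a S ih =>
      have hS : Commute (H.chk.xg a (1 : F)) (H.X F S) := H.commute_wg _ fun p hp => by
        obtain ⟨r, hr, rfl⟩ := List.mem_map.1 hp
        exact hcomm a (by simp) r (by simp [hr])
      rw [H.X_cons, mul_assoc, ← mul_assoc (H.X F S), ← hS.eq, ← mul_assoc, ← mul_assoc,
        H.chk.xg_add (hlt a (by simp)), CharTwo.add_self_eq_zero, H.chk.xg_zero, one_mul,
        ih (fun x hx => hlt x (by simp [hx])) fun x hx y hy => hcomm x (by simp [hx]) y (by simp [hy])]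
  · intro e
    have := H.rank_eq (F := F) hc h
    rw [e, Units.val_one, sub_self, Matrix.rank_zero] at this
    omega

end SLData

end Cfsg.Agent.Lib.Chev
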