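import Cfsg.Agent.Lib.Chev.InvolOrthCert

/-!
Classes of involutions from the certificates.
-/

set_option autoImplicit false

namespace Cfsg.Agent.Lib.Chev

open Cfsg.Lie

variable {D : ChevalleyDatum} {T : Fast} {F : Type*} [Field F] [CharP F 2] [Finite F]

namespace SLData

variable (H : SLData D T)
include H

/-- The classification in the form of the statements. -/
theorem classes {reps targets : List (List ℕ)} {steps : ℕ → List (ℕ × List ℕ × ℕ)} {red : ℕ → Fast.Red}
    {ks : List ℕ}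
    (h0 : reps.getD 0 [] = []) (hlen : 0 < reps.length)
    (hsteps : ∀ k < reps.length, T.stepChk reps k (steps k) = true)
    (hcomm : (reps.all T.commList && targets.all T.commList) = true)
    (hred : ∀ j < reps.length, 0 < j → T.redOK reps targets j (red j) = true)
    (hrank : ∀ i < targets.length,
      (H.X F (targets.getD i []) ∈ D.group F ∧ orderOf (H.X F (targets.getD i [])) = 2) ∧
      ((H.X F (targets.getD i []) : Matrix D.Idx D.Idx F) - 1).rank = ks.getD i 0)
    (hks : ∀ i < targets.length, ∀ j < targets.length, ks.getD i 0 = ks.getD j 0 → i = j) :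
    (∀ t ∈ targets, H.X F t ∈ D.group F ∧ orderOf (H.X F t) = 2) ∧
    (∀ g ∈ D.group F, orderOf g = 2 → ∃ t ∈ targets, ∃ k ∈ D.group F, k * g * k⁻¹ = H.X F t) ∧
    (∀ t ∈ targets, ∀ t' ∈ targets, ∀ k : GL D.Idx F, k * H.X F t * k⁻¹ = H.X F t' → t = t') := by
  simp only [Bool.and_eq_true, List.all_eq_true] at hcomm
  have hget : ∀ (L : List (List ℕ)) (i : ℕ), i < L.length → L.getD i [] ∈ L := fun L i hi => by
    rw [List.getD_eq_getElem _ _ hi]; exact List.getElem_mem hi
  have hidx : ∀ t ∈ targets, ∃ i < targets.length, targets.getD i [] = t := fun t ht => by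
    obtain ⟨i, hi, e⟩ := List.getElem_of_mem ht
    exact ⟨i, hi, by rw [List.getD_eq_getElem _ _ hi, e]⟩
  refine ⟨fun t ht => ?_, fun g hg h2 => ?_, fun t ht t' ht' k e => ?_⟩
  · obtain ⟨i, hi, rfl⟩ := hidx t ht
    exact (hrank i hi).1
  · have h22 : g * g = 1 := by rw [← pow_two, ← h2]; exact pow_orderOf_eq_one g
    have h1 : g ≠ 1 := by rintro rfl; rw [orderOf_one] at h2; omega
    exact H.classify h0 hlen hsteps (fun j hj => hcomm.1 _ (hget _ j hj)) hred
      (fun i hi => hcomm.2 _ (hget _ i hi)) hg h22 h1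
  · obtain ⟨i, hi, rfl⟩ := hidx t ht
    obtain ⟨j, hj, rfl⟩ := hidx t' ht'
    have hr := H.rank_conj (F := F) (g := H.X F (targets.getD i [])) (h := k)
    rw [e, (hrank i hi).2, (hrank j hj).2] at hr
    rw [hks i hi j hj hr.symm]

/-- The number of classes. -/
theorem ncard_classes {targets : List (List ℕ)} (hnd : targets.Nodup)
    (hmem : ∀ t ∈ targets, H.X F t ∈ D.group F ∧ orderOf (H.X F t) = 2)
    (hall : ∀ g ∈ D.group F, orderOf g = 2 → ∃ t ∈ targets, ∃ k ∈ D.group F, k * g * k⁻¹ = H.X F t)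
    (hinj : ∀ t ∈ targets, ∀ t' ∈ targets, ∀ k : GL D.Idx F, k * H.X F t * k⁻¹ = H.X F t' → t = t') :
    (ConjClasses.mk '' {g : ↥(D.group F) | orderOf g = 2}).ncard = targets.length := by
  classical
  let f : (t : List ℕ) → t ∈ targets → ConjClasses ↥(D.group F) := fun t ht =>
    ConjClasses.mk ⟨H.X F t, (hmem t ht).1⟩
  let f' : {t // t ∈ targets.toFinset} → ConjClasses ↥(D.group F) := fun t =>
    f t.1 (List.mem_toFinset.1 t.2)
  have himg : ConjClasses.mk '' {g : ↥(D.group F) | orderOf g = 2} = Set.range f' := by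
    ext c
    constructor
    · rintro ⟨g, hg, rfl⟩
      obtain ⟨t, ht, k, hk, e⟩ := hall g g.2 (by rw [Subgroup.orderOf_coe]; exact hg)
      refine ⟨⟨t, List.mem_toFinset.2 ht⟩, ?_⟩
      exact (ConjClasses.mk_eq_mk_iff_isConj.2 (isConj_iff.2 ⟨⟨k, hk⟩, Subtype.ext e⟩)).symm
    · rintro ⟨⟨t, ht⟩, rfl⟩
      refine ⟨⟨H.X F t, (hmem t (List.mem_toFinset.1 ht)).1⟩, ?_, rfl⟩
      show orderOf _ = 2
      rw [Subgroup.orderOf_mk]
      exact (hmem t (List.mem_toFinset.1 ht)).2
  have hf : Function.Injective f' := by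
    rintro ⟨t, ht⟩ ⟨t', ht'⟩ h
    obtain ⟨k, hk⟩ := isConj_iff.1 (ConjClasses.mk_eq_mk_iff_isConj.1 h)
    exact Subtype.ext (hinj t (List.mem_toFinset.1 ht) t' (List.mem_toFinset.1 ht') k
      (congrArg Subtype.val hk))
  rw [himg, ← Set.image_univ, Set.ncard_image_of_injective _ hf, Set.ncard_univ,
    Nat.card_eq_fintype_card, Fintype.card_coe, List.toFinset_card_of_nodup hnd]

end SLData

end Cfsg.Agent.Lib.Chev
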