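import Cfsg.Agent.Lib.Chev.InvolOrthCert
import Cfsg.Agent.Lib.Chev.Data.E6

/-! Generated certificates for the involutions of type E6 in characteristic two. -/

set_option autoImplicit false
set_option maxRecDepth 100000

namespace Cfsg.Agent.Lib.Chev.InvolOrthE6

open Cfsg.Lie

def reps : List (List ℕ) := [[], [0], [0, 11], [0, 11, 27], [0, 11, 27, 32]]

def targets : List (List ℕ) := [[71], [68, 66], [55, 65, 67]]

def steps0 : List (ℕ × List ℕ × ℕ) := [(0, [], 1),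
  (1, [1], 1),
  (2, [3, 1], 1),
  (3, [4, 3, 1], 1),
  (4, [5, 4, 3, 1], 1),
  (5, [2, 3, 1], 1),
  (6, [4, 2, 3, 1], 1),
  (7, [5, 4, 2, 3, 1], 1),
  (8, [3, 4, 2, 3, 1], 1),
  (9, [5, 3, 4, 2, 3, 1], 1),
  (10, [4, 5, 3, 4, 2, 3, 1], 1),
  (11, [1, 3, 4, 2, 3, 1], 1),
  (12, [5, 1, 3, 4, 2, 3, 1], 1),
  (13, [4, 5, 1, 3, 4, 2, 3, 1], 1),
  (14, [3, 4, 5, 1, 3, 4, 2, 3, 1], 1),
  (15, [2, 3, 4, 5, 1, 3, 4, 2, 3, 1], 1),
  (16, [0, 2, 3, 1], 1),
  (17, [4, 0, 2, 3, 1], 1),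
  (18, [5, 4, 0, 2, 3, 1], 1),
  (19, [3, 4, 0, 2, 3, 1], 1),
  (20, [5, 3, 4, 0, 2, 3, 1], 1),
  (21, [4, 5, 3, 4, 0, 2, 3, 1], 1),
  (22, [2, 3, 4, 0, 2, 3, 1], 1),
  (23, [5, 2, 3, 4, 0, 2, 3, 1], 1),
  (24, [4, 5, 2, 3, 4, 0, 2, 3, 1], 1),
  (25, [3, 4, 5, 2, 3, 4, 0, 2, 3, 1], 1),
  (26, [1, 3, 4, 0, 2, 3, 1], 1),
  (27, [5, 1, 3, 4, 0, 2, 3, 1], 1),
  (28, [4, 5, 1, 3, 4, 0, 2, 3, 1], 1),
  (29, [3, 4, 5, 1, 3, 4, 0, 2, 3, 1], 1),
  (30, [2, 1, 3, 4, 0, 2, 3, 1], 1),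
  (31, [5, 2, 1, 3, 4, 0, 2, 3, 1], 1),
  (32, [4, 5, 2, 1, 3, 4, 0, 2, 3, 1], 1),
  (33, [3, 2, 1, 3, 4, 0, 2, 3, 1], 1),
  (34, [5, 3, 2, 1, 3, 4, 0, 2, 3, 1], 1),
  (35, [4, 3, 2, 1, 3, 4, 0, 2, 3, 1], 1),
  (36, [5, 4, 3, 2, 1, 3, 4, 0, 2, 3, 1], 1),
  (37, [4, 5, 3, 2, 1, 3, 4, 0, 2, 3, 1], 1),
  (38, [4, 5, 4, 3, 2, 1, 3, 4, 0, 2, 3, 1], 1),
  (39, [3, 4, 5, 2, 1, 3, 4, 0, 2, 3, 1], 1),
  (40, [3, 4, 5, 3, 2, 1, 3, 4, 0, 2, 3, 1], 1),
  (41, [3, 4, 5, 4, 3, 2, 1, 3, 4, 0, 2, 3, 1], 1),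
  (42, [2, 3, 4, 5, 1, 3, 4, 0, 2, 3, 1], 1),
  (43, [2, 3, 4, 5, 2, 1, 3, 4, 0, 2, 3, 1], 1),
  (44, [2, 3, 4, 5, 3, 2, 1, 3, 4, 0, 2, 3, 1], 1),
  (45, [2, 3, 4, 5, 4, 3, 2, 1, 3, 4, 0, 2, 3, 1], 1),
  (46, [1, 3, 4, 5, 2, 3, 4, 0, 2, 3, 1], 1),
  (47, [1, 3, 4, 5, 2, 1, 3, 4, 0, 2, 3, 1], 1),
  (48, [1, 3, 4, 5, 3, 2, 1, 3, 4, 0, 2, 3, 1], 1),
  (49, [1, 3, 4, 5, 4, 3, 2, 1, 3, 4, 0, 2, 3, 1], 1),
  (50, [2, 1, 3, 4, 5, 2, 1, 3, 4, 0, 2, 3, 1], 1),
  (51, [2, 1, 3, 4, 5, 3, 2, 1, 3, 4, 0, 2, 3, 1], 1),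
  (52, [2, 1, 3, 4, 5, 4, 3, 2, 1, 3, 4, 0, 2, 3, 1], 1),
  (53, [3, 2, 1, 3, 4, 5, 3, 2, 1, 3, 4, 0, 2, 3, 1], 1),
  (54, [3, 2, 1, 3, 4, 5, 4, 3, 2, 1, 3, 4, 0, 2, 3, 1], 1),
  (55, [4, 3, 2, 1, 3, 4, 5, 4, 3, 2, 1, 3, 4, 0, 2, 3, 1], 1),
  (56, [0, 2, 3, 4, 5, 1, 3, 4, 2, 3, 1], 1),
  (57, [0, 2, 3, 4, 5, 1, 3, 4, 0, 2, 3, 1], 1),
  (58, [0, 2, 3, 4, 5, 2, 1, 3, 4, 0, 2, 3, 1], 1),
  (59, [0, 2, 3, 4, 5, 3, 2, 1, 3, 4, 0, 2, 3, 1], 1),
  (60, [0, 2, 3, 4, 5, 4, 3, 2, 1, 3, 4, 0, 2, 3, 1], 1),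
  (61, [0, 2, 1, 3, 4, 5, 2, 1, 3, 4, 0, 2, 3, 1], 1),
  (62, [0, 2, 1, 3, 4, 5, 3, 2, 1, 3, 4, 0, 2, 3, 1], 1),
  (63, [0, 2, 1, 3, 4, 5, 4, 3, 2, 1, 3, 4, 0, 2, 3, 1], 1),
  (64, [3, 0, 2, 1, 3, 4, 5, 3, 2, 1, 3, 4, 0, 2, 3, 1], 1),
  (65, [3, 0, 2, 1, 3, 4, 5, 4, 3, 2, 1, 3, 4, 0, 2, 3, 1], 1),
  (66, [4, 3, 0, 2, 1, 3, 4, 5, 4, 3, 2, 1, 3, 4, 0, 2, 3, 1], 1),
  (67, [2, 3, 0, 2, 1, 3, 4, 5, 3, 2, 1, 3, 4, 0, 2, 3, 1], 1),
  (68, [2, 3, 0, 2, 1, 3, 4, 5, 4, 3, 2, 1, 3, 4, 0, 2, 3, 1], 1),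
  (69, [4, 2, 3, 0, 2, 1, 3, 4, 5, 4, 3, 2, 1, 3, 4, 0, 2, 3, 1], 1),
  (70, [3, 4, 2, 3, 0, 2, 1, 3, 4, 5, 4, 3, 2, 1, 3, 4, 0, 2, 3, 1], 1),
  (71, [1, 3, 4, 2, 3, 0, 2, 1, 3, 4, 5, 4, 3, 2, 1, 3, 4, 0, 2, 3, 1], 1)]

theorem steps0_ok : E6.fast.stepChk reps 0 steps0 = true := by decide +kernel

def steps1 : List (ℕ × List ℕ × ℕ) := [(11, [], 2),
  (12, [5], 2),
  (13, [4, 5], 2),
  (14, [3, 4, 5], 2),
  (15, [2, 3, 4, 5], 2),
  (26, [0], 2),
  (27, [5, 0], 2),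
  (28, [4, 5, 0], 2),
  (29, [3, 4, 5, 0], 2),
  (30, [2, 0], 2),
  (31, [5, 2, 0], 2),
  (32, [4, 5, 2, 0], 2),
  (33, [3, 2, 0], 2),
  (34, [5, 3, 2, 0], 2),
  (35, [4, 3, 2, 0], 2),
  (36, [5, 4, 3, 2, 0], 2),
  (37, [4, 5, 3, 2, 0], 2),
  (38, [4, 5, 4, 3, 2, 0], 2),
  (39, [3, 4, 5, 2, 0], 2),
  (40, [3, 4, 5, 3, 2, 0], 2),
  (41, [3, 4, 5, 4, 3, 2, 0], 2),
  (42, [2, 3, 4, 5, 0], 2),
  (43, [2, 3, 4, 5, 2, 0], 2),
  (44, [2, 3, 4, 5, 3, 2, 0], 2),
  (45, [2, 3, 4, 5, 4, 3, 2, 0], 2),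
  (56, [0, 2, 3, 4, 5], 2),
  (57, [0, 2, 3, 4, 5, 0], 2),
  (58, [0, 2, 3, 4, 5, 2, 0], 2),
  (59, [0, 2, 3, 4, 5, 3, 2, 0], 2),
  (60, [0, 2, 3, 4, 5, 4, 3, 2, 0], 2)]

theorem steps1_ok : E6.fast.stepChk reps 1 steps1 = true := by decide +kernel

def steps2 : List (ℕ × List ℕ × ℕ) := [(27, [], 3),
  (28, [4], 3),
  (29, [3, 4], 3),
  (31, [2], 3),
  (32, [4, 2], 3),
  (34, [3, 2], 3),
  (37, [4, 3, 2], 3),
  (39, [3, 4, 2], 3),
  (40, [3, 4, 3, 2], 3),
  (42, [2, 3, 4], 3),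
  (43, [2, 3, 4, 2], 3),
  (44, [2, 3, 4, 3, 2], 3)]

theorem steps2_ok : E6.fast.stepChk reps 2 steps2 = true := by decide +kernel

def steps3 : List (ℕ × List ℕ × ℕ) := [(32, [], 4),
  (39, [3], 4)]

theorem steps3_ok : E6.fast.stepChk reps 3 steps3 = true := by decide +kernel

def steps4 : List (ℕ × List ℕ × ℕ) := []

theorem steps4_ok : E6.fast.stepChk reps 4 steps4 = true := by decide +kernel

def steps (k : ℕ) : List (ℕ × List ℕ × ℕ) :=
  [steps0, steps1, steps2, steps3, steps4].getD k []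

def redList : List Fast.Red :=
  [⟨[], [], [], true, 0⟩,
  ⟨[], [0], [1, 3, 2, 0, 4, 3, 1, 2, 3, 4, 5, 4, 3, 1, 2, 0, 3, 2, 4, 3, 1], true, 0⟩,
  ⟨[], [0, 11], [0, 1, 2, 3, 1, 2, 0, 4, 3, 2, 0, 5, 4, 3, 1, 2, 0, 3, 2, 4, 3, 1, 5, 4, 3, 2, 0], true, 1⟩,
  ⟨[], [0, 11, 27], [0, 2, 0, 3, 1, 2, 3, 4, 3, 1, 2, 0, 3, 2, 4, 3, 5, 4, 3, 1, 2, 0, 3, 2, 4, 3, 1, 5, 4, 3], true, 2⟩,
  ⟨[24, 20, 8, 2], [11, 27, 32], [1, 3, 4, 5, 2, 3, 4, 0, 2, 1], false, 3⟩]

def red (j : ℕ) : Fast.Red := redList.getD j ⟨[], [], [], true, 0⟩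

theorem red1_ok : E6.fast.redOK reps targets 1 (red 1) = true := by decide +kernel

theorem red2_ok : E6.fast.redOK reps targets 2 (red 2) = true := by decide +kernel

theorem red3_ok : E6.fast.redOK reps targets 3 (red 3) = true := by decide +kernel

theorem red4_ok : E6.fast.redOK reps targets 4 (red 4) = true := by decide +kernel

theorem comm_ok : (reps.all E6.fast.commList && targets.all E6.fast.commList) = true := by decide +kernel

def cols0 : List ℕ := [0x0, 0x20000000000000000000, 0x0, 0x0, 0x0, 0x0, 0x20000000000000000029, 0x10000000000000, 0x20000000000000, 0x40000000000000, 0x80000000000000, 0x100000000000000, 0x200000000000000, 0x400000000000000, 0x800000000000000, 0x1000000000000000, 0x2000000000000000, 0x0, 0x0, 0x0, 0x0, 0x0, 0x80000000000000000, 0x100000000000000000, 0x200000000000000000, 0x400000000000000000, 0x800000000000000000, 0x1000000000000000000, 0x2000000000000000000, 0x4000000000000000000,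 0x8000000000000000000, 0x10000000000000000000, 0x0, 0x0, 0x0, 0x0, 0x0, 0x0, 0x0, 0x0, 0x0, 0x0, 0x0, 0x0, 0x0, 0x0, 0x0, 0x0, 0x0, 0x0, 0x0, 0x0, 0x0, 0x0, 0x0, 0x0, 0x0, 0x0, 0x0, 0x0, 0x0, 0x0, 0x0, 0x0, 0x0, 0x0, 0x0, 0x0, 0x0, 0x0, 0x0, 0x0, 0x0, 0x0, 0x0, 0x0, 0x0, 0x0]

def basis0 : List ℕ := [0x20000000000000000000, 0x29, 0x10000000000000, 0x20000000000000, 0x40000000000000, 0x80000000000000, 0x100000000000000, 0x200000000000000, 0x400000000000000, 0x800000000000000, 0x1000000000000000, 0x2000000000000000, 0x80000000000000000, 0x100000000000000000, 0x200000000000000000, 0x400000000000000000, 0x800000000000000000, 0x1000000000000000000, 0x2000000000000000000, 0x4000000000000000000, 0x8000000000000000000, 0x10000000000000000000]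

def pre0 : List (List ℕ) := [[1], [1, 6], [7], [8], [9], [10], [11], [12], [13], [14], [15], [16], [22], [23], [24], [25], [26], [27], [28], [29], [30], [31]]

def sel0 : List (List ℕ) := [[], [0], [], [], [], [], [0, 1], [2], [3], [4], [5], [6], [7], [8], [9], [10], [11], [], [], [], [], [], [12], [13], [14], [15], [16], [17], [18], [19], [20], [21], [], [], [], [], [], [], [], [], [], [], [], [], [], [], [], [], [], [], [], [], [], [], [], [], [], [], [], [], [], [], [], [], [], [], [], [], [], [], [], [], [], [], [], [], [], []]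

theorem cols0_ok : E6.fast.colsChk (targets.getD 0 []) cols0 = true := by decide +kernel

theorem rank0_ok : rankChk (E6.fast.l + E6.fast.n) cols0 basis0 [77, 5, 52, 53, 54, 55, 56, 57, 58, 59, 60, 61, 67, 68, 69, 70, 71, 72, 73, 74, 75, 76] pre0 sel0 22 = true := by decide +kernel

def cols1 : List ℕ := [0x1000000000000000000, 0x0, 0x5000000000000000000, 0x0, 0x5000000000000000000, 0x4000000000000000000, 0x40000000028000000, 0x200000002400000000, 0x800000010800000000, 0x4000000000000000033, 0x40000000000, 0x1000000000000000027, 0x8000001080000000000, 0x100000000000, 0x10000002400000000000, 0x800000000000, 0x8000000000000, 0x20000140000000000000, 0x80000000000000, 0x400000000000000, 0x1000000000000000, 0x2000000000000000, 0x4000000000000000, 0x8000000000000000, 0x0, 0x10000000000000000, 0x0, 0x40000000000000000, 0x20000000000000000, 0x40000000000000000, 0x0, 0x0, 0x80000000000000000, 0x0, 0x200000000000000000,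 0x800000000000000000, 0x100000000000000000, 0x200000000000000000, 0x0, 0x400000000000000000, 0x800000000000000000, 0x2000000000000000000, 0x0, 0x8000000000000000000, 0x0, 0x0, 0x10000000000000000000, 0x0, 0x8000000000000000000, 0x10000000000000000000, 0x0, 0x0, 0x0, 0x0, 0x20000000000000000000, 0x0, 0x20000000000000000000, 0x0, 0x0, 0x0, 0x0, 0x0, 0x0, 0x0, 0x0, 0x0, 0x0, 0x0, 0x0, 0x0, 0x0, 0x0, 0x0, 0x0, 0x0, 0x0, 0x0, 0x0]

def basis1 : List ℕ := [0x1000000000000000000, 0x4000000000000000000, 0x40000000000000000, 0x200000000000000000, 0x800000000000000000, 0x27, 0x40000000000, 0x14, 0x8000000000000000000, 0x100000000000, 0x10000000000000000000, 0x800000000000, 0x8000000000000, 0x20000000000000000000, 0x80000000000000, 0x400000000000000, 0x1000000000000000, 0x2000000000000000, 0x4000000000000000, 0x8000000000000000, 0x10000000000000000, 0x28000000, 0x20000000000000000, 0x80000000000000000, 0x2400000000, 0x10800000000,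 0x100000000000000000, 0x400000000000000000, 0x2000000000000000000, 0x1080000000000, 0x2400000000000, 0x140000000000000]

def pre1 : List (List ℕ) := [[0], [0, 2], [27], [34], [35], [0, 11], [10], [2, 9, 11], [43], [13], [46], [15], [16], [54], [18], [19], [20], [21], [22], [23], [25], [6, 27], [28], [32], [7, 34], [8, 35], [36], [39], [41], [12, 43], [14, 46], [17, 54]]

def sel1 : List (List ℕ) := [[0], [], [0, 1], [], [0, 1], [1], [2, 21], [3, 24], [4, 25], [1, 5, 7], [6], [0, 5], [8, 29], [9], [10, 30], [11], [12], [13, 31], [14], [15], [16], [17], [18], [19], [], [20], [], [2], [22], [2], [], [], [23], [], [3], [4], [26], [3], [], [27], [4], [28], [], [8], [], [], [10], [], [8], [10], [], [], [], [], [13], [], [13], [], [], [], [], [], [], [], [], [], [], [], [], [], [], [], [], [], [], [], [], []]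

theorem cols1_ok : E6.fast.colsChk (targets.getD 1 []) cols1 = true := by decide +kernel

theorem rank1_ok : rankChk (E6.fast.l + E6.fast.n) cols1 basis1 [72, 74, 66, 69, 71, 5, 42, 4, 75, 44, 76, 47, 51, 77, 55, 58, 60, 61, 62, 63, 64, 29, 65, 67, 37, 40, 68, 70, 73, 48, 49, 56] pre1 sel1 32 = true := by decide +kernel

def cols2 : List ℕ := [0x802000000000000000, 0x0, 0x2800000000000000000, 0x800000000000000000, 0x802000000000000000, 0x2800000000000000000, 0x10010004800014010000, 0x20080280001200080000, 0x800008000100000, 0x400000020800000000, 0x2000000000000000013, 0x1000010000200000, 0x800000000000000037, 0x4000001040000000000, 0x200000000000, 0x2000000000000, 0x10000004800000000000, 0x20000000000000, 0x100000000000000, 0x20000280000000000000, 0x800000000000000, 0x1000000000000000, 0x2000000000000026, 0x1004000080000000000, 0x8008000100000000000, 0x400000000000, 0x10010000800000000000, 0x20000000000000000,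 0x10010004000000000000, 0x8000000000000, 0x40000000000000000, 0x0, 0x40000000000000, 0x20080080000000000000, 0x100000000000000000, 0x400000000000000000, 0x20080200000000000000, 0x400000000000000, 0x200000000000000000, 0x800000000000000, 0x1000000000000000, 0x400000000000000000, 0x4000000000000000000, 0x1000000000000000000, 0x8000000000000000000, 0x0, 0x0, 0x10000000000000000000, 0x4000000000000000000, 0x0, 0x10000000000000000000, 0x0, 0x0, 0x0, 0x0, 0x20000000000000000000, 0x0, 0x20000000000000000000, 0x0, 0x0, 0x0, 0x0, 0x1000000000000000000, 0x8000000000000000000, 0x10000000000000000000, 0x0, 0x0, 0x20000000000000000000, 0x0, 0x0, 0x0, 0x0, 0x0, 0x0, 0x0, 0x0, 0x0, 0x0]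

def basis2 : List ℕ := [0x800000000000000000, 0x2000000000000000000, 0x2000000000000000, 0x10000000000000000000, 0x20000000000000000000, 0x800000000000000, 0x400000000000000000, 0x11, 0x1000000000000000, 0x24, 0x4000000000000000000, 0x200000000000, 0x2000000000000, 0x10000000014010000, 0x20000000000000, 0x100000000000000, 0x80000001200080000, 0x8000100000, 0x10000200000, 0x2, 0x1000000000000000000, 0x8000000000000000000, 0x400000000000, 0x4000014010000, 0x20000000000000000, 0x800014010000, 0x8000000000000, 0x40000000000000000, 0x40000000000000, 0x200001200080000, 0x100000000000000000, 0x20800000000, 0x80001200080000, 0x400000000000000, 0x200000000000000000, 0x1040000000000, 0x4000080000000000, 0x8000100000000000]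

def pre2 : List (List ℕ) := [[3], [2, 3], [0, 3], [16, 26, 28], [19, 33, 36], [20], [35], [0, 12, 22], [21], [2, 10, 12], [42], [14], [15], [6, 16], [17], [18], [7, 19], [8, 20], [11, 21], [0, 2, 3, 10, 12, 22], [43], [44], [25], [6, 26], [27], [6, 28], [29], [30], [32], [7, 33], [34], [9, 35], [7, 36], [37], [38], [13, 42], [23, 43], [24, 44]]

def sel2 : List (List ℕ) := [[0, 2], [], [0, 1], [0], [0, 2], [0, 1], [3, 13, 23, 25], [4, 16, 29, 32], [5, 17], [6, 31], [1, 7, 19], [8, 18], [0, 7, 9, 19], [10, 35], [11], [12], [3, 23, 25], [14], [15], [4, 29, 32], [5], [8], [2, 9, 19], [20, 36], [21, 37], [22], [3, 13, 25], [24], [3, 13, 23], [26], [27], [], [28], [4, 16, 32], [30], [6], [4, 16, 29], [33], [34], [5], [8], [6], [10], [20], [21], [], [], [3], [10], [], [3], [], [], [], [], [4], [], [4], [], [], [], [], [20], [21], [3], [], [], [4], [], [], [], [], [], [], [], [], [], []]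

theorem cols2_ok : E6.fast.colsChk (targets.getD 2 []) cols2 = true := by decide +kernel

theorem rank2_ok : rankChk (E6.fast.l + E6.fast.n) cols2 basis2 [71, 73, 61, 76, 77, 59, 70, 4, 60, 5, 74, 45, 49, 64, 53, 56, 67, 39, 40, 1, 72, 75, 46, 50, 65, 47, 51, 66, 54, 57, 68, 41, 55, 58, 69, 48, 62, 63] pre2 sel2 38 = true := by decide +kernel

theorem slData : SLData chevE6 E6.fast := ⟨E6.checked, by decide +kernel, by decide +kernel⟩

theorem steps_ok : ∀ k < reps.length, E6.fast.stepChk reps k (steps k) = true := fun k hk => by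
  match k, (show k < 5 from hk) with
  | 0, _ => exact steps0_ok
  | 1, _ => exact steps1_ok
  | 2, _ => exact steps2_ok
  | 3, _ => exact steps3_ok
  | 4, _ => exact steps4_ok
  | n + 5, h => omega

theorem red_ok : ∀ j < reps.length, 0 < j → E6.fast.redOK reps targets j (red j) = true := fun j hj hj0 => by
  match j, (show j < 5 from hj) with
  | 0, _ => omega
  | 1, _ => exact red1_ok
  | 2, _ => exact red2_ok
  | 3, _ => exact red3_ok
  | 4, _ => exact red4_ok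
  | n + 5, h => omega

theorem rank_ok (F : Type*) [Field F] [CharP F 2] : ∀ i < targets.length,
    (slData.X F (targets.getD i []) ∈ chevE6.group F ∧ orderOf (slData.X F (targets.getD i [])) = 2) ∧
    ((slData.X F (targets.getD i []) : Matrix chevE6.Idx chevE6.Idx F) - 1).rank = [22, 32, 38].getD i 0 := fun i hi => by
  match i, (show i < 3 from hi) with
  | 0, _ => exact ⟨slData.X_orderOf (by decide +kernel) (by decide +kernel) (by norm_num) cols0_ok rank0_ok, slData.rank_eq cols0_ok rank0_ok⟩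
  | 1, _ => exact ⟨slData.X_orderOf (by decide +kernel) (by decide +kernel) (by norm_num) cols1_ok rank1_ok, slData.rank_eq cols1_ok rank1_ok⟩
  | 2, _ => exact ⟨slData.X_orderOf (by decide +kernel) (by decide +kernel) (by norm_num) cols2_ok rank2_ok, slData.rank_eq cols2_ok rank2_ok⟩
  | n + 3, h => omega

end Cfsg.Agent.Lib.Chev.InvolOrthE6
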