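import Cfsg.Agent.Lib.Chev.InvolOrthIdeal
import Cfsg.Agent.Lib.Chev.Data.F4

/-! Generated certificates for the involutions of type F4 in characteristic two. -/

set_option autoImplicit false
set_option maxRecDepth 100000

namespace Cfsg.Agent.Lib.Chev.InvolOrthF4

open Cfsg.Lie

def reps : List (List ℕ) := [[], [0], [3], [0, 6], [0, 10], [3, 18], [0, 6, 17], [0, 6, 19], [0, 10, 14], [3, 18, 19], [0, 6, 17, 22], [0, 6, 19, 20], [3, 18, 19, 20]]

def targets : List (List ℕ) := [[47], [44], [47, 44], [39, 45]]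

def steps0 : List (ℕ × List ℕ × ℕ) := [(0, [], 1),
  (1, [3], 1),
  (2, [2, 3], 1),
  (3, [], 2),
  (4, [1, 2, 3], 1),
  (5, [2, 1, 2, 3], 1),
  (6, [3, 2, 1, 2, 3], 1),
  (7, [0], 2),
  (8, [1, 0], 2),
  (9, [2, 1, 0], 2),
  (10, [3, 2, 1, 0], 2),
  (11, [1, 2, 1, 0], 2),
  (12, [3, 1, 2, 1, 0], 2),
  (13, [2, 3, 1, 2, 1, 0], 2),
  (14, [1, 2, 3, 1, 2, 1, 0], 2),
  (15, [0, 1, 2, 3], 1),
  (16, [2, 0, 1, 2, 3], 1),
  (17, [3, 2, 0, 1, 2, 3], 1),
  (18, [0, 1, 2, 1, 0], 2),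
  (19, [3, 0, 1, 2, 1, 0], 2),
  (20, [2, 3, 0, 1, 2, 1, 0], 2),
  (21, [1, 2, 0, 1, 2, 3], 1),
  (22, [3, 1, 2, 0, 1, 2, 3], 1),
  (23, [2, 1, 2, 0, 1, 2, 3], 1),
  (24, [3, 2, 1, 2, 0, 1, 2, 3], 1),
  (25, [2, 3, 1, 2, 0, 1, 2, 3], 1),
  (26, [2, 3, 2, 1, 2, 0, 1, 2, 3], 1),
  (27, [1, 2, 3, 0, 1, 2, 1, 0], 2),
  (28, [2, 1, 2, 3, 0, 1, 2, 1, 0], 2),
  (29, [3, 2, 1, 2, 3, 0, 1, 2, 1, 0], 2),
  (30, [1, 2, 3, 1, 2, 0, 1, 2, 3], 1),
  (31, [1, 2, 3, 2, 1, 2, 0, 1, 2, 3], 1),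
  (32, [2, 1, 2, 3, 2, 1, 2, 0, 1, 2, 3], 1),
  (33, [0, 1, 2, 3, 1, 2, 1, 0], 2),
  (34, [0, 1, 2, 3, 0, 1, 2, 1, 0], 2),
  (35, [2, 0, 1, 2, 3, 0, 1, 2, 1, 0], 2),
  (36, [3, 2, 0, 1, 2, 3, 0, 1, 2, 1, 0], 2),
  (37, [1, 2, 0, 1, 2, 3, 0, 1, 2, 1, 0], 2),
  (38, [3, 1, 2, 0, 1, 2, 3, 0, 1, 2, 1, 0], 2),
  (39, [2, 3, 1, 2, 0, 1, 2, 3, 0, 1, 2, 1, 0], 2),
  (40, [1, 2, 3, 1, 2, 0, 1, 2, 3, 0, 1, 2, 1, 0], 2),
  (41, [0, 1, 2, 3, 1, 2, 0, 1, 2, 3], 1),
  (42, [0, 1, 2, 3, 2, 1, 2, 0, 1, 2, 3], 1),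
  (43, [2, 0, 1, 2, 3, 2, 1, 2, 0, 1, 2, 3], 1),
  (44, [0, 1, 2, 3, 1, 2, 0, 1, 2, 3, 0, 1, 2, 1, 0], 2),
  (45, [1, 2, 0, 1, 2, 3, 2, 1, 2, 0, 1, 2, 3], 1),
  (46, [2, 1, 2, 0, 1, 2, 3, 2, 1, 2, 0, 1, 2, 3], 1),
  (47, [3, 2, 1, 2, 0, 1, 2, 3, 2, 1, 2, 0, 1, 2, 3], 1)]

theorem steps0_ok : F4.fast.stepChk reps 0 steps0 = true := by decide +kernel

def steps1 : List (ℕ × List ℕ × ℕ) := [(6, [], 3),
  (10, [], 4),
  (12, [1], 4),
  (13, [2, 1], 4),
  (14, [1, 2, 1], 4),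
  (17, [0], 3),
  (19, [0, 1], 4),
  (20, [2, 0, 1], 4),
  (22, [1, 0], 3),
  (25, [2, 1, 0], 3),
  (27, [1, 2, 0, 1], 4),
  (28, [2, 1, 2, 0, 1], 4),
  (30, [1, 2, 1, 0], 3),
  (33, [0, 1, 2, 1], 4),
  (34, [0, 1, 2, 0, 1], 4),
  (35, [2, 0, 1, 2, 0, 1], 4),
  (37, [1, 2, 0, 1, 2, 0, 1], 4),
  (41, [0, 1, 2, 1, 0], 3)]

theorem steps1_ok : F4.fast.stepChk reps 1 steps1 = true := by decide +kernel

def steps2 : List (ℕ × List ℕ × ℕ) := [(15, [0, 1, 2, 3], 4),
  (16, [2, 0, 1, 2, 3], 4),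
  (17, [3, 2, 0, 1, 2, 3], 4),
  (18, [], 5),
  (19, [3], 5),
  (20, [2, 3], 5),
  (21, [1, 2, 0, 1, 2, 3], 4),
  (22, [3, 1, 2, 0, 1, 2, 3], 4),
  (23, [2, 1, 2, 0, 1, 2, 3], 4),
  (24, [3, 2, 1, 2, 0, 1, 2, 3], 4),
  (25, [2, 3, 1, 2, 0, 1, 2, 3], 4),
  (26, [2, 3, 2, 1, 2, 0, 1, 2, 3], 4),
  (27, [1, 2, 3], 5),
  (28, [2, 1, 2, 3], 5),
  (29, [3, 2, 1, 2, 3], 5),
  (30, [1, 2, 3, 1, 2, 0, 1, 2, 3], 4),
  (31, [1, 2, 3, 2, 1, 2, 0, 1, 2, 3], 4),
  (32, [2, 1, 2, 3, 2, 1, 2, 0, 1, 2, 3], 4)]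

theorem steps2_ok : F4.fast.stepChk reps 2 steps2 = true := by decide +kernel

def steps3 : List (ℕ × List ℕ × ℕ) := [(17, [], 6),
  (19, [], 7),
  (20, [2], 7),
  (22, [1], 6),
  (25, [2, 1], 6),
  (27, [1, 2], 7),
  (28, [2, 1, 2], 7),
  (30, [1, 2, 1], 6)]

theorem steps3_ok : F4.fast.stepChk reps 3 steps3 = true := by decide +kernel

def steps4 : List (ℕ × List ℕ × ℕ) := [(14, [], 8),
  (22, [1, 0], 7),
  (25, [2, 1, 0], 7),
  (33, [0], 8)]

theorem steps4_ok : F4.fast.stepChk reps 4 steps4 = true := by decide +kernel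

def steps5 : List (ℕ × List ℕ × ℕ) := [(17, [3, 2, 0, 1, 2, 3], 8),
  (19, [], 9),
  (20, [2], 9),
  (22, [3, 1, 2, 0, 1, 2, 3], 8),
  (25, [2, 3, 1, 2, 0, 1, 2, 3], 8),
  (27, [1, 2], 9),
  (28, [2, 1, 2], 9),
  (30, [1, 2, 3, 1, 2, 0, 1, 2, 3], 8)]

theorem steps5_ok : F4.fast.stepChk reps 5 steps5 = true := by decide +kernel

def steps6 : List (ℕ × List ℕ × ℕ) := [(22, [], 10),
  (25, [2], 10)]

theorem steps6_ok : F4.fast.stepChk reps 6 steps6 = true := by decide +kernel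

def steps7 : List (ℕ × List ℕ × ℕ) := [(20, [], 11),
  (27, [1], 11)]

theorem steps7_ok : F4.fast.stepChk reps 7 steps7 = true := by decide +kernel

def steps8 : List (ℕ × List ℕ × ℕ) := [(22, [1, 0], 11),
  (25, [2, 1, 0], 11)]

theorem steps8_ok : F4.fast.stepChk reps 8 steps8 = true := by decide +kernel

def steps9 : List (ℕ × List ℕ × ℕ) := [(20, [], 12),
  (27, [1], 12)]

theorem steps9_ok : F4.fast.stepChk reps 9 steps9 = true := by decide +kernel

def steps10 : List (ℕ × List ℕ × ℕ) := []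

theorem steps10_ok : F4.fast.stepChk reps 10 steps10 = true := by decide +kernel

def steps11 : List (ℕ × List ℕ × ℕ) := []

theorem steps11_ok : F4.fast.stepChk reps 11 steps11 = true := by decide +kernel

def steps12 : List (ℕ × List ℕ × ℕ) := []

theorem steps12_ok : F4.fast.stepChk reps 12 steps12 = true := by decide +kernel

def steps (k : ℕ) : List (ℕ × List ℕ × ℕ) :=
  [steps0, steps1, steps2, steps3, steps4, steps5, steps6, steps7, steps8, steps9, steps10, steps11, steps12].getD k []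

def redList : List Fast.Red :=
  [⟨[], [], [], true, 0⟩,
  ⟨[], [0], [3, 2, 1, 2, 0, 1, 2, 3, 2, 1, 2, 0, 1, 2, 3], true, 0⟩,
  ⟨[], [3], [0, 1, 2, 3, 1, 2, 0, 1, 2, 3, 0, 1, 2, 1, 0], true, 1⟩,
  ⟨[18], [3, 6], [0, 1, 2, 3, 1, 2, 0, 1, 2, 3, 0, 1, 2, 1, 0], true, 2⟩,
  ⟨[], [0, 10], [1, 2, 0, 1, 2, 3, 2, 1, 2, 0, 1, 2, 3, 1, 2, 0, 1, 2, 0, 1], true, 3⟩,
  ⟨[6], [0, 18], [3, 2, 1, 2, 0, 1, 2, 3, 2, 1, 2, 0, 1, 2, 3], true, 2⟩,
  ⟨[33, 29, 11], [6, 7], [1, 2, 0, 1, 2, 3, 2, 1, 2, 0, 1, 2, 3, 1, 2, 0, 1, 2, 1], true, 3⟩,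
  ⟨[18, 15, 5], [6, 19], [2, 1, 2, 0, 1, 2, 3, 2, 1, 2, 0, 1, 2, 0, 1], true, 3⟩,
  ⟨[37, 17], [0, 6, 30], [1, 2, 1], false, 6⟩,
  ⟨[44, 5], [1, 18, 42], [3, 0, 1, 2, 1, 0], false, 7⟩,
  ⟨[36, 27, 9], [6, 8, 17], [3, 2, 1, 2, 3, 0], false, 7⟩,
  ⟨[28, 22], [0, 6, 17, 25], [2], false, 10⟩,
  ⟨[44, 4], [2, 18, 19, 43], [2, 3, 0, 1, 2, 1, 0], false, 11⟩]

def red (j : ℕ) : Fast.Red := redList.getD j ⟨[], [], [], true, 0⟩

theorem red1_ok : F4.fast.redOK reps targets 1 (red 1) = true := by decide +kernel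

theorem red2_ok : F4.fast.redOK reps targets 2 (red 2) = true := by decide +kernel

theorem red3_ok : F4.fast.redOK reps targets 3 (red 3) = true := by decide +kernel

theorem red4_ok : F4.fast.redOK reps targets 4 (red 4) = true := by decide +kernel

theorem red5_ok : F4.fast.redOK reps targets 5 (red 5) = true := by decide +kernel

theorem red6_ok : F4.fast.redOK reps targets 6 (red 6) = true := by decide +kernel

theorem red7_ok : F4.fast.redOK reps targets 7 (red 7) = true := by decide +kernel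

theorem red8_ok : F4.fast.redOK reps targets 8 (red 8) = true := by decide +kernel

theorem red9_ok : F4.fast.redOK reps targets 9 (red 9) = true := by decide +kernel

theorem red10_ok : F4.fast.redOK reps targets 10 (red 10) = true := by decide +kernel

theorem red11_ok : F4.fast.redOK reps targets 11 (red 11) = true := by decide +kernel

theorem red12_ok : F4.fast.redOK reps targets 12 (red 12) = true := by decide +kernel

theorem comm_ok : (reps.all F4.fast.commList && targets.all F4.fast.commList) = true := by decide +kernel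

def cols0 : List ℕ := [0x0, 0x0, 0x0, 0x8000000000000, 0x8000000000005, 0x10000000, 0x40000000, 0x200000000, 0x800000000, 0x1000000000, 0x0, 0x10000000000, 0x40000000000, 0x80000000000, 0x0, 0x100000000000, 0x0, 0x0, 0x0, 0x400000000000, 0x800000000000, 0x0, 0x1000000000000, 0x0, 0x0, 0x2000000000000, 0x0, 0x4000000000000, 0x0, 0x0, 0x0, 0x0, 0x0, 0x0, 0x0, 0x0, 0x0, 0x0, 0x0, 0x0, 0x0, 0x0, 0x0, 0x0, 0x0, 0x0, 0x0, 0x0, 0x0, 0x0, 0x0, 0x0]

def basis0 : List ℕ := [0x8000000000000, 0x5, 0x10000000, 0x40000000, 0x200000000, 0x800000000, 0x1000000000, 0x10000000000, 0x40000000000, 0x80000000000, 0x100000000000, 0x400000000000, 0x800000000000, 0x1000000000000, 0x2000000000000, 0x4000000000000]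

def pre0 : List (List ℕ) := [[3], [3, 4], [5], [6], [7], [8], [9], [11], [12], [13], [15], [19], [20], [22], [25], [27]]

def sel0 : List (List ℕ) := [[], [], [], [0], [0, 1], [2], [3], [4], [5], [6], [], [7], [8], [9], [], [10], [], [], [], [11], [12], [], [13], [], [], [14], [], [15], [], [], [], [], [], [], [], [], [], [], [], [], [], [], [], [], [], [], [], [], [], [], [], []]

theorem cols0_ok : F4.fast.colsChk (targets.getD 0 []) cols0 = true := by decide +kernel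

theorem rank0_ok : rankChk (F4.fast.l + F4.fast.n) cols0 basis0 [51, 2, 28, 30, 33, 35, 36, 40, 42, 43, 44, 46, 47, 48, 49, 50] pre0 sel0 16 = true := by decide +kernel

def cols1 : List ℕ := [0x1000000000000, 0x0, 0x0, 0x0, 0x200000400000, 0x400000800000, 0x800001000000, 0x1000000000002, 0x2000080000000, 0x4000100000000, 0x8000200000000, 0x2000000000, 0x4000000000, 0x8000000000, 0x10000000000, 0x20000000000, 0x40000000000, 0x80000000000, 0x100000000000, 0x0, 0x0, 0x0, 0x0, 0x0, 0x0, 0x0, 0x0, 0x0, 0x0, 0x0, 0x0, 0x0, 0x0, 0x0, 0x0, 0x0, 0x0, 0x0, 0x0, 0x0, 0x0, 0x0, 0x0, 0x0, 0x0, 0x0, 0x0, 0x0, 0x0, 0x0, 0x0, 0x0]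

def basis1 : List ℕ := [0x1000000000000, 0x200000400000, 0x400000800000, 0x800001000000, 0x2, 0x2000080000000, 0x4000100000000, 0x8000200000000, 0x2000000000, 0x4000000000, 0x8000000000, 0x10000000000, 0x20000000000, 0x40000000000, 0x80000000000, 0x100000000000]

def pre1 : List (List ℕ) := [[0], [4], [5], [6], [0, 7], [8], [9], [10], [11], [12], [13], [14], [15], [16], [17], [18]]

def sel1 : List (List ℕ) := [[0], [], [], [], [1], [2], [3], [0, 4], [5], [6], [7], [8], [9], [10], [11], [12], [13], [14], [15], [], [], [], [], [], [], [], [], [], [], [], [], [], [], [], [], [], [], [], [], [], [], [], [], [], [], [], [], [], [], [], [], []]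

theorem cols1_ok : F4.fast.colsChk (targets.getD 1 []) cols1 = true := by decide +kernel

theorem rank1_ok : rankChk (F4.fast.l + F4.fast.n) cols1 basis1 [48, 45, 46, 47, 1, 49, 50, 51, 37, 38, 39, 40, 41, 42, 43, 44] pre1 sel1 16 = true := by decide +kernel

def cols2 : List ℕ := [0x1000000000000, 0x0, 0x0, 0x8000000000000, 0x9200000400005, 0x400010800000, 0x800041000000, 0x1000200000002, 0x2000880000000, 0x4001100000000, 0x8000200000000, 0x12000000000, 0x44000000000, 0x88000000000, 0x10000000000, 0x120000000000, 0x40000000000, 0x80000000000, 0x100000000000, 0x400000000000, 0x800000000000, 0x0, 0x1000000000000, 0x0, 0x0, 0x2000000000000, 0x0, 0x4000000000000, 0x0, 0x0, 0x0, 0x0, 0x0, 0x0, 0x0, 0x0, 0x0, 0x0, 0x0, 0x0, 0x0, 0x0, 0x0, 0x0, 0x0, 0x0, 0x0, 0x0, 0x0, 0x0, 0x0, 0x0]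

def basis2 : List ℕ := [0x1000000000000, 0x8000000000000, 0x200000400005, 0x400000000000, 0x800000000000, 0x200000000, 0x2000000000000, 0x4000000000000, 0x2, 0x10000000000, 0x40000000000, 0x80000000000, 0x2000000000, 0x100000000000, 0x4000000000, 0x8000000000, 0x20000000000, 0x10800000, 0x41000000, 0x880000000, 0x1100000000]

def pre2 : List (List ℕ) := [[0], [3], [0, 3, 4], [19], [20], [3, 10], [25], [27], [0, 3, 7, 10], [14], [16], [17], [11, 14], [18], [12, 16], [13, 17], [15, 18], [5, 19], [6, 20], [8, 25], [9, 27]]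

def sel2 : List (List ℕ) := [[0], [], [], [1], [0, 1, 2], [3, 17], [4, 18], [0, 5, 8], [6, 19], [7, 20], [1, 5], [9, 12], [10, 14], [11, 15], [9], [13, 16], [10], [11], [13], [3], [4], [], [0], [], [], [6], [], [7], [], [], [], [], [], [], [], [], [], [], [], [], [], [], [], [], [], [], [], [], [], [], [], []]

theorem cols2_ok : F4.fast.colsChk (targets.getD 2 []) cols2 = true := by decide +kernel

theorem rank2_ok : rankChk (F4.fast.l + F4.fast.n) cols2 basis2 [48, 51, 45, 46, 47, 33, 49, 50, 1, 40, 42, 43, 37, 44, 38, 39, 41, 28, 30, 35, 36] pre2 sel2 21 = true := by decide +kernel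

def cols3 : List ℕ := [0x0, 0x80000000000, 0x2080000000000, 0x0, 0x4020022002000, 0x8040044004000, 0x2000000000009, 0x100080020000, 0x1000040000, 0x400000000, 0x800000000, 0x1004001000000, 0x80000000001, 0x20000000000, 0x40000000000, 0x100000000, 0x200000000, 0x100000000000, 0x0, 0x802000000000, 0x200000000000, 0x400000000000, 0x8000000000, 0x10000000000, 0x1000000000000, 0x4020000000000, 0x8040000000000, 0x0, 0x0, 0x4000000000000, 0x8000000000000, 0x100000000000, 0x0, 0x0, 0x0, 0x0, 0x0, 0x0, 0x1000000000000, 0x0, 0x0, 0x0, 0x0, 0x0, 0x0, 0x0, 0x0, 0x0, 0x0, 0x0, 0x0, 0x0]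

def basis3 : List ℕ := [0x80000000000, 0x2000000000000, 0x4000000000000, 0x8000000000000, 0x8, 0x100000000000, 0x1000040000, 0x400000000, 0x800000000, 0x1000000000000, 0x1, 0x20000000000, 0x40000000000, 0x100000000, 0x200000000, 0x80020000, 0x802000000000, 0x200000000000, 0x400000000000, 0x8000000000, 0x10000000000, 0x4001000000, 0x22002000, 0x44004000]

def pre3 : List (List ℕ) := [[1], [1, 2], [13, 25], [14, 26], [2, 6, 12], [17], [8], [9], [10], [24], [1, 12], [13], [14], [15], [16], [7, 17], [19], [20], [21], [22], [23], [11, 24], [4, 25], [5, 26]]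

def sel3 : List (List ℕ) := [[], [0], [0, 1], [], [2, 11, 22], [3, 12, 23], [1, 4, 10], [5, 15], [6], [7], [8], [9, 21], [0, 10], [11], [12], [13], [14], [5], [], [16], [17], [18], [19], [20], [9], [2, 11], [3, 12], [], [], [2], [3], [5], [], [], [], [], [], [], [9], [], [], [], [], [], [], [], [], [], [], [], [], []]

theorem cols3_ok : F4.fast.colsChk (targets.getD 3 []) cols3 = true := by decide +kernel

theorem rank3_ok : rankChk (F4.fast.l + F4.fast.n) cols3 basis3 [43, 49, 50, 51, 3, 44, 36, 34, 35, 48, 0, 41, 42, 32, 33, 31, 47, 45, 46, 39, 40, 38, 29, 30] pre3 sel3 24 = true := by decide +kernel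

theorem slData : SLData chevF4 F4.fast := ⟨F4.checked, by decide +kernel, by decide +kernel⟩

theorem steps_ok : ∀ k < reps.length, F4.fast.stepChk reps k (steps k) = true := fun k hk => by
  match k, (show k < 13 from hk) with
  | 0, _ => exact steps0_ok
  | 1, _ => exact steps1_ok
  | 2, _ => exact steps2_ok
  | 3, _ => exact steps3_ok
  | 4, _ => exact steps4_ok
  | 5, _ => exact steps5_ok
  | 6, _ => exact steps6_ok
  | 7, _ => exact steps7_ok
  | 8, _ => exact steps8_ok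
  | 9, _ => exact steps9_ok
  | 10, _ => exact steps10_ok
  | 11, _ => exact steps11_ok
  | 12, _ => exact steps12_ok
  | n + 13, h => omega

theorem red_ok : ∀ j < reps.length, 0 < j → F4.fast.redOK reps targets j (red j) = true := fun j hj hj0 => by
  match j, (show j < 13 from hj) with
  | 0, _ => omega
  | 1, _ => exact red1_ok
  | 2, _ => exact red2_ok
  | 3, _ => exact red3_ok
  | 4, _ => exact red4_ok
  | 5, _ => exact red5_ok
  | 6, _ => exact red6_ok
  | 7, _ => exact red7_ok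
  | 8, _ => exact red8_ok
  | 9, _ => exact red9_ok
  | 10, _ => exact red10_ok
  | 11, _ => exact red11_ok
  | 12, _ => exact red12_ok
  | n + 13, h => omega

theorem rank_ok (F : Type*) [Field F] [CharP F 2] : ∀ i < targets.length,
    (slData.X F (targets.getD i []) ∈ chevF4.group F ∧ orderOf (slData.X F (targets.getD i [])) = 2) ∧
    ((slData.X F (targets.getD i []) : Matrix chevF4.Idx chevF4.Idx F) - 1).rank = [16, 16, 21, 24].getD i 0 := fun i hi => by
  match i, (show i < 4 from hi) with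
  | 0, _ => exact ⟨slData.X_orderOf (by decide +kernel) (by decide +kernel) (by norm_num) cols0_ok rank0_ok, slData.rank_eq cols0_ok rank0_ok⟩
  | 1, _ => exact ⟨slData.X_orderOf (by decide +kernel) (by decide +kernel) (by norm_num) cols1_ok rank1_ok, slData.rank_eq cols1_ok rank1_ok⟩
  | 2, _ => exact ⟨slData.X_orderOf (by decide +kernel) (by decide +kernel) (by norm_num) cols2_ok rank2_ok, slData.rank_eq cols2_ok rank2_ok⟩
  | 3, _ => exact ⟨slData.X_orderOf (by decide +kernel) (by decide +kernel) (by norm_num) cols3_ok rank3_ok, slData.rank_eq cols3_ok rank3_ok⟩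
  | n + 4, h => omega

def idealMask : ℕ := 0x11fe381c7f883

theorem ideal_ok : F4.fast.idealChk idealMask = true := by decide +kernel

def mcols0 : List ℕ := [0x0, 0x0, 0x0, 0x0, 0x0, 0x0, 0x0, 0x200000000, 0x0, 0x0, 0x0, 0x10000000000, 0x40000000000, 0x80000000000, 0x0, 0x100000000000, 0x0, 0x0, 0x0, 0x0, 0x0, 0x0, 0x1000000000000, 0x0, 0x0, 0x0, 0x0, 0x0, 0x0, 0x0, 0x0, 0x0, 0x0, 0x0, 0x0, 0x0, 0x0, 0x0, 0x0, 0x0, 0x0, 0x0, 0x0, 0x0, 0x0, 0x0, 0x0, 0x0, 0x0, 0x0, 0x0, 0x0]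

def mbasis0 : List ℕ := [0x200000000, 0x10000000000, 0x40000000000, 0x80000000000, 0x100000000000, 0x1000000000000]

def mpre0 : List (List ℕ) := [[7], [11], [12], [13], [15], [22]]

def msel0 : List (List ℕ) := [[], [], [], [], [], [], [], [0], [], [], [], [1], [2], [3], [], [4], [], [], [], [], [], [], [5], [], [], [], [], [], [], [], [], [], [], [], [], [], [], [], [], [], [], [], [], [], [], [], [], [], [], [], [], []]

theorem mcols0_ok : maskedChk (F4.fast.l + F4.fast.n) idealMask cols0 mcols0 = true := by decide +kernel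

theorem mrank0_ok : rankChk (F4.fast.l + F4.fast.n) mcols0 mbasis0 [33, 40, 42, 43, 44, 48] mpre0 msel0 6 = true := by decide +kernel

def mcols1 : List ℕ := [0x1000000000000, 0x0, 0x0, 0x0, 0x0, 0x0, 0x0, 0x1000000000002, 0x0, 0x0, 0x0, 0x2000000000, 0x4000000000, 0x8000000000, 0x10000000000, 0x20000000000, 0x40000000000, 0x80000000000, 0x100000000000, 0x0, 0x0, 0x0, 0x0, 0x0, 0x0, 0x0, 0x0, 0x0, 0x0, 0x0, 0x0, 0x0, 0x0, 0x0, 0x0, 0x0, 0x0, 0x0, 0x0, 0x0, 0x0, 0x0, 0x0, 0x0, 0x0, 0x0, 0x0, 0x0, 0x0, 0x0, 0x0, 0x0]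

def mbasis1 : List ℕ := [0x1000000000000, 0x2, 0x2000000000, 0x4000000000, 0x8000000000, 0x10000000000, 0x20000000000, 0x40000000000, 0x80000000000, 0x100000000000]

def mpre1 : List (List ℕ) := [[0], [0, 7], [11], [12], [13], [14], [15], [16], [17], [18]]

def msel1 : List (List ℕ) := [[0], [], [], [], [], [], [], [0, 1], [], [], [], [2], [3], [4], [5], [6], [7], [8], [9], [], [], [], [], [], [], [], [], [], [], [], [], [], [], [], [], [], [], [], [], [], [], [], [], [], [], [], [], [], [], [], [], []]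

theorem mcols1_ok : maskedChk (F4.fast.l + F4.fast.n) idealMask cols1 mcols1 = true := by decide +kernel

theorem mrank1_ok : rankChk (F4.fast.l + F4.fast.n) mcols1 mbasis1 [48, 1, 37, 38, 39, 40, 41, 42, 43, 44] mpre1 msel1 10 = true := by decide +kernel

def mcols2 : List ℕ := [0x1000000000000, 0x0, 0x0, 0x0, 0x0, 0x0, 0x0, 0x1000200000002, 0x0, 0x0, 0x0, 0x12000000000, 0x44000000000, 0x88000000000, 0x10000000000, 0x120000000000, 0x40000000000, 0x80000000000, 0x100000000000, 0x0, 0x0, 0x0, 0x1000000000000, 0x0, 0x0, 0x0, 0x0, 0x0, 0x0, 0x0, 0x0, 0x0, 0x0, 0x0, 0x0, 0x0, 0x0, 0x0, 0x0, 0x0, 0x0, 0x0, 0x0, 0x0, 0x0, 0x0, 0x0, 0x0, 0x0, 0x0, 0x0, 0x0]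

def mbasis2 : List ℕ := [0x1000000000000, 0x200000002, 0x10000000000, 0x40000000000, 0x80000000000, 0x2000000000, 0x100000000000, 0x4000000000, 0x8000000000, 0x20000000000]

def mpre2 : List (List ℕ) := [[0], [0, 7], [14], [16], [17], [11, 14], [18], [12, 16], [13, 17], [15, 18]]

def msel2 : List (List ℕ) := [[0], [], [], [], [], [], [], [0, 1], [], [], [], [2, 5], [3, 7], [4, 8], [2], [6, 9], [3], [4], [6], [], [], [], [0], [], [], [], [], [], [], [], [], [], [], [], [], [], [], [], [], [], [], [], [], [], [], [], [], [], [], [], [], []]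

theorem mcols2_ok : maskedChk (F4.fast.l + F4.fast.n) idealMask cols2 mcols2 = true := by decide +kernel

theorem mrank2_ok : rankChk (F4.fast.l + F4.fast.n) mcols2 mbasis2 [48, 33, 40, 42, 43, 37, 44, 38, 39, 41] mpre2 msel2 10 = true := by decide +kernel

def mcols3 : List ℕ := [0x0, 0x80000000000, 0x0, 0x0, 0x0, 0x0, 0x0, 0x100080020000, 0x0, 0x0, 0x0, 0x1004001000000, 0x80000000001, 0x20000000000, 0x40000000000, 0x100000000, 0x200000000, 0x100000000000, 0x0, 0x0, 0x0, 0x0, 0x8000000000, 0x10000000000, 0x1000000000000, 0x0, 0x0, 0x0, 0x0, 0x0, 0x0, 0x100000000000, 0x0, 0x0, 0x0, 0x0, 0x0, 0x0, 0x1000000000000, 0x0, 0x0, 0x0, 0x0, 0x0, 0x0, 0x0, 0x0, 0x0, 0x0, 0x0, 0x0, 0x0]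

def mbasis3 : List ℕ := [0x80000000000, 0x100000000000, 0x1000000000000, 0x1, 0x20000000000, 0x40000000000, 0x100000000, 0x200000000, 0x80020000, 0x8000000000, 0x10000000000, 0x4001000000]

def mpre3 : List (List ℕ) := [[1], [17], [24], [1, 12], [13], [14], [15], [16], [7, 17], [22], [23], [11, 24]]

def msel3 : List (List ℕ) := [[], [0], [], [], [], [], [], [1, 8], [], [], [], [2, 11], [0, 3], [4], [5], [6], [7], [1], [], [], [], [], [9], [10], [2], [], [], [], [], [], [], [1], [], [], [], [], [], [], [2], [], [], [], [], [], [], [], [], [], [], [], [], []]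

theorem mcols3_ok : maskedChk (F4.fast.l + F4.fast.n) idealMask cols3 mcols3 = true := by decide +kernel

theorem mrank3_ok : rankChk (F4.fast.l + F4.fast.n) mcols3 mbasis3 [43, 44, 48, 0, 41, 42, 32, 33, 31, 39, 40, 38] mpre3 msel3 12 = true := by decide +kernel

theorem irank_ok (F : Type*) [Field F] [CharP F 2] : ∀ i < targets.length,
    (((slData.X F (targets.getD i []) : Matrix chevF4.Idx chevF4.Idx F) - 1) * slData.proj F idealMask).rank = [6, 10, 10, 12].getD i 0 := fun i hi => by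
  match i, (show i < 4 from hi) with
  | 0, _ => exact slData.ideal_rank_eq cols0_ok mcols0_ok mrank0_ok
  | 1, _ => exact slData.ideal_rank_eq cols1_ok mcols1_ok mrank1_ok
  | 2, _ => exact slData.ideal_rank_eq cols2_ok mcols2_ok mrank2_ok
  | 3, _ => exact slData.ideal_rank_eq cols3_ok mcols3_ok mrank3_ok
  | n + 4, h => omega

end Cfsg.Agent.Lib.Chev.InvolOrthF4
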