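import Cfsg.Agent.Lib.Chev.InvolOrth

/-!
The reduction of an involution to an orthogonal product of root elements.
-/

set_option autoImplicit false

namespace Cfsg.Agent.Lib.Chev

open Cfsg.Lie Cfsg.Agent.Lib

variable {D : ChevalleyDatum} {T : Fast} {F : Type*} [Field F] [CharP F 2]

namespace SLData

variable (H : SLData D T)
include H

theorem diag_invol_eq_one {m : GL D.Idx F} (hm : m ∈ D.diagonalSubgroup F) (h2 : m * m = 1) :
    m = 1 := by
  obtain ⟨χ, h, e⟩ := H.chk.exists_chr hm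
  have h1 : dg D (fun v => χ v * χ v) = dg D (fun _ => (1 : F)) := by
    rw [dg_one, ← dg_mul, ← e, ← Units.val_mul, h2, Units.val_one]
  refine Units.ext ?_
  rw [e, Units.val_one, ← dg_one (D := D)]
  refine dg_congr fun v hv => ?_
  rcases mul_self_eq_one_iff.1 (dg_inj h1 v hv) with hh | hh <;> simp [hh, CharTwo.neg_eq]

theorem fix_commute {m : GL D.Idx F} (hm : m ∈ D.monomialSubgroup F) (h2 : m * m = 1) {r : ℕ}
    (hr : r < D.nroots) (hfix : H.chk.sg m r = r) (t : F) : Commute m (H.chk.xg r t) := by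
  obtain ⟨c, hc, h⟩ := H.chk.sg_conj hm hr
  rw [hfix] at h
  have h11 : H.chk.xg r (c * (c * 1)) = H.chk.xg r (1 : F) := by
    rw [← h (c * 1), ← h 1]
    calc m * (m * H.chk.xg r 1 * m⁻¹) * m⁻¹ = m * m * H.chk.xg r 1 * (m * m)⁻¹ := by group
      _ = _ := by rw [h2]; group
  have hz : H.chk.xg r (c * (c * 1) - 1) = 1 := by
    rw [sub_eq_add_neg, ← H.chk.xg_add hr, ← H.chk.xg_inv, h11, mul_inv_cancel]
  have hc1 : c * c = 1 := by simpa [sub_eq_zero] using H.chk.xg_eq_one hr hz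
  have hc' : c = 1 := by
    rcases mul_self_eq_one_iff.1 hc1 with hh | hh <;> simp [hh, CharTwo.neg_eq]
  have := h t
  rw [hc', one_mul, mul_inv_eq_iff_eq_mul] at this
  exact this

theorem conj_word {k : GL D.Idx F} (f : ℕ × F → ℕ × F) : ∀ w : List (ℕ × F),
    (∀ p ∈ w, k * H.chk.xg p.1 p.2 * k⁻¹ = H.chk.xg (f p).1 (f p).2) →
      k * H.chk.wg w * k⁻¹ = H.chk.wg (w.map f)
  | [], _ => by simp [H.chk.wg_nil]
  | p :: w, h => by
    rw [H.chk.wg_cons, List.map_cons, H.chk.wg_cons, ← h p (by simp),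
      ← conj_word f w fun q hq => h q (by simp [hq])]
    group

theorem commute_wg {x : GL D.Idx F} (w : List (ℕ × F))
    (h : ∀ p ∈ w, Commute x (H.chk.xg p.1 p.2)) : Commute x (H.chk.wg w) :=
  Commute.list_prod_right _ _ fun y hy => by
    obtain ⟨p, hp, rfl⟩ := List.mem_map.1 hy
    exact h p hp

theorem hg_mem_msub {J : Set ℕ} {r : ℕ} (hr : D.InRootSub J r) (t : F) :
    H.chk.hg r t ∈ H.msub F J := by
  have hn := (H.chk.inRootSub_neg H.supp J hr.1).2 hr
  refine H.chk.wg_mem _ fun p hp => ?_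
  rw [ChevalleyDatum.hWord] at hp
  simp only [ChevalleyDatum.nWord, List.mem_append, List.mem_cons, List.not_mem_nil, or_false] at hp
  rcases hp with (rfl | rfl | rfl) | (rfl | rfl | rfl)
  exacts [hr, hn, hr, hr, hn, hr]

variable [Finite F]

theorem scale {J : Set ℕ} {l : List ℕ} (hl : H.OrthIn J l) (c : ℕ → F) (hc : ∀ r ∈ l, c r ≠ 0) :
    H.Split J (H.chk.wg (l.map fun r => (r, c r))) := by
  classical
  have hen : ∀ i < D.rank, T.en i (D.simple i) = true := H.chk.root.en_simple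
  have key : ∀ l' : List ℕ, l'.Nodup → (∀ r ∈ l', r ∈ l) → ∃ d ∈ H.msub F J, ∀ r ∈ l, ∀ t : F,
      d * H.chk.xg r t * d⁻¹ = H.chk.xg r ((if r ∈ l' then (c r)⁻¹ else 1) * t) := by
    intro l'
    induction l' with
    | nil => exact fun _ _ => ⟨1, one_mem _, fun r _ t => by simp⟩
    | cons a l' ih =>
      intro hnd hsub
      obtain ⟨hal, hnd'⟩ := List.nodup_cons.1 hnd
      obtain ⟨d, hd, hdd⟩ := ih hnd' fun r hr => hsub r (by simp [hr])
      have ha := hsub a (by simp)
      obtain ⟨s, hs⟩ := isSquare_of_charTwo' ((c a)⁻¹)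
      have hs0 : s ≠ 0 := by
        rintro rfl
        rw [mul_zero] at hs
        exact inv_ne_zero (hc a ha) hs
      refine ⟨H.chk.hg a s * d, mul_mem (H.hg_mem_msub (hl.2.1 a ha) s) hd, fun r hr t => ?_⟩
      have har := (hl.2.1 a ha).1
      have hrr := (hl.2.1 r hr).1
      rw [show H.chk.hg a s * d * H.chk.xg r t * (H.chk.hg a s * d)⁻¹ =
        H.chk.hg a s * (d * H.chk.xg r t * d⁻¹) * (H.chk.hg a s)⁻¹ by group, hdd r hr,
        H.chk.hg_xg har hrr hs0, ← mul_assoc]
      congr 2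
      by_cases hra : r = a
      · subst hra
        rw [if_neg hal, if_pos (by simp), (H.sl_facts hrr).1, zpow_two, mul_one, ← hs]
      · rw [hl.2.2 a ha r hr (Ne.symm hra), zpow_zero, one_mul]
        by_cases h : r ∈ l'
        · rw [if_pos h, if_pos (by simp [h])]
        · rw [if_neg h, if_neg (by simp [h, hra])]
  obtain ⟨d, hd, hdd⟩ := key l hl.1 fun r hr => hr
  refine ⟨d, hd, l, hl, ?_⟩
  rw [H.conj_word (fun p => (p.1, (1 : F))), List.map_map]
  · rfl
  · intro p hp
    obtain ⟨r, hr, rfl⟩ := List.mem_map.1 hp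
    rw [hdd r hr, if_pos hr, inv_mul_cancel₀ (hc r hr)]

omit [CharP F 2] [Finite F] in
theorem orth_refl {J : Set ℕ} {l : List ℕ} (hl : H.OrthIn J l) {j : ℕ} (hj : j < D.rank) (hjJ : j ∈ J) :
    H.OrthIn J (l.map (D.reflectRoot j)) := by
  refine ⟨List.Nodup.map_on (fun x hx y hy e => H.chk.root.refl_inj hj (hl.2.1 x hx).1 (hl.2.1 y hy).1 e)
    hl.1, ?_, ?_⟩
  · intro r hr
    obtain ⟨x, hx, rfl⟩ := List.mem_map.1 hr
    exact (H.chk.inRootSub_refl H.supp J hj hjJ (hl.2.1 x hx).1).2 (hl.2.1 x hx)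
  · intro r hr s hs hne
    obtain ⟨x, hx, rfl⟩ := List.mem_map.1 hr
    obtain ⟨y, hy, rfl⟩ := List.mem_map.1 hs
    rw [H.chk.root.pair_refl hj (hl.2.1 x hx).1 (hl.2.1 y hy).1]
    exact hl.2.2 x hx y hy fun e => hne (by rw [e])

omit [CharP F 2] [Finite F] in
theorem length_le {J : Set ℕ} {l : List ℕ} (hl : H.OrthIn J l) : l.length ≤ D.nroots := by
  have h := List.subperm_of_subset hl.1 (l₂ := List.range D.nroots)
    (fun r hr => List.mem_range.2 (hl.2.1 r hr).1)
  simpa using h.length_le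

/-- An orthogonal product times a commuting monomial involution. -/
theorem split_mono {J : Set ℕ} : ∀ (d k : ℕ) (l : List ℕ) (c : ℕ → F) (m : GL D.Idx F),
    D.nroots - l.length = d → (H.chk.inv m).ncard = k → H.OrthIn J l → (∀ r ∈ l, c r ≠ 0) →
    m ∈ D.monomialSubgroup F → m ∈ H.msub F J → m * m = 1 → (∀ r ∈ l, H.chk.sg m r = r) →
    H.Split J (H.chk.wg (l.map fun r => (r, c r)) * m) := by
  intro d
  induction d using Nat.strong_induction_on with
  | _ d ihd =>
  intro k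
  induction k using Nat.strong_induction_on with
  | _ k ihk =>
  intro l c m hd hk hl hc hm hmM h2 hfix
  classical
  have R := H.chk.root
  by_cases hall : ∀ i < D.rank, D.IsPosRoot (H.chk.sg m (D.simple i))
  · rw [H.diag_invol_eq_one (H.chk.mem_diag_of_simple_pos hm hall) h2, mul_one]
    exact H.scale hl c hc
  by_cases hA : ∃ j < D.rank, D.IsNegRoot (H.chk.sg m (D.simple j)) ∧
      H.chk.sg m (D.simple j) ≠ D.neg (D.simple j)
  · obtain ⟨j, hj, hneg, hne⟩ := hA
    have hjJ := H.simple_of_neg hm hmM hj hneg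
    have hp := R.simple_lt j hj
    have hn := H.chk.ng_mem (F := F) hj
    have hnM : (H.chk.ng j : GL D.Idx F) ∈ H.msub F J := H.ng_mem_msub hj hjJ
    refine SLData.Split.of_conj H hnM ?_
    have e : H.chk.ng j * (H.chk.wg (l.map fun r => (r, c r)) * m) * (H.chk.ng j)⁻¹ =
        H.chk.wg ((l.map (D.reflectRoot j)).map fun r => (r, c (D.reflectRoot j r))) *
          (H.chk.ng j * m * (H.chk.ng j)⁻¹) := by
      rw [show H.chk.ng j * (H.chk.wg (l.map fun r => (r, c r)) * m) * (H.chk.ng j)⁻¹ =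
        (H.chk.ng j * H.chk.wg (l.map fun r => (r, c r)) * (H.chk.ng j)⁻¹) *
          (H.chk.ng j * m * (H.chk.ng j)⁻¹) by group,
        H.conj_word (fun p => (D.reflectRoot j p.1, p.2))]
      · rw [List.map_map, List.map_map]
        congr 2
        refine List.map_congr_left fun r hr => ?_
        simp only [Function.comp_apply, R.refl_refl j hj r (hl.2.1 r hr).1]
      · intro p hp
        obtain ⟨r, hr, rfl⟩ := List.mem_map.1 hp
        exact H.ng_conj hj (hl.2.1 r hr).1 _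
    rw [e]
    have hm' : H.chk.ng j * m * (H.chk.ng j)⁻¹ ∈ D.monomialSubgroup F :=
      mul_mem (mul_mem hn hm) (inv_mem hn)
    have hlen : (H.chk.inv (H.chk.ng j * m * (H.chk.ng j)⁻¹)).ncard + 2 = k := by
      rw [H.ng_inv_two]
      have hminv : m⁻¹ = m := inv_eq_of_mul_eq_one_right h2
      have h1 := H.chk.ncard_inv_mul_ng hj hm hneg
      have hmn : H.chk.ng j * m ∈ D.monomialSubgroup F := mul_mem hn hm
      have hs : D.IsNegRoot (H.chk.sg (H.chk.ng j * m) (D.simple j)) := by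
        rw [H.chk.sg_mul hn hm hp, H.chk.sg_ng hj (H.chk.sg_lt hm hp)]
        have hlt := H.chk.sg_lt hm hp
        have h3 := (H.chk.refl_pos hj ((H.chk.neg_pos_iff hlt).2 hneg) fun h' => hne (by
          rw [← R.neg_neg' hlt, h'])).1
        rw [R.refl_neg' hj hlt] at h3
        exact (H.chk.neg_pos_iff (R.refl_lt j hj _ hlt)).1 h3
      have h2' := H.chk.ncard_inv_mul_ng hj hmn hs
      have h4 : (H.chk.inv (H.chk.ng j * m)).ncard = (H.chk.inv (m * H.chk.ng j)).ncard := by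
        rw [← H.chk.ncard_inv_inv (mul_mem hm hn), mul_inv_rev, hminv, H.ng_inv_two]
      omega
    refine ihk _ (by omega) (l.map (D.reflectRoot j)) _ _ (by rw [List.length_map]; exact hd) rfl
      (H.orth_refl hl hj hjJ) ?_ hm' (mul_mem (mul_mem hnM hmM) (inv_mem hnM))
      (by rw [conj_mul, h2]; group) ?_
    · intro r hr
      obtain ⟨x, hx, rfl⟩ := List.mem_map.1 hr
      rw [R.refl_refl j hj x (hl.2.1 x hx).1]
      exact hc x hx
    · intro r hr
      obtain ⟨x, hx, rfl⟩ := List.mem_map.1 hr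
      have hxlt := (hl.2.1 x hx).1
      have hw := R.refl_lt j hj x hxlt
      rw [H.chk.sg_mul (mul_mem hn hm) (inv_mem hn) hw, H.ng_inv_two, H.chk.sg_ng hj hw,
        R.refl_refl j hj x hxlt, H.chk.sg_mul hn hm hxlt, hfix x hx, H.chk.sg_ng hj hxlt]
  push Not at hA hall
  obtain ⟨j, hj, hnp⟩ := hall
  set a := D.simple j with hadef
  have hp : a < D.nroots := R.simple_lt j hj
  have hq : D.neg a < D.nroots := R.neg_lt a hp
  have hneg : D.IsNegRoot (H.chk.sg m a) :=
    (H.chk.key_trichotomy (H.chk.sg_lt hm hp)).resolve_left hnp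
  have hflip : H.chk.sg m a = D.neg a := hA j hj hneg
  have hjJ := H.simple_of_neg hm hmM hj hneg
  have haJ : D.InRootSub J a := (H.chk.inRootSub_simple H.supp J hj).2 hjJ
  have hnaJ : D.InRootSub J (D.neg a) := (H.chk.inRootSub_neg H.supp J hp).2 haJ
  have horth : ∀ r ∈ l, pair D r a = 0 := by
    intro r hr
    have h := H.chk.pair_sg hm (hl.2.1 r hr).1 hp
    rw [hfix r hr, hflip, H.chk.pair_neg hp] at h
    omega
  have horth' : ∀ r ∈ l, pair D a r = 0 := fun r hr =>
    ((H.sl_facts (hl.2.1 r hr).1).2 a hp (horth r hr)).1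
  have hnegl : D.neg a ∉ l := by
    intro h
    have h1 := horth _ h
    have h2' := (H.sl_facts hq).1
    rw [H.chk.pair_neg hp, h1] at h2'
    exact absurd h2' (by norm_num)
  obtain ⟨c0, hc0, hconj⟩ := H.chk.sg_conj hm hp
  rw [hflip] at hconj
  obtain ⟨t, ht⟩ := isSquare_of_charTwo' (c0⁻¹)
  have ht0 : t ≠ 0 := by
    rintro rfl
    rw [mul_zero] at ht
    exact inv_ne_zero hc0 ht
  have hct : c0 * t = t⁻¹ := by
    have : c0 = (t * t)⁻¹ := by rw [← ht, inv_inv]
    rw [this]; field_simp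
  have hen : ∀ i < D.rank, T.en i (D.simple i) = true := R.en_simple
  set A := H.chk.xg a t with hAdef
  set B := H.chk.xg (D.neg a) t⁻¹ with hBdef
  set n := A * B * A with hndef
  have hAA : A⁻¹ = A := H.xg_inv_two a t
  have hBB : B⁻¹ = B := H.xg_inv_two _ _
  have hmA : m * A * m⁻¹ = B := by rw [hAdef, hconj, hct]
  have hminv : m⁻¹ = m := inv_eq_of_mul_eq_one_right h2
  have hmB : m * B * m⁻¹ = A := by
    rw [← hmA]
    calc m * (m * A * m⁻¹) * m⁻¹ = m * m * A * (m * m)⁻¹ := by group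
      _ = A := by rw [h2]; group
  have hbraid : n = B * A * B := H.braid_two hen hp ht0
  have hnword : n = H.chk.hg a t * H.chk.ng j := by
    rw [← H.chk.nWord_eq_hg_mul]
    simp only [ChevalleyDatum.nWord, H.chk.wg_cons, H.chk.wg_nil, mul_one, CharTwo.neg_eq, hndef, hAdef,
      hBdef, ← mul_assoc, ← hadef]
  have hnm : n ∈ D.monomialSubgroup F := by
    rw [hnword]
    exact mul_mem (H.chk.diag_le_monomial (H.chk.hg_mem hp ht0)) (H.chk.ng_mem hj)
  have hnM : n ∈ H.msub F J :=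
    mul_mem (mul_mem (H.chk.xg_mem haJ t) (H.chk.xg_mem hnaJ t⁻¹)) (H.chk.xg_mem haJ t)
  have hsgn : ∀ r < D.nroots, H.chk.sg n r = D.reflectRoot j r := fun r hr => by
    rw [hnword, H.chk.sg_mul (H.chk.diag_le_monomial (H.chk.hg_mem hp ht0)) (H.chk.ng_mem hj) hr,
      H.chk.sg_diag (H.chk.hg_mem hp ht0) (H.chk.sg_lt (H.chk.ng_mem hj) hr), H.chk.sg_ng hj hr]
  set m' := n * m with hm'def
  have hm' : m' ∈ D.monomialSubgroup F := mul_mem hnm hm
  have h2' : m' * m' = 1 := by
    have e : m * n * m⁻¹ = n := by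
      calc m * n * m⁻¹ = (m * A * m⁻¹) * (m * B * m⁻¹) * (m * A * m⁻¹) := by rw [hndef]; group
        _ = n := by rw [hmA, hmB, hbraid]
    calc m' * m' = n * (m * n * m⁻¹) * (m * m) := by rw [hm'def]; group
      _ = n * n⁻¹ := by
        rw [e, h2, mul_one]
        congr 1
        rw [hndef, mul_inv_rev, mul_inv_rev, hAA, hBB, mul_assoc]
      _ = 1 := mul_inv_cancel n
  have hfixneg : H.chk.sg m' (D.neg a) = D.neg a := by
    rw [hm'def, H.chk.sg_mul hnm hm hq, H.chk.sg_neg hm hp, hflip, R.neg_neg' hp, hsgn a hp,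
      hadef, R.refl_simple hj]
  have hfix' : ∀ r ∈ l, H.chk.sg m' r = r := by
    intro r hr
    have hr' := (hl.2.1 r hr).1
    have h0 := horth' r hr
    rw [hadef, R.pair_simple hj] at h0
    rw [hm'def, H.chk.sg_mul hnm hm hr', hfix r hr, hsgn r hr']
    refine R.key_inj (R.refl_lt j hj r hr') hr' ?_
    rw [R.refl_key j hj r hr', h0, zero_mul, sub_zero]
  set X := H.chk.wg (l.map fun r => (r, c r)) with hXdef
  have hXA : Commute A X := H.commute_wg _ fun p hp' => by
    obtain ⟨r, hr, rfl⟩ := List.mem_map.1 hp'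
    exact H.commute_orth hp (hl.2.1 r hr).1 (horth' r hr) t (c r)
  have hB' : Commute m' B := H.fix_commute hm' h2' hq hfixneg t⁻¹
  have hXB : Commute B X := H.commute_wg _ fun p hp' => by
    obtain ⟨r, hr, rfl⟩ := List.mem_map.1 hp'
    exact (H.commute_orth (hl.2.1 r hr).1 hq (by rw [H.chk.pair_neg hp, horth r hr, neg_zero])
      (c r) t⁻¹).symm
  refine SLData.Split.of_conj H (H.chk.xg_mem haJ t : A ∈ H.msub F J) ?_
  have e : A * (X * m) * A⁻¹ = B * X * m' := by
    calc A * (X * m) * A⁻¹ = X * A * m * A := by rw [← mul_assoc A, hXA.eq, hAA]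
      _ = X * A * (m * A * m⁻¹) * m := by group
      _ = X * (n * A⁻¹) * m := by rw [hmA, hndef]; group
      _ = X * (n * A * m) := by rw [hAA]; simp only [mul_assoc]
      _ = X * (m' * (m⁻¹ * A * m)) := by rw [hm'def]; group
      _ = X * (m' * B) := by rw [hminv]; congr 2; rw [← hmA, hminv]
      _ = B * X * m' := by rw [hB'.eq, ← mul_assoc, hXB.eq]
  rw [e]
  have hl' : H.OrthIn J (D.neg a :: l) := by
    refine ⟨List.nodup_cons.2 ⟨hnegl, hl.1⟩, ?_, ?_⟩
    · intro r hr
      rcases List.mem_cons.1 hr with rfl | hr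
      exacts [hnaJ, hl.2.1 r hr]
    · intro r hr s hs hne
      rcases List.mem_cons.1 hr with rfl | hr <;> rcases List.mem_cons.1 hs with rfl | hs
      · exact absurd rfl hne
      · exact ((H.sl_facts (hl.2.1 s hs).1).2 _ hq (by rw [H.chk.pair_neg hp, horth s hs, neg_zero])).1
      · rw [H.chk.pair_neg hp, horth r hr, neg_zero]
      · exact hl.2.2 r hr s hs hne
  have hlen := H.length_le hl'
  simp only [List.length_cons] at hlen
  have h := ihd (D.nroots - (l.length + 1)) (by omega) _ (D.neg a :: l) (Function.update c (D.neg a) t⁻¹) m'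
    (by rw [List.length_cons]) rfl hl' ?_ hm' (mul_mem hnM hmM) h2' ?_
  · convert h using 1
    rw [List.map_cons, H.chk.wg_cons, Function.update_self]
    congr 2
    rw [hXdef]
    congr 1
    refine List.map_congr_left fun r hr => ?_
    rw [Function.update_of_ne (fun e' : r = D.neg a => hnegl (e' ▸ hr))]
  · intro r hr
    rcases List.mem_cons.1 hr with rfl | hr
    · rw [Function.update_self]; exact inv_ne_zero ht0
    · rw [Function.update_of_ne (fun e' : r = D.neg a => hnegl (e' ▸ hr))]; exact hc r hr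
  · intro r hr
    rcases List.mem_cons.1 hr with rfl | hr
    exacts [hfixneg, hfix' r hr]

theorem exists_sub_longest (J : Set ℕ) : ∃ n ∈ D.monomialSubgroup F, n ∈ H.msub F J ∧
    ∀ j < D.rank, j ∈ J → D.IsNegRoot (H.chk.sg n (D.simple j)) := by
  suffices key : ∀ d (n : GL D.Idx F), n ∈ D.monomialSubgroup F → n ∈ H.msub F J →
      D.nroots - (H.chk.inv n).ncard = d → ∃ n ∈ D.monomialSubgroup F, n ∈ H.msub F J ∧
        ∀ j < D.rank, j ∈ J → D.IsNegRoot (H.chk.sg n (D.simple j)) from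
    key _ 1 (one_mem _) (one_mem _) rfl
  intro d
  induction d using Nat.strong_induction_on with
  | _ d ih =>
    intro n hn hnM hd
    by_cases h : ∀ j < D.rank, j ∈ J → D.IsNegRoot (H.chk.sg n (D.simple j))
    · exact ⟨n, hn, hnM, h⟩
    push Not at h
    obtain ⟨j, hj, hjJ, hnn⟩ := h
    have hpos := (H.chk.key_trichotomy (H.chk.sg_lt hn (H.chk.root.simple_lt j hj))).resolve_right hnn
    have h1 := H.chk.inv_step hj hn hpos
    have h2 : (H.chk.inv (n * H.chk.ng j)).ncard ≤ D.nroots := by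
      rw [← H.chk.len_eq (mul_mem hn (H.chk.ng_mem hj))]; exact H.chk.len_le _
    exact ih _ (by omega) _ (mul_mem hn (H.chk.ng_mem hj)) (mul_mem hnM (H.ng_mem_msub hj hjJ)) rfl

omit [CharP F 2] [Finite F] in
theorem pos_image_fix {J : Set ℕ} {m : GL D.Idx F} (hm : m ∈ D.monomialSubgroup F) {r : ℕ}
    (hr : D.IsPosRoot r) (hJ : D.InRootSub J r) (hpos : D.IsPosRoot (H.chk.sg m r))
    (hdich : ∀ j < D.rank, j ∈ J →
      H.chk.sg m (D.simple j) = D.simple j ∨ D.IsNegRoot (H.chk.sg m (D.simple j))) :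
    D.InRootSub {j | j ∈ J ∧ (j < D.rank → H.chk.sg m (D.simple j) = D.simple j)} r ∧
      H.chk.sg m r = r := by
  classical
  have R := H.chk.root
  have hcJ := ((H.chk.inRootSub_iff H.supp J).1 hJ).2
  let f : ℕ → Prop := fun k => H.chk.sg m (D.simple k) = D.simple k
  have hz : ∀ k < D.rank, ¬ f k → T.aux.coef r k = 0 := by
    intro k hk hkf
    by_contra hne
    have hkJ : k ∈ J := by_contra fun h => hne (hcJ k hk h)
    have hp := R.simple_lt k hk
    have hneg := (hdich k hk hkJ).resolve_left hkf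
    have hlt := H.chk.sg_lt hm hp
    obtain ⟨i, hi, hineg, hif⟩ : ∃ i < D.rank, T.aux.coef (H.chk.sg m (D.simple k)) i < 0 ∧ ¬ f i := by
      by_contra hcon
      push Not at hcon
      -- the image would be fixed
      obtain ⟨τ, hmo⟩ := H.chk.sg_spec hm
      have hfixim : H.chk.sg m (H.chk.sg m (D.simple k)) = H.chk.sg m (D.simple k) := by
        refine H.chk.root_ext (H.chk.sg_lt hm hlt) hlt fun i hi => ?_
        rw [H.chk.coef_sg hm hlt hi, Finset.sum_congr rfl (g := fun x =>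
          if x = i then T.aux.coef (H.chk.sg m (D.simple k)) x else 0) ?_]
        · rw [Finset.sum_ite_eq', if_pos (Finset.mem_range.2 hi)]
        intro x hx
        have hx' := Finset.mem_range.1 hx
        by_cases h0 : T.aux.coef (H.chk.sg m (D.simple k)) x = 0
        · rw [h0, zero_mul]; simp
        · have hle : T.aux.coef (H.chk.sg m (D.simple k)) x ≤ 0 := by
            have := H.chk.coef_nonneg ((H.chk.neg_pos_iff hlt).2 hneg) hx'
            rw [R.coef_neg hlt hx'] at this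
            omega
          have hfx : H.chk.sg m (D.simple x) = D.simple x := hcon x hx' (lt_of_le_of_ne hle h0)
          rw [hfx, R.coef_simple x hx' i hi]
          by_cases hxi : x = i
          · subst hxi; simp
          · rw [if_neg (Ne.symm hxi), mul_zero, if_neg hxi]
      apply hkf
      show H.chk.sg m (D.simple k) = D.simple k
      have h1 := congrArg (H.chk.sg m⁻¹) hfixim
      rwa [H.chk.sg_inv_sg hm hlt, H.chk.sg_inv_sg hm hp] at h1
    have h1 := H.chk.coef_nonneg hpos hi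
    rw [H.chk.coef_sg hm hr.1 hi] at h1
    refine absurd h1 (not_le.2 (Finset.sum_neg' (fun x hx => ?_) ⟨k, Finset.mem_range.2 hk, ?_⟩))
    · have hx' := Finset.mem_range.1 hx
      by_cases hfx : f x
      · rw [show H.chk.sg m (D.simple x) = D.simple x from hfx, R.coef_simple x hx' i hi,
          if_neg (fun e : i = x => hif (e ▸ hfx)), mul_zero]
      · by_cases hxJ : x ∈ J
        · refine mul_nonpos_of_nonneg_of_nonpos (H.chk.coef_nonneg hr hx') ?_
          have hn' := (hdich x hx' hxJ).resolve_left hfx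
          have hlt' := H.chk.sg_lt hm (R.simple_lt x hx')
          have := H.chk.coef_nonneg ((H.chk.neg_pos_iff hlt').2 hn') hi
          rw [R.coef_neg hlt' hi] at this
          omega
        · rw [hcJ x hx' hxJ, zero_mul]
    · exact mul_neg_of_pos_of_neg (lt_of_le_of_ne (H.chk.coef_nonneg hr hk) (Ne.symm hne)) hineg
  refine ⟨(H.chk.inRootSub_iff H.supp _).2 ⟨hr.1, fun k hk hkK => ?_⟩, ?_⟩
  · by_cases hkJ : k ∈ J
    · exact hz k hk fun h => hkK ⟨hkJ, fun _ => h⟩
    · exact hcJ k hk hkJ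
  · refine H.chk.root_ext (H.chk.sg_lt hm hr.1) hr.1 fun i hi => ?_
    rw [H.chk.coef_sg hm hr.1 hi, Finset.sum_congr rfl (g := fun x =>
      if x = i then T.aux.coef r x else 0) ?_]
    · rw [Finset.sum_ite_eq', if_pos (Finset.mem_range.2 hi)]
    intro x hx
    have hx' := Finset.mem_range.1 hx
    by_cases hfx : f x
    · rw [show H.chk.sg m (D.simple x) = D.simple x from hfx, R.coef_simple x hx' i hi]
      by_cases hxi : x = i
      · subst hxi; simp
      · rw [if_neg (Ne.symm hxi), mul_zero, if_neg hxi]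
    · rw [hz x hx' hfx, zero_mul]; simp

/-- Every involution of a subsystem subgroup splits. -/
theorem split (J : Finset ℕ) : ∀ y : GL D.Idx F, y ∈ H.msub F (↑J : Set ℕ) → y * y = 1 →
    H.Split (↑J : Set ℕ) y := by
  induction J using Finset.strongInduction with
  | _ J ihJ =>
  intro y0 hy0 hy02
  have R := H.chk.root
  suffices key : ∀ d (n b u y : GL D.Idx F), y ∈ H.msub F (↑J : Set ℕ) → y * y = 1 →
      n ∈ D.monomialSubgroup F → n ∈ H.msub F (↑J : Set ℕ) → b ∈ D.borelSubgroup F →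
      u ∈ grp D F (H.chk.inv n) → y = b * n * u → D.nroots - (H.chk.inv n).ncard = d →
      H.Split (↑J : Set ℕ) y by
    obtain ⟨n, hn, hnM, b, hb, u, hu, e⟩ := H.exists_bnu_sub hy0
    exact key _ n b u y0 hy0 hy02 hn hnM hb hu e rfl
  intro d
  induction d using Nat.strong_induction_on with
  | _ d ih =>
  intro n b u y hy hy2 hn hnM hb hu e hd
  classical
  -- conjugation by `u` brings `y` to the form `v m`
  have hu' : u ∈ grp D F {r | D.IsPosRoot r ∧ D.InRootSub (↑J : Set ℕ) r} :=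
    grp_mem_mono hu fun r hr => ⟨hr.1, H.node_mem_of_neg hn hnM hr.1 hr.2⟩
  have huM : u ∈ H.msub F (↑J : Set ℕ) := grp_mem_mono hu' fun r hr => hr.2
  have hbM : b ∈ H.msub F (↑J : Set ℕ) := by
    have : b = y * u⁻¹ * n⁻¹ := by rw [e]; group
    rw [this]
    exact mul_mem (mul_mem hy (inv_mem huM)) (inv_mem hnM)
  refine SLData.Split.of_conj H huM ?_
  have huB : u * b ∈ D.borelSubgroup F := mul_mem (Subgroup.mem_sup_left (by
    rw [posUnipotent_eq]; exact grp_mem_mono hu' fun r hr => hr.1)) hb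
  obtain ⟨v, hvU, h, hh, hvh⟩ := H.chk.mem_borel.1 huB
  set m := h * n with hmdef
  have hm : m ∈ D.monomialSubgroup F := mul_mem (H.chk.diag_le_monomial hh) hn
  have hsg : ∀ r < D.nroots, H.chk.sg m r = H.chk.sg n r := fun r hr => by
    rw [hmdef, H.chk.sg_mul (H.chk.diag_le_monomial hh) hn hr, H.chk.sg_diag hh (H.chk.sg_lt hn hr)]
  have hinv : H.chk.inv m = H.chk.inv n := H.chk.inv_congr hsg
  have ev : u * y * u⁻¹ = v * m := by
    calc u * y * u⁻¹ = u * b * n := by rw [e]; group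
      _ = v * m := by rw [hvh, hmdef]; group
  rw [ev]
  have hvL : v ∈ D.leviSubgroup F (↑J : Set ℕ) := by
    have : v = u * b * h⁻¹ := by rw [hvh]; group
    rw [this, H.chk.levi_eq]
    exact mul_mem (Subgroup.mem_sup_right (mul_mem huM hbM)) (Subgroup.mem_sup_left (inv_mem hh))
  have hvM : v ∈ H.msub F (↑J : Set ℕ) := by
    rw [posUnipotent_eq] at hvU
    exact H.levi_part (S' := {r | D.InRootSub (↑J : Set ℕ) r}) (fun r hr => hr) (fun r hr => hr)
      (fun r _ hr => hr) hvU hvL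
  have hy1M : v * m ∈ H.msub F (↑J : Set ℕ) := by
    rw [← ev]; exact mul_mem (mul_mem huM hy) (inv_mem huM)
  have hmM : m ∈ H.msub F (↑J : Set ℕ) := by
    have := mul_mem (inv_mem hvM) hy1M
    simpa using this
  have hy12 : v * m * (v * m) = 1 := by rw [← ev, conj_mul, hy2]; group
  obtain ⟨hm2, hmv, hvno⟩ := H.mono_part hvU hm hy12
  have hminv : m⁻¹ = m := inv_eq_of_mul_eq_one_right hm2
  have longer : ∀ (k z : GL D.Idx F), k ∈ H.msub F (↑J : Set ℕ) → z = k * (v * m) * k⁻¹ →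
      ∀ n' ∈ D.monomialSubgroup F, n' ∈ H.msub F (↑J : Set ℕ) →
      ∀ b₁ ∈ D.borelSubgroup F, ∀ b₂ ∈ D.borelSubgroup F, z = b₁ * n' * b₂ →
      (H.chk.inv n).ncard < (H.chk.inv n').ncard → H.Split (↑J : Set ℕ) (v * m) := by
    intro k z hk ez n' hn' hn'M b₁ h₁ b₂ h₂ ez' hlt
    obtain ⟨b', hb', u', hu'', e'⟩ := H.to_bnu hn' h₁ h₂ ez'
    refine SLData.Split.of_conj H hk ?_
    rw [← ez]
    have hle : (H.chk.inv n').ncard ≤ D.nroots := by rw [← H.chk.len_eq hn']; exact H.chk.len_le _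
    exact ih _ (by omega) n' b' u' z (by rw [ez]; exact mul_mem (mul_mem hk hy1M) (inv_mem hk))
      (by rw [ez, conj_mul, hy12]; group) hn' hn'M hb' hu'' e' rfl
  by_cases hstep : ∃ j < D.rank, j ∈ J ∧ D.IsPosRoot (H.chk.sg m (D.simple j)) ∧
      H.chk.sg m (D.simple j) ≠ D.simple j
  · obtain ⟨j, hj, hjJ, hpos, hne⟩ := hstep
    have hp := R.simple_lt j hj
    have hng := H.chk.ng_mem (F := F) hj
    have hngM : (H.chk.ng j : GL D.Idx F) ∈ H.msub F (↑J : Set ℕ) := H.ng_mem_msub hj hjJ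
    have hposr := (H.chk.refl_pos hj hpos hne).1
    have hk := mul_mem hng hm
    have hkpos : D.IsPosRoot (H.chk.sg (H.chk.ng j * m) (D.simple j)) := by
      rw [H.chk.sg_mul hng hm hp, H.chk.sg_ng hj (H.chk.sg_lt hm hp)]
      exact hposr
    have hvB : v ∈ D.borelSubgroup F := Subgroup.mem_sup_left hvU
    obtain ⟨τ, hmo⟩ := H.chk.sg_spec (inv_mem hm)
    obtain ⟨b₁, h₁, b₂, h₂, e₁⟩ := DoubleCoset.mem_doubleCoset.1
      ((H.chk.bn_step hj hm hvB hmo).1 (by rw [hminv]; exact hpos))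
    obtain ⟨τ', hmo'⟩ := H.chk.sg_spec (inv_mem (inv_mem hk))
    obtain ⟨c₁, hc₁, c₂, hc₂, e₂⟩ := DoubleCoset.mem_doubleCoset.1
      ((H.chk.bn_step hj (inv_mem hk) (inv_mem h₂) hmo').1 (by rw [inv_inv]; exact hkpos))
    have hlen : (H.chk.inv (H.chk.ng j * m * H.chk.ng j)).ncard = (H.chk.inv m).ncard + 2 := by
      have h1 := H.chk.inv_step hj hm hpos
      have h2 := H.chk.inv_step hj hk hkpos
      have h4 : (H.chk.inv (H.chk.ng j * m)).ncard = (H.chk.inv (m * H.chk.ng j)).ncard := by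
        rw [← H.chk.ncard_inv_inv (mul_mem hm hng), mul_inv_rev, hminv, H.ng_inv_two]
      omega
    refine longer (H.chk.ng j) _ hngM rfl (H.chk.ng j * m * H.chk.ng j) (mul_mem hk hng)
      (mul_mem (mul_mem hngM hmM) hngM) (b₁ * c₂⁻¹) (mul_mem h₁ (inv_mem hc₂)) c₁⁻¹ (inv_mem hc₁)
      ?_ (by rw [hlen, hinv]; omega)
    have e₃ : (H.chk.ng j * m) * b₂ * H.chk.ng j = c₂⁻¹ * (H.chk.ng j * m * H.chk.ng j) * c₁⁻¹ := by
      have := congrArg (·⁻¹) e₂
      simp only [mul_inv_rev, inv_inv, hminv, H.ng_inv_two] at this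
      simpa only [← mul_assoc] using this
    rw [H.ng_inv_two, show H.chk.ng j * (v * m) * H.chk.ng j = H.chk.ng j * v * m * H.chk.ng j by group,
      e₁, show b₁ * (H.chk.ng j * m) * b₂ * H.chk.ng j =
        b₁ * ((H.chk.ng j * m) * b₂ * H.chk.ng j) by group, e₃]
    group
  push Not at hstep
  have hdich : ∀ j < D.rank, j ∈ (↑J : Set ℕ) →
      H.chk.sg m (D.simple j) = D.simple j ∨ D.IsNegRoot (H.chk.sg m (D.simple j)) := fun j hj hjJ => by
    rcases H.chk.key_trichotomy (H.chk.sg_lt hm (R.simple_lt j hj)) with h' | h'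
    exacts [Or.inl (hstep j hj hjJ h'), Or.inr h']
  by_cases hallpos : ∀ i < D.rank, D.IsPosRoot (H.chk.sg m (D.simple i))
  · have hmd := H.chk.mem_diag_of_simple_pos hm hallpos
    have hm1 := H.diag_invol_eq_one hmd hm2
    by_cases hv1 : v = 1
    · refine ⟨1, one_mem _, [], ⟨List.nodup_nil, by simp, by simp⟩, ?_⟩
      simp [hv1, hm1, H.chk.wg_nil]
    obtain ⟨w, hw, hwM, hwneg⟩ := H.exists_sub_longest (F := F) (↑J : Set ℕ)
    set z := w * (v * m) * w⁻¹ with hzdef
    have hzM : z ∈ H.msub F (↑J : Set ℕ) := mul_mem (mul_mem hwM hy1M) (inv_mem hwM)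
    have hzB : z ∉ D.borelSubgroup F := by
      intro hzB
      refine hv1 ?_
      rw [hzdef, hm1, mul_one] at hzB
      obtain ⟨τ, hmo⟩ := H.chk.sg_spec hw
      have hclosed : ClosedSet D {r | D.IsPosRoot r ∧ D.InRootSub (↑J : Set ℕ) r} := by
        refine ⟨fun r hr => hr.1, fun r hr s hs _ c hc => ⟨(H.chk.commTerms_gt hr.1 hs.1 c hc).1, ?_⟩⟩
        obtain ⟨a, a', -, -, -, hco⟩ := H.chk.commTerms_comb hr.1.1 hs.1.1 c hc
        refine (H.chk.inRootSub_iff H.supp _).2
          ⟨(H.chk.commTerms_gt hr.1 hs.1 c hc).1.1, fun k hk hkJ => ?_⟩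
        rw [show T.aux.coef c.1 k = _ from hco k hk]
        have h1 : T.cf r k = 0 := ((H.chk.inRootSub_iff H.supp _).1 hr.2).2 k hk hkJ
        have h2 : T.cf s k = 0 := ((H.chk.inRootSub_iff H.supp _).1 hs.2).2 k hk hkJ
        simp [h1, h2]
      refine H.chk.eq_one_of_conj_mem_borel hclosed hmo (fun r hr => ?_)
        (H.levi_part (S := {r | D.IsPosRoot r}) (S' := {r | D.IsPosRoot r ∧ D.InRootSub (↑J : Set ℕ) r}) (fun r hr => hr) (fun r hr => hr.2)
          (fun r hr hr' => ⟨hr, hr'⟩) (by rw [← posUnipotent_eq]; exact hvU) hvL) hzB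
      refine (H.chk.key_trichotomy (H.chk.sg_lt hw hr.1.1)).resolve_left fun hp' => ?_
      have h1 := ((R.pos_iff _).1 hp').2
      have h2 : T.key (H.chk.sg w r) ≤ 0 := by
        rw [H.chk.key_sigma hmo hr.1.1]
        refine Finset.sum_nonpos fun k hk => ?_
        have hk' := Finset.mem_range.1 hk
        by_cases hkJ : k ∈ (↑J : Set ℕ)
        · exact mul_nonpos_of_nonneg_of_nonpos (H.chk.coef_nonneg hr.1 hk')
            ((R.neg_iff _).1 (hwneg k hk' hkJ)).2.le
        · rw [((H.chk.inRootSub_iff H.supp _).1 hr.2).2 k hk' hkJ, zero_mul]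
      simp only [Fast.aux] at h1
      omega
    obtain ⟨n', hn', hn'M, b', hb', u', hu'', e'⟩ := H.exists_bnu_sub hzM
    refine longer w z hwM rfl n' hn' hn'M b' hb' u'
      (Subgroup.mem_sup_left (by rw [posUnipotent_eq]; exact grp_mem_mono hu'' fun r hr => hr.1)) e' ?_
    have h0 : (H.chk.inv n).ncard = 0 := by
      rw [← hinv, ← H.chk.len_eq hm]
      rw [(H.chk.cls_toN_eq_one hm).2 hmd, BN.len_one]
    rw [h0]
    by_contra hcon
    rw [not_lt, Nat.le_zero, Set.ncard_eq_zero (H.chk.inv_finite n')] at hcon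
    refine hzB ?_
    have hu1 : u' = 1 := by
      rw [hcon] at hu''
      have : grp D F (∅ : Set ℕ) ≤ ⊥ := H.chk.grp_le fun r hr => absurd hr (Set.notMem_empty r)
      exact Subgroup.mem_bot.1 (this hu'')
    rw [e', hu1, mul_one]
    refine mul_mem hb' (Subgroup.mem_sup_right (H.chk.mem_diag_of_simple_pos hn' fun i hi => ?_))
    refine (H.chk.key_trichotomy (H.chk.sg_lt hn' (R.simple_lt i hi))).resolve_right fun hng => ?_
    have : D.simple i ∈ H.chk.inv n' := ⟨R.pos_simple hi, hng⟩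
    rw [hcon] at this
    exact this
  push Not at hallpos
  obtain ⟨j₀, hj₀, hnp⟩ := hallpos
  have hneg₀ := (H.chk.key_trichotomy (H.chk.sg_lt hm (R.simple_lt j₀ hj₀))).resolve_left hnp
  have hj₀J : j₀ ∈ J := H.simple_of_neg hm hmM hj₀ hneg₀
  set K := J.filter fun j => j < D.rank → H.chk.sg m (D.simple j) = D.simple j with hKdef
  have hKss : K ⊂ J := by
    refine Finset.filter_ssubset.2 ⟨j₀, hj₀J, fun h' => hnp ?_⟩
    rw [h' hj₀]; exact R.pos_simple hj₀
  have hKeq : (↑K : Set ℕ) =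
      {j | j ∈ (↑J : Set ℕ) ∧ (j < D.rank → H.chk.sg m (D.simple j) = D.simple j)} := by
    ext j; simp [hKdef]
  have hKsub : ∀ r, D.InRootSub (↑K : Set ℕ) r → D.InRootSub (↑J : Set ℕ) r := fun r hr => by
    rw [H.chk.inRootSub_iff H.supp] at hr ⊢
    exact ⟨hr.1, fun k hk hkJ => hr.2 k hk fun h' => hkJ (Finset.mem_of_mem_filter k h')⟩
  have hfixK : ∀ r, D.InRootSub (↑K : Set ℕ) r → H.chk.sg m r = r := by
    intro r hr
    refine H.chk.root_ext (H.chk.sg_lt hm hr.1) hr.1 fun i hi => ?_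
    rw [H.chk.coef_sg hm hr.1 hi, Finset.sum_congr rfl (g := fun x =>
      if x = i then T.aux.coef r x else 0) ?_]
    · rw [Finset.sum_ite_eq', if_pos (Finset.mem_range.2 hi)]
    intro x hx
    have hx' := Finset.mem_range.1 hx
    by_cases hxK : x ∈ K
    · rw [(Finset.mem_filter.1 hxK).2 hx', R.coef_simple x hx' i hi]
      by_cases hxi : x = i
      · subst hxi; simp
      · rw [if_neg (Ne.symm hxi), mul_zero, if_neg hxi]
    · rw [((H.chk.inRootSub_iff H.supp _).1 hr).2 x hx' hxK, zero_mul]; simp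
  have hvK : v ∈ H.msub F (↑K : Set ℕ) := by
    refine grp_mem_mono (H.levi_part (S' := {r | D.InRootSub (↑J : Set ℕ) r ∧ D.InRootSub (↑K : Set ℕ) r})
      (fun r hr => hr.1) (fun r hr => hr.1) (fun r hr hrJ => ⟨hrJ, ?_⟩) hvno hvL) (fun r hr => hr.2)
    rw [hKeq]
    exact (H.pos_image_fix hm hr.1 hrJ ((H.chk.key_trichotomy (H.chk.sg_lt hm hr.1.1)).resolve_right
      fun h' => hr.2 ⟨hr.1, h'⟩) hdich).1
  have hcomm : ∀ x ∈ H.msub F (↑K : Set ℕ), Commute m x := by
    intro x hx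
    have hle : H.msub F (↑K : Set ℕ) ≤ Subgroup.centralizer {m} := H.chk.grp_le fun r hr t => by
      rw [Subgroup.mem_centralizer_singleton_iff]
      exact (H.fix_commute hm hm2 hr.1 (hfixK r hr) t).eq.symm
    exact (Subgroup.mem_centralizer_singleton_iff.1 (hle hx)).symm
  have hv2 : v * v = 1 := by
    rw [(hcomm v hvK).eq, mul_inv_cancel_right] at hmv
    exact eq_inv_iff_mul_eq_one.1 hmv
  obtain ⟨k, hk, l, hl, ek⟩ := ihJ K hKss v hvK hv2
  have hkJ : k ∈ H.msub F (↑J : Set ℕ) := grp_mem_mono hk hKsub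
  refine SLData.Split.of_conj H hkJ ?_
  have e2 : k * (v * m) * k⁻¹ = H.chk.wg (l.map fun r => (r, (1 : F))) * m := by
    rw [← ek]
    calc k * (v * m) * k⁻¹ = k * v * (m * k⁻¹) := by group
      _ = k * v * k⁻¹ * m := by rw [(hcomm k⁻¹ (inv_mem hk)).eq]; group
  rw [e2]
  exact H.split_mono _ _ l (fun _ => 1) m rfl rfl ⟨hl.1, fun r hr => hKsub r (hl.2.1 r hr), hl.2.2⟩
    (fun _ _ => one_ne_zero) hm hmM hm2 fun r hr => hfixK r (hl.2.1 r hr)

/-- Every involution of the group is conjugate to an orthogonal product. -/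
theorem split_group {g : GL D.Idx F} (hg : g ∈ D.group F) (h2 : g * g = 1) :
    ∃ k ∈ D.group F, ∃ l, H.OrthIn Set.univ l ∧
      k * g * k⁻¹ = H.chk.wg (l.map fun r => (r, (1 : F))) := by
  have hall : ∀ r < D.nroots, D.InRootSub (↑(Finset.range D.rank) : Set ℕ) r := fun r hr =>
    (H.chk.inRootSub_iff H.supp _).2 ⟨hr, fun k hk hkJ => absurd (Finset.mem_range.2 hk) hkJ⟩
  have hgM : g ∈ H.msub F (↑(Finset.range D.rank) : Set ℕ) :=
    H.chk.group_le (K := H.msub F _) (fun r hr t => H.chk.xg_mem (hall r hr) t) hg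
  obtain ⟨k, hk, l, hl, e⟩ := H.split (Finset.range D.rank) g hgM h2
  exact ⟨k, H.msub_le_group _ hk, l, ⟨hl.1, fun r hr => (H.chk.inRootSub_iff H.supp _).2
    ⟨(hl.2.1 r hr).1, fun k _ h => absurd (Set.mem_univ k) h⟩, hl.2.2⟩, e⟩

end SLData

end Cfsg.Agent.Lib.Chev
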