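import Cfsg.Agent.Lib.Chev.InvolOrthTwistCert
import Cfsg.Agent.Lib.Chev.InvolOrthE6
import Cfsg.Agent.Lib.Chev.TwistE6

/-! Generated certificates for the involutions of `²E₆(q)`, `q` even. -/

set_option autoImplicit false
set_option maxRecDepth 100000

namespace Cfsg.Agent.Lib.Chev.InvolOrthTE6

open Cfsg.Lie

def reps : List (List ℕ) := [[], [0], [3, 5], [0, 11], [0, 12, 26], [0, 11, 27], [0, 11, 28, 31], [0, 11, 27, 32]]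

def steps0 : List (ℕ × List ℕ × ℕ) := [(0, [], 1),
  (1, [1], 1),
  (2, [3, 1], 1),
  (3, [], 2),
  (4, [0], 2),
  (5, [], 2),
  (6, [2, 3, 1], 1),
  (7, [2, 0], 2),
  (8, [3, 2, 3, 1], 1),
  (9, [3, 2, 0], 2),
  (10, [2, 3, 2, 0], 2),
  (11, [1, 3, 2, 3, 1], 1),
  (12, [1, 3, 2, 0], 2),
  (13, [2, 1, 3, 2, 0], 2),
  (14, [3, 2, 1, 3, 2, 0], 2),
  (15, [2, 3, 2, 1, 3, 2, 0], 2),
  (16, [0], 2),
  (17, [2, 0], 2),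
  (18, [0, 2, 3, 1], 1),
  (19, [3, 2, 0], 2),
  (20, [3, 0, 2, 3, 1], 1),
  (21, [0, 2, 3, 2, 0], 2),
  (22, [2, 3, 2, 0], 2),
  (23, [0, 2, 3, 2, 0], 2),
  (24, [2, 3, 0, 2, 3, 1], 1),
  (25, [3, 2, 3, 0, 2, 3, 1], 1),
  (26, [1, 3, 2, 0], 2),
  (27, [1, 3, 0, 2, 3, 1], 1),
  (28, [0, 2, 1, 3, 2, 0], 2),
  (29, [3, 0, 2, 1, 3, 2, 0], 2),
  (30, [2, 1, 3, 2, 0], 2),
  (31, [0, 2, 1, 3, 2, 0], 2),
  (32, [2, 1, 3, 0, 2, 3, 1], 1),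
  (33, [3, 2, 1, 3, 2, 0], 2),
  (34, [3, 0, 2, 1, 3, 2, 0], 2),
  (35, [2, 3, 2, 1, 3, 2, 0], 2),
  (36, [0, 2, 3, 2, 1, 3, 2, 0], 2),
  (37, [2, 3, 0, 2, 1, 3, 2, 0], 2),
  (38, [0, 2, 3, 0, 2, 1, 3, 2, 0], 2),
  (39, [3, 2, 1, 3, 0, 2, 3, 1], 1),
  (40, [3, 2, 3, 0, 2, 1, 3, 2, 0], 2),
  (41, [3, 0, 2, 3, 0, 2, 1, 3, 2, 0], 2),
  (42, [2, 3, 0, 2, 1, 3, 2, 0], 2),
  (43, [3, 2, 3, 0, 2, 1, 3, 2, 0], 2),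
  (44, [2, 3, 2, 1, 3, 0, 2, 3, 1], 1),
  (45, [2, 3, 0, 2, 3, 0, 2, 1, 3, 2, 0], 2),
  (46, [1, 3, 2, 3, 0, 2, 3, 1], 1),
  (47, [1, 3, 2, 1, 3, 0, 2, 3, 1], 1),
  (48, [1, 3, 2, 3, 0, 2, 1, 3, 2, 0], 2),
  (49, [1, 3, 0, 2, 3, 0, 2, 1, 3, 2, 0], 2),
  (50, [1, 3, 2, 3, 0, 2, 1, 3, 2, 0], 2),
  (51, [2, 1, 3, 2, 1, 3, 0, 2, 3, 1], 1),
  (52, [2, 1, 3, 0, 2, 3, 0, 2, 1, 3, 2, 0], 2),
  (53, [3, 2, 1, 3, 2, 1, 3, 0, 2, 3, 1], 1),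
  (54, [3, 2, 1, 3, 0, 2, 3, 0, 2, 1, 3, 2, 0], 2),
  (55, [2, 3, 2, 1, 3, 0, 2, 3, 0, 2, 1, 3, 2, 0], 2),
  (56, [0, 2, 3, 2, 1, 3, 2, 0], 2),
  (57, [0, 2, 3, 0, 2, 1, 3, 2, 0], 2),
  (58, [3, 0, 2, 3, 0, 2, 1, 3, 2, 0], 2),
  (59, [2, 3, 0, 2, 3, 0, 2, 1, 3, 2, 0], 2),
  (60, [0, 2, 3, 2, 1, 3, 0, 2, 3, 1], 1),
  (61, [1, 3, 0, 2, 3, 0, 2, 1, 3, 2, 0], 2),
  (62, [2, 1, 3, 0, 2, 3, 0, 2, 1, 3, 2, 0], 2),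
  (63, [0, 2, 1, 3, 2, 1, 3, 0, 2, 3, 1], 1),
  (64, [3, 2, 1, 3, 0, 2, 3, 0, 2, 1, 3, 2, 0], 2),
  (65, [3, 0, 2, 1, 3, 2, 1, 3, 0, 2, 3, 1], 1),
  (66, [0, 2, 3, 2, 1, 3, 0, 2, 3, 0, 2, 1, 3, 2, 0], 2),
  (67, [2, 3, 2, 1, 3, 0, 2, 3, 0, 2, 1, 3, 2, 0], 2),
  (68, [0, 2, 3, 2, 1, 3, 0, 2, 3, 0, 2, 1, 3, 2, 0], 2),
  (69, [2, 3, 0, 2, 1, 3, 2, 1, 3, 0, 2, 3, 1], 1),
  (70, [3, 2, 3, 0, 2, 1, 3, 2, 1, 3, 0, 2, 3, 1], 1),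
  (71, [1, 3, 2, 3, 0, 2, 1, 3, 2, 1, 3, 0, 2, 3, 1], 1)]

theorem steps0_ok : E6.fast.stepChkT E6.sym.p E6.sym.r reps 0 steps0 = true := by decide +kernel

def steps1 : List (ℕ × List ℕ × ℕ) := [(11, [], 3),
  (12, [], 4),
  (13, [2], 4),
  (14, [3, 2], 4),
  (15, [2, 3, 2], 4),
  (26, [], 4),
  (27, [0], 3),
  (28, [0, 2], 4),
  (29, [3, 0, 2], 4),
  (30, [2], 4),
  (31, [0, 2], 4),
  (32, [2, 0], 3),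
  (33, [3, 2], 4),
  (34, [3, 0, 2], 4),
  (35, [2, 3, 2], 4),
  (36, [0, 2, 3, 2], 4),
  (37, [2, 3, 0, 2], 4),
  (38, [0, 2, 3, 0, 2], 4),
  (39, [3, 2, 0], 3),
  (40, [3, 2, 3, 0, 2], 4),
  (41, [3, 0, 2, 3, 0, 2], 4),
  (42, [2, 3, 0, 2], 4),
  (43, [3, 2, 3, 0, 2], 4),
  (44, [2, 3, 2, 0], 3),
  (45, [2, 3, 0, 2, 3, 0, 2], 4),
  (56, [0, 2, 3, 2], 4),
  (57, [0, 2, 3, 0, 2], 4),
  (58, [3, 0, 2, 3, 0, 2], 4),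
  (59, [2, 3, 0, 2, 3, 0, 2], 4),
  (60, [0, 2, 3, 2, 0], 3)]

theorem steps1_ok : E6.fast.stepChkT E6.sym.p E6.sym.r reps 1 steps1 = true := by decide +kernel

def steps2 : List (ℕ × List ℕ × ℕ) := [(18, [0, 2, 3, 1], 4),
  (20, [3, 0, 2, 3, 1], 4),
  (24, [2, 3, 0, 2, 3, 1], 4),
  (25, [3, 2, 3, 0, 2, 3, 1], 4),
  (27, [1, 3, 0, 2, 3, 1], 4),
  (32, [2, 1, 3, 0, 2, 3, 1], 4),
  (39, [3, 2, 1, 3, 0, 2, 3, 1], 4),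
  (44, [2, 3, 2, 1, 3, 0, 2, 3, 1], 4),
  (46, [1, 3, 2, 3, 0, 2, 3, 1], 4),
  (47, [1, 3, 2, 1, 3, 0, 2, 3, 1], 4),
  (51, [2, 1, 3, 2, 1, 3, 0, 2, 3, 1], 4),
  (53, [3, 2, 1, 3, 2, 1, 3, 0, 2, 3, 1], 4)]

theorem steps2_ok : E6.fast.stepChkT E6.sym.p E6.sym.r reps 2 steps2 = true := by decide +kernel

def steps3 : List (ℕ × List ℕ × ℕ) := [(27, [], 5),
  (28, [], 6),
  (29, [3], 6),
  (31, [], 6),
  (32, [2], 5),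
  (34, [3], 6),
  (37, [2, 3], 6),
  (39, [3, 2], 5),
  (40, [3, 2, 3], 6),
  (42, [2, 3], 6),
  (43, [3, 2, 3], 6),
  (44, [2, 3, 2], 5)]

theorem steps3_ok : E6.fast.stepChkT E6.sym.p E6.sym.r reps 3 steps3 = true := by decide +kernel

def steps4 : List (ℕ × List ℕ × ℕ) := [(32, [2, 0], 6),
  (39, [3, 2, 0], 6)]

theorem steps4_ok : E6.fast.stepChkT E6.sym.p E6.sym.r reps 4 steps4 = true := by decide +kernel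

def steps5 : List (ℕ × List ℕ × ℕ) := [(32, [], 7),
  (39, [3], 7)]

theorem steps5_ok : E6.fast.stepChkT E6.sym.p E6.sym.r reps 5 steps5 = true := by decide +kernel

def steps6 : List (ℕ × List ℕ × ℕ) := []

theorem steps6_ok : E6.fast.stepChkT E6.sym.p E6.sym.r reps 6 steps6 = true := by decide +kernel

def steps7 : List (ℕ × List ℕ × ℕ) := []

theorem steps7_ok : E6.fast.stepChkT E6.sym.p E6.sym.r reps 7 steps7 = true := by decide +kernel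

def steps (k : ℕ) : List (ℕ × List ℕ × ℕ) :=
  [steps0, steps1, steps2, steps3, steps4, steps5, steps6, steps7].getD k []

theorem steps_ok : ∀ k < reps.length, E6.fast.stepChkT E6.sym.p E6.sym.r reps k (steps k) = true := fun k hk => by
  match k, (show k < 8 from hk) with
  | 0, _ => exact steps0_ok
  | 1, _ => exact steps1_ok
  | 2, _ => exact steps2_ok
  | 3, _ => exact steps3_ok
  | 4, _ => exact steps4_ok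
  | 5, _ => exact steps5_ok
  | 6, _ => exact steps6_ok
  | 7, _ => exact steps7_ok
  | n + 8, h => omega

theorem comm_ok : reps.all E6.fast.commList = true := by decide +kernel

theorem red2_ok : E6.fast.redOKT E6.sym.p E6.sym.r [3, 5, 0] [0, 11] [48, 50] [0, 11] [] = true := by decide +kernel

theorem red4_ok : E6.fast.redOKT E6.sym.p E6.sym.r [0, 12, 26] [0, 11, 27] [36, 56, 48, 50, 10, 22] [0, 11, 27] [] = true := by decide +kernel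

theorem red6_ok : E6.fast.redOKT E6.sym.p E6.sym.r [0, 11, 28, 31] [0, 12, 26] [21, 23, 18, 8] [11, 28, 31] [1, 3, 2, 3, 0, 2, 1] = true := by decide +kernel

theorem red7_ok : E6.fast.redOKT E6.sym.p E6.sym.r [0, 11, 27, 32] [0, 11, 28, 31] [49, 61, 37, 42, 9, 19] [7, 11, 17, 27] [1, 3, 2, 3, 1, 0] = true := by decide +kernel

end Cfsg.Agent.Lib.Chev.InvolOrthTE6
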