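import Cfsg.Agent.Lib.Chev.Cent

/-!
Centralisers of products of commuting root elements with a dominant weight, in characteristic two.
-/

set_option autoImplicit false

namespace Cfsg.Agent.Lib.Chev

open Cfsg.Lie Cfsg.Agent.Lib

variable {D : ChevalleyDatum} {T : Fast} {F : Type*} [Field F]

namespace Fast

variable (T : Fast)

/-- the pairs of pairings differ -/
def prNe (a b r x : ℕ) : Bool := !(beqI (T.pr a b) (T.pr r x)) || !(beqI (T.pr b a) (T.pr x r))

/-- no Weyl element moves a root of `R` to another root of `l` while mapping `R` into `l` -/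
def fixCheck (R l : List ℕ) : Bool :=
  R.all fun r => l.all fun a => Nat.beq a r || (R.any fun x => l.all fun b => T.prNe a b r x) ||
    ((List.range T.n).any fun x => allBelow T.n fun b => T.prNe a b r x)

/-- an integer combination of the columns of `R` is the `k`-th unit vector, for `k` outside `J` -/
def torCheck (R : List ℕ) (J : List ℕ) (M : List (List ℤ)) : Bool :=
  allBelow T.l fun k => J.contains k ||
    (Nat.beq (M.getD k []).length R.length && allBelow T.l fun i =>
      beqI (((M.getD k []).zip R).map fun p => p.1 * T.A i p.2).sum (bif Nat.beq i k then 1 else 0))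

/-- the roots of `l` are central in `U` and commute with the negatives of the nodes in `J`, modulo two -/
def centCheck (l J : List ℕ) : Bool :=
  l.all fun r => (allBelow T.n fun s => !(ltI 0 (T.key s)) || Nat.beq s r || T.evenC r s) &&
    J.all fun j => Nat.blt j T.l && !(Nat.beq (T.sp j) r) && T.evenC r (T.ng (T.sp j))

end Fast

namespace Checked

variable (C : Checked D T)
include C

theorem diag_xg {h : GL D.Idx F} {χ : ℕ → F} (hχ : IsChr D χ)
    (e : (h : Matrix D.Idx D.Idx F) = dg D χ) {r : ℕ} (hr : r < D.nroots) (t : F) :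
    h * C.xg r t * h⁻¹ = C.xg r (χ r * t) := by
  rw [mul_inv_eq_iff_eq_mul]
  exact Units.ext (by simp only [Units.val_mul, e, val_xg]; exact C.dg_x hχ hr t)

theorem diag_conj_wg {h : GL D.Idx F} {χ : ℕ → F} (hχ : IsChr D χ)
    (e : (h : Matrix D.Idx D.Idx F) = dg D χ) : ∀ w : List (ℕ × F), (∀ p ∈ w, p.1 < D.nroots) →
      h * C.wg w * h⁻¹ = C.wg (w.map fun p => (p.1, χ p.1 * p.2))
  | [], _ => by simp [C.wg_nil]
  | p :: w, hw => by
    rw [C.wg_cons, List.map_cons, C.wg_cons, ← C.diag_xg hχ e (hw p (by simp)),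
      ← diag_conj_wg hχ e w fun q hq => hw q (by simp [hq])]
    group

theorem fix_of_check {R l : List ℕ} (hR : ∀ r ∈ R, r < D.nroots)
    (hfix : T.fixCheck R l = true) {n : GL D.Idx F} (hn : n ∈ D.monomialSubgroup F)
    (hmap : ∀ r ∈ R, C.sg n r ∈ l) : ∀ r ∈ R, C.sg n r = r := by
  intro r hr
  simp only [Fast.fixCheck, List.all_eq_true, List.any_eq_true, Bool.or_eq_true, Nat.beq_eq,
    allBelow_iff, List.mem_range] at hfix
  have hne : ∀ x, x < D.nroots → T.prNe (C.sg n r) (C.sg n x) r x = true → False := by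
    intro x hx h
    have ha := C.sg_lt hn (hR r hr)
    have hb := C.sg_lt hn hx
    simp [Fast.prNe, C.pr_eq ha hb, C.pr_eq hb ha, C.pr_eq (hR r hr) hx, C.pr_eq hx (hR r hr),
      C.pair_sg hn (hR r hr) hx, C.pair_sg hn hx (hR r hr), beqI_self] at h
  rcases hfix r hr (C.sg n r) (hmap r hr) with (h | ⟨x, hx, h⟩) | ⟨x, hx, h⟩
  · exact h
  · exact (hne x (hR x hx) (h _ (hmap x hx))).elim
  · rw [← C.tables.nroots] at hx h
    exact (hne x hx (h _ (C.sg_lt hn hx))).elim

theorem ng_mem_of {K : Subgroup (GL D.Idx F)} {j : ℕ}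
    (hK : ∀ t : F, C.xg (D.simple j) t ∈ K ∧ C.xg (D.neg (D.simple j)) t ∈ K) (t : F) :
    C.wg (D.nWord (D.simple j) t) ∈ K := by
  refine Subgroup.list_prod_mem _ fun x hx => ?_
  obtain ⟨p, hp, rfl⟩ := List.mem_map.1 hx
  simp only [ChevalleyDatum.nWord, List.mem_cons, List.not_mem_nil, or_false] at hp
  rcases hp with rfl | rfl | rfl
  exacts [(hK _).1, (hK _).2, (hK _).1]

theorem closure_ng_le {K : Subgroup (GL D.Idx F)} {J : List ℕ}
    (hK : ∀ j ∈ J, ∀ t : F, C.xg (D.simple j) t ∈ K ∧ C.xg (D.neg (D.simple j)) t ∈ K) :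
    Subgroup.closure {g : GL D.Idx F | ∃ k ∈ J, k < D.rank ∧ g = C.ng k} ≤ K := by
  rw [Subgroup.closure_le]
  rintro g ⟨k, hk, -, rfl⟩
  exact C.ng_mem_of (hK k hk) 1

/-- A torus element trivial on the roots of `R` lies in the Levi group. -/
theorem diag_mem_of {K : Subgroup (GL D.Idx F)} {R J : List ℕ} {M : List (List ℤ)}
    (hK : ∀ j ∈ J, ∀ t : F, C.xg (D.simple j) t ∈ K ∧ C.xg (D.neg (D.simple j)) t ∈ K)
    (hR : ∀ r ∈ R, r < D.nroots) (hM : T.torCheck R J M = true) {h : GL D.Idx F}
    (hh : h ∈ D.diagonalSubgroup F) (hfix : ∀ r ∈ R, h * C.xg r 1 * h⁻¹ = C.xg r 1) : h ∈ K := by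
  obtain ⟨c, rfl⟩ := C.exists_torus hh
  obtain ⟨χ, hχ, e⟩ := C.exists_chr hh
  have hval : ∀ r ∈ R, C.chrOf c r = 1 := by
    intro r hr
    have h1 := hfix r hr
    rw [C.diag_xg hχ e (hR r hr), mul_one] at h1
    have h2 := C.xg_inj (hR r hr) h1
    rw [← h2]
    exact dg_inj ((C.val_torus c).symm.trans e) r (hR r hr)
  have hone : ∀ k : Fin D.rank, k.val ∉ J → c k = 1 := by
    intro k hkJ
    simp only [Fast.torCheck, allBelow_iff, Bool.or_eq_true, Bool.and_eq_true, Nat.beq_eq] at hM
    rcases hM k.val (C.tables.rank ▸ k.2) with h | ⟨-, h⟩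
    · exact absurd (List.contains_iff_mem.1 h) hkJ
    have hi : ∀ i : Fin D.rank,
        (((M.getD k.val []).zip R).map fun p => p.1 * T.A i.val p.2).sum = if i = k then 1 else 0 := by
      intro i
      have := beqI_eq (h i.val (C.tables.rank ▸ i.2))
      by_cases hik : i = k
      · subst hik; simpa [natBeq_decide] using this
      · have hne : i.val ≠ k.val := fun h => hik (Fin.ext h)
        simpa [natBeq_decide, hne, hik] using this
    have key : ∀ L : List (ℤ × ℕ), (∀ p ∈ L, p.2 ∈ R) →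
        ∏ i : Fin D.rank, c i ^ (L.map fun p => p.1 * T.A i.val p.2).sum = 1 := by
      intro L
      induction L with
      | nil => simp
      | cons p L ih =>
        intro hp
        simp only [List.map_cons, List.sum_cons, zpow_add, Finset.prod_mul_distrib]
        rw [ih fun q hq => hp q (by simp [hq]), mul_one]
        have h1 : (∏ i : Fin D.rank, c i ^ D.cartan i p.2 : Fˣ) = 1 :=
          Units.ext (by simpa [chrOf] using hval p.2 (hp p (by simp)))
        calc ∏ i : Fin D.rank, c i ^ (p.1 * T.A i.val p.2)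
            = ∏ i : Fin D.rank, (c i ^ D.cartan i p.2) ^ p.1 := by
              refine Finset.prod_congr rfl fun i _ => ?_
              rw [C.tables.cartan i i.2 p.2 (hR _ (hp p (by simp))), mul_comm, zpow_mul]
          _ = 1 := by rw [Finset.prod_zpow, h1, one_zpow]
    have h1 := key ((M.getD k.val []).zip R) fun p hp => (List.of_mem_zip hp).2
    rw [Finset.prod_congr rfl fun i _ => congrArg (c i ^ ·) (hi i), Finset.prod_eq_single k] at h1
    · simpa using h1
    · intro i _ hik
      simp [hik]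
    · simp
  rw [torus]
  have hgen : ∀ l : List ℕ, (∀ i ∈ l, i < D.rank) →
      C.wg (l.flatMap fun i => D.hWord (D.simple i) (torVal c i)) ∈ K := by
    intro l
    induction l with
    | nil => intro _; exact one_mem _
    | cons i l ih =>
      intro hl
      rw [List.flatMap_cons, C.val_wg_append]
      refine mul_mem ?_ (ih fun j hj => hl j (by simp [hj]))
      have hi := hl i (by simp)
      by_cases hiJ : i ∈ J
      · rw [ChevalleyDatum.hWord, C.val_wg_append]
        exact mul_mem (C.ng_mem_of (hK i hiJ) _) (C.ng_mem_of (hK i hiJ) _)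
      · have h1 : C.wg (D.hWord (D.simple i) (torVal c i)) = 1 := by
          rw [torVal, dif_pos hi, hone ⟨i, hi⟩ hiJ, Units.val_one]
          refine Units.ext ?_
          rw [C.val_wg, show D.wordMat F (D.hWord (D.simple i) (1 : F)) = D.hMat F (D.simple i) 1 from rfl,
            C.hMat_simple hi one_ne_zero, Units.val_one, ← dg_one]
          exact dg_congr fun v _ => one_zpow _
        rw [h1]
        exact one_mem _
  exact hgen _ fun i hi => List.mem_range.1 hi

/-- The centraliser of a product of root elements central in `U`. -/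
theorem central_cent [CharP F 2] {l J : List ℕ} {M : List (List ℤ)} (hl : l.Pairwise (· < ·))
    (hab : T.abCheck l = true) (hfix : T.fixCheck l l = true)
    (hst : T.stabCheck (l.map fun r => (r, 1)) J = true) (hM : T.torCheck l J M = true)
    (hc : T.centCheck l J = true) (hl0 : l ≠ []) {K : Subgroup (GL D.Idx F)}
    (hK : K = D.posUnipotent F ⊔ grp D F {s | ∃ j ∈ J, s = D.neg (D.simple j)}) :
    D.group F ⊓ Subgroup.centralizer {C.wg (l.map fun r => (r, (1 : F)))} = K := by
  obtain ⟨hpos, -⟩ := C.commute_of_ab (F := F) hab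
  simp only [Fast.centCheck, List.all_eq_true, Bool.and_eq_true, allBelow_iff, Bool.or_eq_true,
    Bool.not_eq_true', Nat.beq_eq, Nat.blt_eq] at hc
  rw [← C.tables.rank, ← C.tables.nroots] at hc
  set y := C.wg (l.map fun r => (r, (1 : F))) with hy
  have hycomm : ∀ g : GL D.Idx F, (∀ r ∈ l, Commute g (C.xg r 1)) → Commute g y := by
    intro g hg
    refine Commute.list_prod_right _ _ fun x hx => ?_
    obtain ⟨p, hp, rfl⟩ := List.mem_map.1 hx
    obtain ⟨r, hr, rfl⟩ := List.mem_map.1 hp
    exact hg r hr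
  have hsimple : ∀ j, j ∈ J → l ≠ [] → j < D.rank := by
    intro j hj hne
    obtain ⟨r, hr⟩ := List.exists_mem_of_ne_nil l hne
    exact ((hc r hr).2 j hj).1.1
  have hneg : ∀ j ∈ J, ∀ t : F, Commute (C.xg (D.neg (D.simple j)) t) y := by
    intro j hj t
    refine hycomm _ fun r hr => ?_
    obtain ⟨⟨hjl, hne⟩, hev⟩ := (hc r hr).2 j hj
    have hp := C.root.simple_lt j hjl
    rw [← C.tables.simple j hjl, ← C.tables.neg _ hp] at hev
    refine (C.comm_of_even (hpos r hr).1 (C.root.neg_lt _ hp) (fun h => ?_) hev 1 t).symm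
    have := C.root.neg_inj hp (hpos r hr).1 h
    rw [C.tables.simple j hjl] at this
    simp [this, natBeq_decide] at hne
  have hposC : ∀ v ∈ D.posUnipotent F, Commute v y := by
    intro v hv
    have : D.posUnipotent F ≤ Subgroup.centralizer {y} := by
      rw [posUnipotent_eq]
      refine C.grp_le fun s hs t => Subgroup.mem_centralizer_singleton_iff.2 ?_
      refine (hycomm _ fun r hr => ?_).eq
      rcases (hc r hr).1 s hs.1 with (h | h) | h
      · have h'' := ((C.root.pos_iff s).1 hs).2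
        simp only [Fast.aux] at h''
        rw [Bool.eq_false_iff, ne_eq, ltI_iff] at h
        omega
      · subst h
        show _ * _ = _ * _
        rw [C.xg_add hs.1, C.xg_add hs.1, add_comm]
      · exact (C.comm_of_even (hpos r hr).1 hs.1 (C.ne_neg_of_pos (hpos r hr) hs) h 1 t).symm
    exact Subgroup.mem_centralizer_singleton_iff.1 (this hv)
  have hKle : K ≤ D.group F ⊓ Subgroup.centralizer {y} := by
    rw [hK]
    refine sup_le (fun v hv => Subgroup.mem_inf.2 ⟨C.pos_le_group hv,
      Subgroup.mem_centralizer_singleton_iff.2 (hposC v hv)⟩) (C.grp_le ?_)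
    rintro s ⟨j, hj, rfl⟩ t
    refine Subgroup.mem_inf.2 ⟨?_, Subgroup.mem_centralizer_singleton_iff.2 (hneg j hj t)⟩
    by_cases hs : D.neg (D.simple j) < D.nroots
    · exact C.xg_mem_group hs t
    · rw [show C.xg (D.neg (D.simple j)) t = 1 from Units.ext (x_of_ge hs t)]; exact one_mem _
  refine le_antisymm (fun g hg => ?_) hKle
  obtain ⟨hgG, hgc⟩ := Subgroup.mem_inf.1 hg
  rw [Subgroup.mem_centralizer_singleton_iff] at hgc
  obtain ⟨b, hb, n, hn, u, hu, rfl⟩ := C.exists_bnu hgG
  obtain ⟨v, hv, h, hh, rfl⟩ := C.mem_borel.1 hb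
  have huU : u ∈ D.posUnipotent F := by
    rw [posUnipotent_eq]; exact grp_mem_mono hu fun r hr => hr.1
  obtain ⟨χ, hχ, eh⟩ := C.exists_chr (inv_mem hh)
  have hlt : ∀ p ∈ l.map (fun r => (r, (1 : F))), p.1 < D.nroots := by
    intro p hp
    obtain ⟨r, hr, rfl⟩ := List.mem_map.1 hp
    exact (hpos r hr).1
  have hmid : n * y * n⁻¹ = C.wg (l.map fun r => (r, χ r)) := by
    have e1 : n * y * n⁻¹ = h⁻¹ * y * h := by
      have hu' : u * y * u⁻¹ = y := by rw [(hposC u huU).eq, mul_inv_cancel_right]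
      have hv' : v⁻¹ * y * v = y := by rw [(hposC _ (inv_mem hv)).eq, inv_mul_cancel_right]
      conv_lhs => rw [← hu']
      conv_rhs => rw [← hv']
      calc n * (u * y * u⁻¹) * n⁻¹
          = (v * h)⁻¹ * (v * h * n * u * y) * (v * h * n * u)⁻¹ * (v * h) := by group
        _ = (v * h)⁻¹ * (y * (v * h * n * u)) * (v * h * n * u)⁻¹ * (v * h) := by rw [hgc]
        _ = h⁻¹ * (v⁻¹ * y * v) * h := by group
    rw [e1, show h⁻¹ * y * h = h⁻¹ * y * h⁻¹⁻¹ by rw [inv_inv], hy, C.diag_conj_wg hχ eh _ hlt, List.map_map]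
    exact congrArg C.wg (List.map_congr_left fun r _ => by simp)
  have hmap := C.coords_image hl hab hn (fun _ => 1) χ hmid
  have hfixl := C.fix_of_check (fun r hr => (hpos r hr).1) hfix hn fun r hr =>
    (hmap r hr one_ne_zero).1
  obtain ⟨⟨h', hh', w, hw, rfl⟩, -⟩ := C.mem_of_stab (R := l.map fun r => (r, (1 : ℤ))) (J := J)
    (by intro p hp; obtain ⟨r, hr, rfl⟩ := List.mem_map.1 hp; exact (hpos r hr).1) hst hn
    (by intro p hp; obtain ⟨r, hr, rfl⟩ := List.mem_map.1 hp; exact hfixl r hr)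
  have hKj : ∀ j ∈ J, ∀ t : F, C.xg (D.simple j) t ∈ K ∧ C.xg (D.neg (D.simple j)) t ∈ K :=
    fun j hj t => ⟨hK ▸ Subgroup.mem_sup_left (C.xg_mem_pos (C.root.pos_simple (hsimple j hj hl0)) t),
      hK ▸ Subgroup.mem_sup_right (C.xg_mem (S := {s | ∃ j ∈ J, s = D.neg (D.simple j)}) ⟨j, hj, rfl⟩ t)⟩
  have hU : D.posUnipotent F ≤ K := hK ▸ le_sup_left
  have hwK := C.closure_ng_le hKj hw
  have huK := hU huU
  have hd : h * h' ∈ Subgroup.centralizer {y} := by
    have := mul_mem (mul_mem (mul_mem (inv_mem (Subgroup.mem_inf.1 (hKle (hU hv))).2)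
      (Subgroup.mem_centralizer_singleton_iff.2 hgc)) (inv_mem (Subgroup.mem_inf.1 (hKle huK)).2))
      (inv_mem (Subgroup.mem_inf.1 (hKle hwK)).2)
    convert this using 1
    group
  have hdK : h * h' ∈ K := by
    refine C.diag_mem_of hKj (fun r hr => (hpos r hr).1) hM (mul_mem hh hh') fun r hr => ?_
    obtain ⟨ψ, hψ, eψ⟩ := C.exists_chr (mul_mem hh hh')
    have h1 : h * h' * y * (h * h')⁻¹ = y := by
      rw [Subgroup.mem_centralizer_singleton_iff.1 hd, mul_inv_cancel_right]
    rw [hy, C.diag_conj_wg hψ eψ _ hlt, List.map_map] at h1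
    have := C.ordered_inj l hl (fun r hr => hpos r hr) (fun r => ψ r * 1) (fun _ => 1) h1 r hr
    rw [C.diag_xg hψ eψ (hpos r hr).1, this]
  have := mul_mem (mul_mem (mul_mem (hU hv) hdK) hwK) huK
  convert this using 1
  group

end Checked

end Cfsg.Agent.Lib.Chev
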