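import Cfsg.Agent.Lib.Chev.TwistG2ReeStruct
import Cfsg.Agent.Lib.Chev.SLTwoHom

/-!
The centralisers of involutions of the twisted group of type `G₂`.
-/

set_option autoImplicit false

namespace Cfsg.Agent.Lib.Chev.G2

open Cfsg.Lie Cfsg.Agent.Lib Cfsg.Agent.Lib.Chev RootPair
open scoped MatrixGroups

theorem pair_parity : ∀ v < 12, (pair chevG2 8 v + pair chevG2 10 v) % 2 = 0 := by decide +kernel

theorem orth_zero : (commZero 8 10 && commZero 8 1 && commZero 3 10 && commZero 3 1) = true := by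
  decide +kernel

theorem upT_add {F : Type*} [Field F] (s t : F) : (upT s : SL(2, F)) * upT t = upT (s + t) := by
  ext i j
  fin_cases i <;> fin_cases j <;>
    simp [val_upT, Matrix.SpecialLinearGroup.coe_mul, Matrix.mul_apply, Fin.sum_univ_two, add_comm]

/-- the diagonal element of `SL₂` -/
def dT {F : Type*} [Field F] (x : F) : SL(2, F) :=
  upT x * loT (-x⁻¹) * upT x * (upT (-1) * loT 1 * upT (-1))

theorem dT_entries {F : Type*} [Field F] {x : F} (hx : x ≠ 0) :
    ((dT x : SL(2, F)) : Matrix (Fin 2) (Fin 2) F) = !![x, 0; 0, x⁻¹] := by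
  ext i j
  fin_cases i <;> fin_cases j <;>
    simp [dT, val_upT, val_loT, Matrix.SpecialLinearGroup.coe_mul, Matrix.mul_apply, Fin.sum_univ_two] <;>
    (try field_simp) <;> (try ring) <;> simp [hx]

variable {K : Type*} [Field K] [Fintype K] [CharP K 3] (θ : K ≃+* K) {m : ℕ}
  (hθ : ∀ t : K, θ t = t ^ 3 ^ m) (hK : Fintype.card K = 3 ^ (2 * m + 1))

local notation "X" => Checked.xg G2.checked

include hθ hK

omit hθ hK θ [Fintype K] [CharP K 3] in
theorem six_short (y u : K) : six 0 0 y 0 u 0 = X 8 y * X 10 u := by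
  simp [six, G2.checked.xg_zero]

/-- The subgroup of type `A₁` centralised by the involution of the torus. -/
theorem exists_psi :
    ∃ Ψ : SL(2, K) →* ↥(reeTwist θ).fixed,
      (∀ u, ((Ψ (upT u) : ↥(reeTwist θ).fixed) : GL chevG2.Idx K) =
        G2.checked.wg (reeWordU (3 ^ m) (0 : K) u 0)) ∧
      (∀ u, ((Ψ (loT u) : ↥(reeTwist θ).fixed) : GL chevG2.Idx K) ∈ chevG2.negUnipotent K) ∧
      (∀ x : Kˣ, ((Ψ (dT (x : K)) : ↥(reeTwist θ).fixed) : GL chevG2.Idx K) ∈ chevG2.diagonalSubgroup K) ∧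
      Ψ (-1) = 1 ∧
      ∀ (a : GL chevG2.Idx K), a ∈ chevG2.diagonalSubgroup K →
        (a * G2.checked.wg (reeWordU (3 ^ m) (0 : K) 1 0) * a⁻¹ = G2.checked.wg (reeWordU (3 ^ m) 0 1 0)) →
        ∀ g, a * ((Ψ g : ↥(reeTwist θ).fixed) : GL chevG2.Idx K) = (Ψ g : GL chevG2.Idx K) * a := by
  classical
  have hen := en_simple_of G2.checked en_simple_G2
  obtain ⟨φ8, r8, v8⟩ := (G2.checked.rootPair (F := K) hen (r := 8) (lt12 (by omega))).exists_hom
  obtain ⟨φ10, r10, v10⟩ := (G2.checked.rootPair (F := K) hen (r := 10) (lt12 (by omega))).exists_hom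
  have n8 : chevG2.neg 8 = 3 := by
    rw [G2.checked.tables.neg 8 (lt12 (by omega))]; decide +kernel
  have n10 : chevG2.neg 10 = 1 := by
    rw [G2.checked.tables.neg 10 (lt12 (by omega))]; decide +kernel
  simp only [n8, n10] at r8 r10 v8 v10
  have hz := orth_zero
  simp only [Bool.and_eq_true] at hz
  obtain ⟨⟨⟨z1, z2⟩, z3⟩, z4⟩ := hz
  have hcomm : ∀ g h, φ8 g * φ10 h = φ10 h * φ8 g := by
    have hle : φ10.range ≤ Subgroup.centralizer (φ8.range : Set (GL chevG2.Idx K)) := by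
      rw [Subgroup.le_centralizer_iff, r8, Subgroup.closure_le]
      intro a ha
      rw [SetLike.mem_coe, Subgroup.mem_centralizer_iff]
      intro b hb
      have hle' : φ10.range ≤ Subgroup.centralizer ({a} : Set _) := by
        rw [r10, Subgroup.closure_le]
        intro b hb
        rw [SetLike.mem_coe, Subgroup.mem_centralizer_singleton_iff]
        rcases ha with ⟨s, rfl⟩ | ⟨s, rfl⟩ <;> rcases hb with ⟨t, rfl⟩ | ⟨t, rfl⟩
        exacts [comm_zero z1 _ _, comm_zero z2 _ _, comm_zero z3 _ _, comm_zero z4 _ _]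
      exact Subgroup.mem_centralizer_singleton_iff.1 (hle' hb)
    intro g h
    exact Subgroup.mem_centralizer_iff.1 (hle ⟨h, rfl⟩) _ ⟨g, rfl⟩
  let mθ : SL(2, K) →* SL(2, K) := Matrix.SpecialLinearGroup.map (θ : K →+* K)
  have mup : ∀ u, mθ (upT u) = upT (θ u) := fun u => by
    ext i j; fin_cases i <;> fin_cases j <;> simp [mθ, val_upT]
  have mlo : ∀ u, mθ (loT u) = loT (θ u) := fun u => by
    ext i j; fin_cases i <;> fin_cases j <;> simp [mθ, val_loT]
  let Ψ₀ : SL(2, K) →* GL chevG2.Idx K := MonoidHom.mk' (fun g => φ8 (mθ g) * φ10 g) fun g h => by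
    rw [map_mul, map_mul, map_mul]
    calc φ8 (mθ g) * φ8 (mθ h) * (φ10 g * φ10 h)
        = φ8 (mθ g) * (φ8 (mθ h) * φ10 g) * φ10 h := by group
      _ = _ := by rw [hcomm]; group
  have hup : ∀ u, Ψ₀ (upT u) = G2.checked.wg (reeWordU (3 ^ m) (0 : K) u 0) := fun u => by
    show φ8 (mθ (upT u)) * φ10 (upT u) = _
    rw [mup, (v8 _).1, (v10 _).1, reeWord_eq_six, ← six_short, hθ]
    simp [zero_pow (show 3 ^ m ≠ 0 by positivity), zero_pow (Nat.succ_ne_zero (3 ^ m)),
      zero_pow (Nat.succ_ne_zero (2 * 3 ^ m))]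
  have hlo : ∀ u, Ψ₀ (loT u) = X 3 (u ^ 3 ^ m) * X 1 u := fun u => by
    show φ8 (mθ (loT u)) * φ10 (loT u) = _
    rw [mlo, (v8 _).2, (v10 _).2, hθ]
  have hfix : ∀ g, Ψ₀ g ∈ (reeTwist θ).fixed := by
    intro g
    have hg : g ∈ Subgroup.closure (Set.range (upT (F := K)) ∪ {wT}) := by
      rw [closure_eq_top]; exact Subgroup.mem_top g
    have hu : ∀ u, Ψ₀ (upT u) ∈ (reeTwist θ).fixed := fun u => by
      rw [hup]; exact (Subgroup.mem_inf.1 ((mem_unip_iff θ hθ hK _).2 ⟨0, u, 0, rfl⟩)).2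
    have hl : ∀ u, Ψ₀ (loT u) ∈ (reeTwist θ).fixed := fun u => by
      have h := six_fixed θ hθ (hper' hK) (ε := -1) (Or.inr rfl) six_neg commT_neg (0 : K) (-u) 0
      have hn : (-u) ^ 3 ^ m = -(u ^ 3 ^ m) := Odd.neg_pow ((by decide : Odd 3).pow) u
      simp only [Int.cast_neg, Int.cast_one, zero_pow (by positivity : 3 ^ m ≠ 0),
        zero_pow (Nat.succ_ne_zero (3 ^ m)), zero_pow (Nat.succ_ne_zero (2 * 3 ^ m)), hn, mul_zero,
        zero_add, add_zero, neg_one_mul, neg_neg, neg_zero, G2.checked.xg_zero, one_mul, mul_one] at h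
      rw [hlo]
      exact h
    induction hg using Subgroup.closure_induction with
    | mem x hx =>
      rcases hx with ⟨t, rfl⟩ | rfl
      · exact hu t
      · have e : (wT : SL(2, K)) = upT 1 * loT (-1) * upT 1 := by
          ext i j
          fin_cases i <;> fin_cases j <;>
            simp [val_upT, val_loT, val_wT, Matrix.SpecialLinearGroup.coe_mul, Matrix.mul_apply, Fin.sum_univ_two]
        rw [e, map_mul, map_mul]
        exact mul_mem (mul_mem (hu _) (hl _)) (hu _)
    | one => rw [map_one]; exact one_mem _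
    | mul x y _ _ hx hy => rw [map_mul]; exact mul_mem hx hy
    | inv x _ hx => rw [map_inv]; exact inv_mem hx
  have hhg : ∀ (r : ℕ) (φ : SL(2, K) →* GL chevG2.Idx K), r < 12 →
      (∀ t, φ (upT t) = X r t ∧ φ (loT t) = X (chevG2.neg r) t) →
      ∀ x : K, φ (dT x) = G2.checked.hg r x := by
    intro r φ _ h x
    rw [dT]
    simp only [map_mul, (h _).1, (h _).2, Checked.hg, ChevalleyDatum.hWord, G2.checked.val_wg_append,
      ChevalleyDatum.nWord, G2.checked.wg_cons, G2.checked.wg_nil, mul_one, inv_neg, inv_one, neg_neg,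
      mul_assoc]
  have hmd : ∀ x : K, mθ (dT x) = dT (θ x) := fun x => by
    simp [dT, mup, mlo, map_mul]
  have hdT : ∀ x : K, Ψ₀ (dT x) = G2.checked.hg 8 (θ x) * G2.checked.hg 10 x := fun x => by
    show φ8 (mθ (dT x)) * φ10 (dT x) = _
    rw [hmd, hhg 8 φ8 (by omega) (by rw [n8]; exact v8), hhg 10 φ10 (by omega) (by rw [n10]; exact v10)]
  refine ⟨Ψ₀.codRestrict _ hfix, hup, fun u => ?_, fun x => ?_, ?_, ?_⟩
  · show Ψ₀ (loT u) ∈ _
    rw [hlo, negUnipotent_eq]
    have hneg : ∀ r, r = 3 ∨ r = 1 → chevG2.IsNegRoot r := fun r hr =>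
      (G2.checked.root.neg_iff r).2 ⟨by rcases hr with rfl | rfl <;> exact lt12 (by omega),
        ltI_iff.1 (by rcases hr with rfl | rfl <;> decide +kernel)⟩
    exact mul_mem (G2.checked.xg_mem (S := {r | chevG2.IsNegRoot r}) (hneg 3 (Or.inl rfl)) _)
      (G2.checked.xg_mem (S := {r | chevG2.IsNegRoot r}) (hneg 1 (Or.inr rfl)) _)
  · show Ψ₀ (dT (x : K)) ∈ _
    rw [hdT]
    exact mul_mem (G2.checked.hg_mem (lt12 (by omega)) (by simp))
      (G2.checked.hg_mem (lt12 (by omega)) x.ne_zero)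
  · refine Subtype.ext ?_
    show Ψ₀ (-1) = 1
    have e : (-1 : SL(2, K)) = dT (-1 : K) := by
      refine Subtype.ext ?_
      rw [dT_entries (neg_ne_zero.2 one_ne_zero)]
      ext i j; fin_cases i <;> fin_cases j <;> simp [inv_neg]
    rw [e, hdT, map_neg, map_one]
    refine Units.ext ?_
    rw [Units.val_mul, Checked.val_hg, Checked.val_hg,
      G2.checked.hMat_eq (lt12 (r := 8) (by omega)) (neg_ne_zero.2 one_ne_zero),
      G2.checked.hMat_eq (lt12 (r := 10) (by omega)) (neg_ne_zero.2 one_ne_zero), dg_mul, Units.val_one,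
      ← dg_one]
    refine dg_congr fun v hv => ?_
    rw [← zpow_add₀ (neg_ne_zero.2 one_ne_zero)]
    exact Even.neg_one_zpow (Int.even_iff.2 (pair_parity v (nroots_eq ▸ hv)))
  · intro a ha hfixa g
    obtain ⟨χ, hχ, e⟩ := G2.checked.exists_chr ha
    have hcj := fun {r : ℕ} (hr : r < 12) (x : K) => G2.checked.conj_xg_of_dg hχ e (lt12 hr) x
    rw [reeWord_eq_six] at hfixa
    simp only [zero_pow (show 3 ^ m ≠ 0 by positivity), zero_pow (Nat.succ_ne_zero (3 ^ m)),
      zero_pow (Nat.succ_ne_zero (2 * 3 ^ m)), zero_add, one_pow] at hfixa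
    rw [six_short, ← conj_mul,
      hcj (r := 8) (by omega), hcj (r := 10) (by omega), mul_one, mul_one, ← six_short, ← six_short] at hfixa
    obtain ⟨-, -, c8, -, c10, -⟩ := six_inj hfixa
    have c3 : χ 3 = 1 := by rw [← n8, hχ.neg 8 (lt12 (by omega)), c8, inv_one]
    have c1 : χ 1 = 1 := by rw [← n10, hχ.neg 10 (lt12 (by omega)), c10, inv_one]
    have hle : ∀ {r : ℕ}, r < 12 → χ r = 1 → ∀ x : K, X r x ∈ Subgroup.centralizer ({a} : Set _) :=
      fun {r} hr hc x => Subgroup.mem_centralizer_singleton_iff.2 (by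
        have h := hcj hr x
        rw [hc, one_mul, mul_inv_eq_iff_eq_mul] at h
        exact h.symm)
    have hm : Ψ₀ g ∈ Subgroup.centralizer ({a} : Set _) := by
      refine mul_mem ?_ ?_
      · have h : φ8 (mθ g) ∈ φ8.range := ⟨_, rfl⟩
        rw [r8] at h
        refine (Subgroup.closure_le _).2 ?_ h
        rintro _ (⟨t, rfl⟩ | ⟨t, rfl⟩)
        exacts [hle (by omega) c8 t, hle (by omega) c3 t]
      · have h : φ10 g ∈ φ10.range := ⟨_, rfl⟩
        rw [r10] at h
        refine (Subgroup.closure_le _).2 ?_ h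
        rintro _ (⟨t, rfl⟩ | ⟨t, rfl⟩)
        exacts [hle (by omega) c10 t, hle (by omega) c1 t]
    exact (Subgroup.mem_centralizer_singleton_iff.1 hm).symm

/-- The centraliser of an involution of the torus. -/
theorem centralizer_involution (a : ↥(reeTwist θ).fixed)
    (haH : (a : GL chevG2.Idx K) ∈ chevG2.diagonalSubgroup K) (ha1 : a ≠ 1) (ha2 : a * a = 1) :
    ∃ e : ↥(Subgroup.centralizer ({a} : Set ↥(reeTwist θ).fixed)) ≃*
        Multiplicative (ZMod 2) × Matrix.ProjectiveSpecialLinearGroup (Fin 2) K,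
      e ⟨a, Subgroup.mem_centralizer_singleton_iff.2 rfl⟩ = (Multiplicative.ofAdd 1, 1) := by
  classical
  revert a
  set F := (reeTwist θ).fixed
  intro a haH ha1 ha2
  obtain ⟨Ψ, hup, hlo, hdi, hneg, hcent⟩ := exists_psi θ hθ hK
  obtain ⟨ζ, hζ, hconj⟩ := exists_torusHom θ hθ hK
  have h3 : (3 : K) = 0 := CharP.ofNat_eq_zero K 3
  have hm1 : (-1 : K) ≠ 1 := fun h => one_ne_zero (by linear_combination h + h3 : (1 : K) = 0)
  have he3 : 3 ^ m ≠ 0 := by positivity
  have heven : Even (3 * 3 ^ m + 1) := ((by decide : Odd 3).mul ((by decide : Odd 3).pow)).add_one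
  have hodd2 : Odd (3 * 3 ^ m + 2) :=
    ((by decide : Odd 3).mul ((by decide : Odd 3).pow)).add_even (by decide)
  set za := ζ ⟨a, Subgroup.mem_inf.2 ⟨haH, a.2⟩⟩ with hza
  have hz : za = -1 := by
    have h2 : za * za = 1 := by
      rw [hza, ← map_mul, ← map_one ζ]
      exact congrArg ζ (Subtype.ext (congrArg Subtype.val ha2 :))
    have h1 : za ≠ 1 := fun h => ha1 (Subtype.ext
      (congrArg Subtype.val (hζ.1 (h.trans (map_one ζ).symm)) :))
    rcases mul_self_eq_one_iff.1 (show (za : K) * za = 1 from congrArg Units.val h2) with h | h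
    · exact absurd (Units.ext h) h1
    · exact Units.ext (by rw [Units.val_neg, Units.val_one]; exact h)
  -- the action on the coordinates
  have hacoord : ∀ t u v : K,
      (a : GL chevG2.Idx K) * G2.checked.wg (reeWordU (3 ^ m) t u v) * (a : GL chevG2.Idx K)⁻¹ =
        G2.checked.wg (reeWordU (3 ^ m) (-t) u (-v)) := fun t u v => by
    have h : (a : GL chevG2.Idx K) * G2.checked.wg (reeWordU (3 ^ m) t u v) * (a : GL chevG2.Idx K)⁻¹ = _ :=
      hconj ⟨a, Subgroup.mem_inf.2 ⟨haH, a.2⟩⟩ t u v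
    rw [h, ← hza, hz, Units.val_neg, Units.val_one, heven.neg_one_pow, hodd2.neg_one_pow]
    simp
  set Z := Subgroup.centralizer ({a} : Set ↥F)
  have hΨZ : ∀ g, Ψ g ∈ Z := fun g => Subgroup.mem_centralizer_singleton_iff.2
    (Subtype.ext (hcent _ haH (by rw [hacoord, neg_zero]) g).symm)
  have haZ : a ∈ Z := Subgroup.mem_centralizer_singleton_iff.2 rfl
  have hpos : ∀ u : K, ((Ψ (upT u) : ↥F) : GL chevG2.Idx K) ∈ chevG2.posUnipotent K := fun u => by
    rw [hup]; exact (Subgroup.mem_inf.1 ((mem_unip_iff θ hθ hK _).2 ⟨0, u, 0, rfl⟩)).1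
  have hupinj : ∀ u, Ψ (upT u) = 1 → u = 0 := fun u h => by
    have h' := congrArg Subtype.val h
    rw [hup, Subgroup.coe_one, ← reeWord_zero (K := K) (e := 3 ^ m) he3] at h'
    exact (reeWord_inj h').2.1
  have hloinj : ∀ u, Ψ (loT u) = 1 → u = 0 := fun u h => by
    have e : loT u = wT * upT (-u) * (wT : SL(2, K))⁻¹ := by
      rw [eq_mul_inv_iff_mul_eq]
      ext i j
      fin_cases i <;> fin_cases j <;>
        simp [val_upT, val_loT, val_wT, Matrix.SpecialLinearGroup.coe_mul, Matrix.mul_apply, Fin.sum_univ_two]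
    rw [e, map_mul, map_mul, map_inv, conj_eq_one_iff] at h
    simpa using hupinj _ h
  -- the kernel
  have hker : ∀ g : SL(2, K), Ψ g = 1 → g = 1 ∨ g = -1 := by
    intro g hg
    have hd := det_eq g
    by_cases hc : g.1 1 0 = 0
    · have ha' : g.1 0 0 ≠ 0 := fun h => by simp [h, hc] at hd
      have hcm : Ψ (g * upT 1 * g⁻¹ * upT (-1)) = 1 := by
        rw [map_mul, map_mul, map_mul, map_inv, hg, one_mul, inv_one, mul_one, ← map_mul, upT_add,
          add_neg_cancel]
        rw [show upT (0 : K) = 1 from Subtype.ext (by ext i j; fin_cases i <;> fin_cases j <;> simp [val_upT]),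
          map_one]
      have e : g * upT 1 * g⁻¹ * upT (-1) = upT (g.1 0 0 * g.1 0 0 - 1) := by
        have e1 : g * upT 1 = upT (g.1 0 0 * g.1 0 0) * g := by
          ext i j
          fin_cases i <;> fin_cases j <;>
            simp [val_upT, Matrix.SpecialLinearGroup.coe_mul, Matrix.mul_apply, Fin.sum_univ_two, hc]
          · have hd' : g.1 0 0 * g.1 1 1 = 1 := by simpa [hc] using hd
            linear_combination (-g.1 0 0) * hd'
        rw [e1, mul_inv_cancel_right, upT_add, sub_eq_add_neg]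
      rw [e] at hcm
      have hsq : g.1 0 0 * g.1 0 0 = 1 := sub_eq_zero.1 (hupinj _ hcm)
      have hd' : g.1 1 1 = g.1 0 0 := by
        have : g.1 0 0 * g.1 1 1 = 1 := by simpa [hc] using hd
        exact mul_left_cancel₀ ha' (this.trans hsq.symm)
      rcases mul_self_eq_one_iff.1 hsq with h | h
      · have e : g = upT (g.1 0 1) := by
          ext i j; fin_cases i <;> fin_cases j <;> simp [val_upT, hc, hd', h]
        rw [e] at hg
        exact Or.inl (by
          rw [e, hupinj _ hg]; ext i j; fin_cases i <;> fin_cases j <;> simp [val_upT])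
      · have e : g = -1 * upT (-g.1 0 1) := by
          ext i j; fin_cases i <;> fin_cases j <;>
            simp [val_upT, Matrix.SpecialLinearGroup.coe_mul, hc, hd', h]
        rw [e, map_mul, hneg, one_mul] at hg
        refine Or.inr ?_
        rw [e, hupinj _ hg]
        ext i j; fin_cases i <;> fin_cases j <;> simp [val_upT, Matrix.SpecialLinearGroup.coe_mul]
    · exfalso
      have e : g = upT ((g.1 0 0 - 1) / g.1 1 0) * loT (g.1 1 0) * upT ((g.1 1 1 - 1) / g.1 1 0) := by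
        ext i j
        fin_cases i <;> fin_cases j <;>
          simp [val_upT, val_loT, Matrix.SpecialLinearGroup.coe_mul, Matrix.mul_apply, Fin.sum_univ_two] <;>
            field_simp <;> first | linear_combination hd | linear_combination -hd | ring
      rw [e, map_mul, map_mul, mul_eq_one_iff_eq_inv, ← eq_inv_mul_iff_mul_eq] at hg
      have h1 : ((Ψ (loT (g.1 1 0)) : ↥F) : GL chevG2.Idx K) ∈
          chevG2.borelSubgroup K ⊓ chevG2.negUnipotent K := by
        refine Subgroup.mem_inf.2 ⟨Subgroup.mem_sup_left ?_, hlo _⟩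
        rw [hg, Subgroup.coe_mul, Subgroup.coe_inv, Subgroup.coe_inv]
        exact mul_mem (inv_mem (hpos _)) (inv_mem (hpos _))
      rw [G2.checked.borel_inf_neg, Subgroup.mem_bot] at h1
      exact hc (hloinj _ (Subtype.ext h1))
  have hnot : ∀ g, Ψ g ≠ a := by
    intro g hg
    have hc : Ψ (g * upT 1 * g⁻¹ * upT (-1)) = 1 := by
      rw [map_mul, map_mul, map_mul, map_inv, hg]
      have h := Subgroup.mem_centralizer_singleton_iff.1 (hΨZ (upT 1))
      rw [← h, mul_inv_cancel_right, ← map_mul, upT_add, add_neg_cancel,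
        show upT (0 : K) = 1 from Subtype.ext (by ext i j; fin_cases i <;> fin_cases j <;> simp [val_upT]),
        map_one]
    have h2 : g * upT 1 = upT 1 * g ∨ g * upT 1 = -(upT 1 * g) := by
      have hk : ∀ z, g * upT 1 * g⁻¹ * upT (-1) = z → g * upT 1 = z * (upT 1 * g) := fun z hz => by
        rw [← hz, show upT (-1 : K) = (upT 1)⁻¹ from eq_inv_of_mul_eq_one_left (by
          rw [upT_add, neg_add_cancel]
          ext i j; fin_cases i <;> fin_cases j <;> simp [val_upT])]
        group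
      rcases hker _ hc with h | h
      · exact Or.inl ((hk _ h).trans (one_mul _))
      · exact Or.inr ((hk _ h).trans (neg_one_mul _))
    have hd := det_eq g
    have hc0 : g.1 1 0 = 0 := by
      rcases h2 with h | h
      · have := congrArg (fun x : SL(2, K) => x.1 0 0) h
        simp [val_upT, Matrix.SpecialLinearGroup.coe_mul, Matrix.mul_apply, Fin.sum_univ_two] at this
        exact this
      · have e1 := congrArg (fun x : SL(2, K) => x.1 1 0) h
        simp [val_upT, Matrix.SpecialLinearGroup.coe_mul, Matrix.mul_apply, Fin.sum_univ_two, Matrix.vecMul, dotProduct] at e1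
        linear_combination -e1 + g.1 1 0 * h3
    have hmem : (a : GL chevG2.Idx K) ∈ chevG2.borelSubgroup K := Subgroup.mem_sup_right haH
    have hsq : g.1 0 0 * g.1 0 0 = 1 := by
      have hd' : g.1 0 0 * g.1 1 1 = 1 := by simpa [hc0] using hd
      have e01 : g.1 0 0 = g.1 1 1 ∨ g.1 0 0 = -g.1 1 1 := by
        rcases h2 with h | h <;> have e1 := congrArg (fun x : SL(2, K) => x.1 0 1) h <;>
          have e0 := congrArg (fun x : SL(2, K) => x.1 0 0) h <;>
          simp [val_upT, Matrix.SpecialLinearGroup.coe_mul, Matrix.mul_apply, Fin.sum_univ_two, hc0, Matrix.vecMul, dotProduct] at e0 e1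
        · exact Or.inl (by linear_combination e1)
        · exfalso
          have h00 : g.1 0 0 = 0 := by linear_combination -e0 + g.1 0 0 * h3
          rw [h00, zero_mul] at hd'
          exact zero_ne_one hd'
      rcases e01 with h | h
      · rw [← h] at hd'; exact hd'
      · have : g.1 1 1 * g.1 1 1 = -1 := by rw [h] at hd'; linear_combination -hd'
        have hns : ¬ IsSquare (-1 : K) := by
          rw [FiniteField.isSquare_neg_one_iff, hK, pow_succ, pow_mul, Nat.mul_mod, Nat.pow_mod]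
          norm_num
        exact absurd ⟨g.1 1 1, this.symm⟩ hns
    have : ∃ b, g = upT b ∨ g = -1 * upT b := by
      have hd' : g.1 1 1 = g.1 0 0 := by
        have hd'' : g.1 0 0 * g.1 1 1 = 1 := by simpa [hc0] using hd
        exact mul_left_cancel₀ (left_ne_zero_of_mul_eq_one hd'') (hd''.trans hsq.symm)
      rcases mul_self_eq_one_iff.1 hsq with h | h
      · exact ⟨g.1 0 1, Or.inl (by ext i j; fin_cases i <;> fin_cases j <;> simp [val_upT, hc0, hd', h])⟩
      · exact ⟨-g.1 0 1, Or.inr (by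
          ext i j; fin_cases i <;> fin_cases j <;>
            simp [val_upT, Matrix.SpecialLinearGroup.coe_mul, hc0, hd', h])⟩
    obtain ⟨b, hb | hb⟩ := this <;> subst hb <;>
      (try rw [map_mul, hneg, one_mul] at hg) <;>
      · have h := Subgroup.mem_inf.2 ⟨hg ▸ hpos b, haH⟩
        rw [G2.checked.pos_inf_diag, Subgroup.mem_bot] at h
        exact ha1 (Subtype.ext h)
  -- the torus part
  have htorus : ∀ d : ↥F, (d : GL chevG2.Idx K) ∈ chevG2.diagonalSubgroup K →
      ∃ x, Ψ x = d ∨ Ψ x = a * d := by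
    intro d hd
    set z := ζ ⟨d, Subgroup.mem_inf.2 ⟨hd, d.2⟩⟩ with hzd
    obtain ⟨k, hk⟩ := heven
    set x := z ^ k
    refine ⟨dT (x : K), ?_⟩
    have hxd := hdi x
    set z' := ζ ⟨_, Subgroup.mem_inf.2 ⟨hxd, (Ψ (dT (x : K))).2⟩⟩ with hz'
    have hx2 : dT (x : K) * upT 1 * (dT (x : K))⁻¹ = upT ((x : K) * x) := by
      rw [mul_inv_eq_iff_eq_mul]
      ext i j
      fin_cases i <;> fin_cases j <;>
        simp [val_upT, dT_entries x.ne_zero, Matrix.SpecialLinearGroup.coe_mul, Matrix.mul_apply,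
          Fin.sum_univ_two]
    have h4 := congrArg (fun y => ((Ψ y : ↥F) : GL chevG2.Idx K)) hx2
    simp only [map_mul, map_inv, Subgroup.coe_mul, Subgroup.coe_inv, hup] at h4
    have h5 := hconj ⟨_, Subgroup.mem_inf.2 ⟨hxd, (Ψ (dT (x : K))).2⟩⟩ (0 : K) 1 0
    rw [mul_zero, mul_one, mul_zero] at h5
    have h6 : (x : K) * x = (z' : K) ^ (3 * 3 ^ m + 1) := (reeWord_inj (h4.symm.trans h5)).2.1
    have h7 : ((z' * z⁻¹ : Kˣ) : K) ^ (3 * 3 ^ m + 1) = 1 := by
      rw [Units.val_mul, mul_pow, ← h6, ← Units.val_pow_eq_pow_val, ← Units.val_mul, ← Units.val_mul,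
        show x * x = z ^ (3 * 3 ^ m + 1) by rw [hk, pow_add], inv_pow, mul_inv_cancel, Units.val_one]
    have h8 := units_sq_eq_one hK _ h7
    rcases sq_eq_one_iff.1 (show ((z' * z⁻¹ : Kˣ) : K) ^ 2 = 1 from congrArg Units.val h8) with h9 | h9
    · left
      have h10 : z' = z := mul_inv_eq_one.1 (Units.ext h9)
      exact Subtype.ext (congrArg Subtype.val (hζ.1 h10) :)
    · right
      have h10 : z' = ζ (⟨a, Subgroup.mem_inf.2 ⟨haH, a.2⟩⟩ * ⟨d, Subgroup.mem_inf.2 ⟨hd, d.2⟩⟩) := by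
        rw [map_mul, ← hza, ← hzd, hz, ← mul_inv_eq_iff_eq_mul]
        exact Units.ext (h9.trans (by rw [Units.val_neg, Units.val_one]))
      exact Subtype.ext (congrArg Subtype.val (hζ.1 h10) :)
  -- the part in the unipotent subgroup
  have hU : ∀ v : ↥F, (v : GL chevG2.Idx K) ∈ chevG2.posUnipotent K → v ∈ Z → ∃ x, Ψ x = v := by
    intro v hv hvZ
    obtain ⟨t, u, w, e⟩ := (mem_unip_iff θ hθ hK _).1 (Subgroup.mem_inf.2 ⟨hv, v.2⟩)
    have h : (a : GL chevG2.Idx K) * v * (a : GL chevG2.Idx K)⁻¹ = v := by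
      have h1 := congrArg Subtype.val (Subgroup.mem_centralizer_singleton_iff.1 hvZ)
      rw [Subgroup.coe_mul, Subgroup.coe_mul] at h1
      rw [← h1, mul_inv_cancel_right]
    rw [e, hacoord] at h
    obtain ⟨ht, -, hw⟩ := reeWord_inj h
    have ht' : t = 0 := by linear_combination ht + t * h3
    have hw' : w = 0 := by linear_combination hw + w * h3
    exact ⟨upT u, Subtype.ext (by rw [hup, e, ht', hw'])⟩
  have hborel : ∀ b : ↥F, (b : GL chevG2.Idx K) ∈ chevG2.borelSubgroup K → b ∈ Z →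
      ∃ x, Ψ x = b ∨ Ψ x = a * b := by
    intro b hb hbZ
    obtain ⟨v, hv, hvf, d, hd, hdf, e⟩ := (reeTwist θ).fixed_borel hb b.2
    let v' : ↥F := ⟨v, hvf⟩
    let d' : ↥F := ⟨d, hdf⟩
    have hb' : b = v' * d' := Subtype.ext e
    have hdZ : d' ∈ Z := Subgroup.mem_centralizer_singleton_iff.2
      (Subtype.ext (G2.checked.diag_comm hd haH))
    have hvZ : v' ∈ Z := by
      have := mul_mem hbZ (inv_mem hdZ)
      rwa [hb', mul_inv_cancel_right] at this
    obtain ⟨x1, hx1⟩ := hU v' hv hvZ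
    obtain ⟨x2, hx2 | hx2⟩ := htorus d' hd
    · exact ⟨x1 * x2, Or.inl (by rw [map_mul, hx1, hx2, hb'])⟩
    · refine ⟨x1 * x2, Or.inr ?_⟩
      rw [map_mul, hx1, hx2, hb', ← mul_assoc, ← mul_assoc, Subgroup.mem_centralizer_singleton_iff.1 hvZ]
  let w : ↥F := ⟨wZero K, wZero_mem θ⟩
  have hwdiag : ∀ x : GL chevG2.Idx K, x ∈ chevG2.diagonalSubgroup K →
      (wZero K)⁻¹ * x * wZero K ∈ chevG2.borelSubgroup K := fun x hx => by
    have := G2.checked.mono_conj_diag (inv_mem ((ree_cls θ).wN_mem_monomial (j := 0)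
      (by rw [rank_eq']; omega))) _ hx
    rw [inv_inv] at this
    exact Subgroup.mem_sup_right this
  have hdecomp : ∀ g ∈ Z, (g : GL chevG2.Idx K) ∉ chevG2.borelSubgroup K → ∃ v : ↥F, ∃ b : ↥F,
      (∃ x, Ψ x = v) ∧ (b : GL chevG2.Idx K) ∈ chevG2.borelSubgroup K ∧ g = v * w * b := by
    intro g hgZ hg
    rcases cells θ hθ hK g.2 with h | ⟨v, hv, b, hb, e⟩
    · exact absurd h hg
    obtain ⟨hv1, hv2⟩ := Subgroup.mem_inf.1 hv
    obtain ⟨hb1, hb2⟩ := Subgroup.mem_inf.1 hb
    refine ⟨⟨v, hv2⟩, ⟨b, hb2⟩, hU _ hv1 ?_, hb1, Subtype.ext e⟩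
    set A := (a : GL chevG2.Idx K)
    have hA : A * g = g * A := (congrArg Subtype.val (Subgroup.mem_centralizer_singleton_iff.1 hgZ)).symm
    have hv3 : v⁻¹ * (A * v * A⁻¹) ∈ chevG2.posUnipotent K :=
      mul_mem (inv_mem hv1) (G2.checked.diag_normalizes_pos haH hv1)
    have hkey : (wZero K)⁻¹ * (v⁻¹ * (A * v * A⁻¹)) * wZero K ∈ chevG2.borelSubgroup K := by
      rw [e] at hA
      have e2 : (wZero K)⁻¹ * (v⁻¹ * (A * v * A⁻¹)) * wZero K =
          b * A * b⁻¹ * ((wZero K)⁻¹ * A⁻¹ * wZero K) := by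
        calc _ = (wZero K)⁻¹ * v⁻¹ * (A * (v * wZero K * b)) * b⁻¹ * ((wZero K)⁻¹ * A⁻¹ * wZero K) := by
              group
          _ = _ := by rw [hA]; group
      rw [e2]
      exact mul_mem (mul_mem (mul_mem hb1 (Subgroup.mem_sup_right haH)) (inv_mem hb1))
        (hwdiag _ (inv_mem haH))
    have hd := borel_inter θ hθ hK (h := v⁻¹ * (A * v * A⁻¹))
      (mul_mem (inv_mem hv2) (mul_mem (mul_mem a.2 hv2) (inv_mem a.2))) (Subgroup.mem_sup_left hv3) hkey
    have h0 := Subgroup.mem_inf.2 ⟨hv3, hd⟩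
    rw [G2.checked.pos_inf_diag, Subgroup.mem_bot, inv_mul_eq_one, eq_mul_inv_iff_mul_eq] at h0
    exact Subgroup.mem_centralizer_singleton_iff.2 (Subtype.ext h0)
  have hn0 : ((Ψ wT : ↥F) : GL chevG2.Idx K) ∉ chevG2.borelSubgroup K := by
    intro h
    have e : (wT : SL(2, K)) * upT 1 * wT⁻¹ = loT (-1) := by
      rw [mul_inv_eq_iff_eq_mul]
      ext i j
      fin_cases i <;> fin_cases j <;>
        simp [val_upT, val_loT, val_wT, Matrix.SpecialLinearGroup.coe_mul, Matrix.mul_apply, Fin.sum_univ_two]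
    have h1 : ((Ψ (loT (-1)) : ↥F) : GL chevG2.Idx K) ∈
        chevG2.borelSubgroup K ⊓ chevG2.negUnipotent K := by
      refine Subgroup.mem_inf.2 ⟨?_, hlo _⟩
      rw [← e, map_mul, map_mul, map_inv]
      exact mul_mem (mul_mem h (Subgroup.mem_sup_left (hpos 1))) (inv_mem h)
    rw [G2.checked.borel_inf_neg, Subgroup.mem_bot] at h1
    exact one_ne_zero (neg_eq_zero.1 (hloinj _ (Subtype.ext h1)))
  have hsurj : ∀ g ∈ Z, ∃ x, Ψ x = g ∨ Ψ x = a * g := by
    intro g hg
    by_cases hgb : (g : GL chevG2.Idx K) ∈ chevG2.borelSubgroup K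
    · exact hborel g hgb hg
    obtain ⟨v, b, ⟨xv, hxv⟩, hb, eg⟩ := hdecomp g hg hgb
    obtain ⟨v₀, b₀, ⟨x₀, hx₀⟩, hb₀, e₀⟩ := hdecomp _ (hΨZ wT) hn0
    have hq : b₀⁻¹ * b = (Ψ wT)⁻¹ * v₀ * v⁻¹ * g := by rw [eg, e₀]; group
    have hqZ : b₀⁻¹ * b ∈ Z := by
      rw [hq]
      exact mul_mem (mul_mem (mul_mem (inv_mem (hΨZ _)) (hx₀ ▸ hΨZ _)) (inv_mem (hxv ▸ hΨZ _))) hg
    have hg' : g = Ψ xv * (Ψ x₀)⁻¹ * Ψ wT * (b₀⁻¹ * b) := by rw [hxv, hx₀, eg, e₀]; group
    obtain ⟨x, hx⟩ := hborel _ (by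
      rw [Subgroup.coe_mul, Subgroup.coe_inv]; exact mul_mem (inv_mem hb₀) hb) hqZ
    refine ⟨xv * x₀⁻¹ * wT * x, ?_⟩
    rcases hx with hx | hx
    · left; rw [map_mul, map_mul, map_mul, map_inv, hx, ← hg']
    · right
      have hc : a * (Ψ xv * (Ψ x₀)⁻¹ * Ψ wT) = Ψ xv * (Ψ x₀)⁻¹ * Ψ wT * a :=
        (Subgroup.mem_centralizer_singleton_iff.1
          (mul_mem (mul_mem (hΨZ _) (inv_mem (hΨZ _))) (hΨZ _))).symm
      rw [map_mul, map_mul, map_mul, map_inv, hx, hg', ← mul_assoc a (Ψ xv * (Ψ x₀)⁻¹ * Ψ wT), hc]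
      simp only [mul_assoc]
  -- assemble
  let Ψ' : SL(2, K) →* Z := Ψ.codRestrict Z hΨZ
  have hcenter : Subgroup.center SL(2, K) = Ψ'.ker := by
    ext g
    rw [MonoidHom.mem_ker, Matrix.SpecialLinearGroup.mem_center_iff]
    constructor
    · rintro ⟨r, hr, hg⟩
      rw [Fintype.card_fin] at hr
      rcases sq_eq_one_iff.1 hr with rfl | rfl
      · rw [show g = 1 from Subtype.ext (by rw [← hg]; simp)]; exact map_one _
      · rw [show g = -1 from Subtype.ext (by rw [← hg]; ext i j; fin_cases i <;> fin_cases j <;> simp)]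
        exact Subtype.ext hneg
    · intro h
      rcases hker g (congrArg Subtype.val h) with rfl | rfl
      · exact ⟨1, one_pow _, by simp⟩
      · exact ⟨-1, by simp, by ext i j; fin_cases i <;> fin_cases j <;> simp⟩
  let Φ : Matrix.ProjectiveSpecialLinearGroup (Fin 2) K →* Z :=
    QuotientGroup.lift _ Ψ' hcenter.le
  have hΦinj : Function.Injective Φ := by
    refine (injective_iff_map_eq_one Φ).2 fun q hq => ?_
    obtain ⟨g, rfl⟩ := QuotientGroup.mk_surjective q
    exact (QuotientGroup.eq_one_iff g).2 (hcenter ▸ hq)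
  let a' : Z := ⟨a, haZ⟩
  have ha'2 : a' ^ 2 = 1 := Subtype.ext (by rw [sq]; exact ha2)
  have htwo := (by decide : ∀ n : Multiplicative (ZMod 2), n = 1 ∨ n = Multiplicative.ofAdd 1)
  have hone : (Multiplicative.ofAdd (1 : ZMod 2)) ≠ 1 := by decide
  have hsq2 : Multiplicative.ofAdd (1 : ZMod 2) * Multiplicative.ofAdd 1 = 1 := by decide
  let ι : Multiplicative (ZMod 2) →* Z := MonoidHom.mk' (fun n => if n = 1 then 1 else a') fun x y => by
    rcases htwo x with rfl | rfl <;> rcases htwo y with rfl | rfl <;> simp [hone, hsq2, ← sq, ha'2]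
  have hι1 : ι (Multiplicative.ofAdd 1) = a' := if_neg (t := (1 : Z)) hone
  have hcommι : ∀ n q, Commute (ι n) (Φ q) := by
    intro n q
    have : n = 1 ∨ n = Multiplicative.ofAdd 1 := (by decide : ∀ n : Multiplicative (ZMod 2),
      n = 1 ∨ n = Multiplicative.ofAdd 1) n
    rcases this with rfl | rfl
    · rw [map_one]; exact Commute.one_left _
    · rw [hι1]
      exact Subtype.ext (Subgroup.mem_centralizer_singleton_iff.1 (Φ q).2).symm
  let E : Multiplicative (ZMod 2) × Matrix.ProjectiveSpecialLinearGroup (Fin 2) K →* Z :=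
    MonoidHom.noncommCoprod ι Φ hcommι
  have hEbij : Function.Bijective E := by
    constructor
    · refine (injective_iff_map_eq_one E).2 fun p hp => ?_
      obtain ⟨n, q⟩ := p
      change ι n * Φ q = 1 at hp
      rcases (by decide : ∀ n : Multiplicative (ZMod 2), n = 1 ∨ n = Multiplicative.ofAdd 1) n with rfl | rfl
      · rw [map_one, one_mul] at hp
        rw [hΦinj (hp.trans (map_one Φ).symm)]
        rfl
      · exfalso
        rw [hι1, mul_eq_one_iff_eq_inv, ← map_inv] at hp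
        obtain ⟨g, hg⟩ := QuotientGroup.mk_surjective q⁻¹
        rw [← hg] at hp
        exact hnot g (congrArg Subtype.val hp).symm
    · rintro ⟨g, hg⟩
      obtain ⟨x, hx | hx⟩ := hsurj g hg
      · exact ⟨(1, QuotientGroup.mk x), Subtype.ext (by
          show ((ι 1 * Φ _ : Z) : ↥F) = g
          rw [map_one, one_mul]; exact hx)⟩
      · refine ⟨(Multiplicative.ofAdd 1, QuotientGroup.mk x), Subtype.ext ?_⟩
        show ((ι _ * Φ _ : Z) : ↥F) = g
        rw [hι1]
        show a * Ψ x = g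
        rw [hx, ← mul_assoc, ha2, one_mul]
  refine ⟨(MulEquiv.ofBijective E hEbij).symm, ?_⟩
  rw [MulEquiv.symm_apply_eq]
  show a' = ι (Multiplicative.ofAdd 1) * Φ 1
  rw [map_one Φ, mul_one, hι1]

end Cfsg.Agent.Lib.Chev.G2
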