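import Cfsg.Agent.Lib.Chev.TwistG2ReeGroup

/-!
The structure of the Borel subgroup of the twisted group of type `G₂`: torus action, third powers,
Bruhat cells, point stabilisers.
-/

set_option autoImplicit false

namespace Cfsg.Agent.Lib.Chev.G2

open Cfsg.Lie Cfsg.Agent.Lib Cfsg.Agent.Lib.Chev
open scoped Pointwise

variable {K : Type*} [Field K] [Fintype K] [CharP K 3] (θ : K ≃+* K) {m : ℕ}
  (hθ : ∀ t : K, θ t = t ^ 3 ^ m) (hK : Fintype.card K = 3 ^ (2 * m + 1))

local notation "X" => Checked.xg G2.checked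

/-- An element in the six coordinates. -/
noncomputable def six (s t x y u v : K) : GL chevG2.Idx K :=
  X 7 s * (X 6 t * (X 8 x * (X 9 y * (X 10 u * X 11 v))))

omit θ in
theorem reeWord_eq_six (e : ℕ) (t u v : K) :
    G2.checked.wg (reeWordU e t u v) =
      six (t ^ e) t (t ^ (e + 1) + u ^ e) (t ^ (2 * e + 1) + v ^ e) u v := by
  rw [show reeWordU e t u v = [7, 6, 8, 9, 10, 11].zip [t ^ e, t,
    t ^ (e + 1) + u ^ e, t ^ (2 * e + 1) + v ^ e, u, v] from rfl, wg_six]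
  rfl

omit θ in
theorem six_inj {s t x y u v s' t' x' y' u' v' : K} (h : six s t x y u v = six s' t' x' y' u' v') :
    s = s' ∧ t = t' ∧ x = x' ∧ y = y' ∧ u = u' ∧ v = v' := by
  unfold six at h
  rw [← wg_six, ← wg_six] at h
  simpa using G2.checked.zip_inj (l := [7, 6, 8, 9, 10, 11]) (ts := [s, t, x, y, u, v])
    (us := [s', t', x', y', u', v']) tails_pos6 rfl rfl h

omit [Fintype K] θ in
theorem comm_seven_eight (s x : K) : X 8 x * X 7 s = X 7 s * (X 8 x * X 9 (-(s * x))) := by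
  have h : G2.fast.commT 7 8 = [(9, -2, 1, 1), (10, -3, 2, 1), (11, 3, 1, 2)] := by decide +kernel
  rw [G2.checked.comm (lt12 (r := 7) (by omega)) (lt12 (r := 8) (by omega)) (by omega)
    (by rw [G2.checked.tables.neg 7 (lt12 (by omega))]; decide +kernel) s x,
    ChevalleyDatum.commWord, ← G2.checked.commT_eq (lt12 (by omega)) (lt12 (by omega)), h]
  have h3 : (3 : K) = 0 := CharP.ofNat_eq_zero K 3
  have h2 : (2 : K) = -1 := by linear_combination h3
  simp [G2.checked.wg_cons, G2.checked.wg_nil, h3, h2, G2.checked.xg_zero, mul_assoc]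

omit [Fintype K] [CharP K 3] θ in
theorem comm_six_ten (t u : K) : X 10 u * X 6 t = X 6 t * (X 10 u * X 11 (-(t * u))) := by
  have h : G2.fast.commT 6 10 = [(11, 1, 1, 1)] := by decide +kernel
  rw [G2.checked.comm (lt12 (r := 6) (by omega)) (lt12 (r := 10) (by omega)) (by omega)
    (by rw [G2.checked.tables.neg 6 (lt12 (by omega))]; decide +kernel) t u,
    ChevalleyDatum.commWord, ← G2.checked.commT_eq (lt12 (by omega)) (lt12 (by omega)), h]
  simp [G2.checked.wg_cons, G2.checked.wg_nil, mul_assoc]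

omit [Fintype K] θ in
/-- The product in the six coordinates. -/
theorem six_mul (s t x y u v s' t' x' y' u' v' : K) :
    six s t x y u v * six s' t' x' y' u' v' =
      six (s + s') (t + t') (s' * t + x + x') (s' ^ 2 * t + (y - s' * x) + y')
        (-(s' ^ 3 * t) + u + u') (-(s' ^ 3 * t ^ 2) + v - t' * (-(s' ^ 3 * t) + u) + v') := by
  have hd : ∀ {r r' : ℕ}, commZero r r' = true → ∀ (a b : K) (z : GL chevG2.Idx K),
      X r' b * (X r a * z) = X r a * (X r' b * z) := fun h a b z => by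
    rw [← mul_assoc, comm_zero h, mul_assoc]
  have m : ∀ r, r < 12 → ∀ (a b : K) (z : GL chevG2.Idx K),
      X r a * (X r b * z) = X r (a + b) * z := fun r hr a b z => by
    rw [← mul_assoc, G2.checked.xg_add (lt12 hr)]
  have c78 : ∀ (a b : K) (z : GL chevG2.Idx K),
      X 8 b * (X 7 a * z) = X 7 a * (X 8 b * (X 9 (-(a * b)) * z)) := fun a b z => by
    rw [← mul_assoc, comm_seven_eight]; simp only [mul_assoc]
  have c610 : ∀ (a b : K) (z : GL chevG2.Idx K),
      X 10 b * (X 6 a * z) = X 6 a * (X 10 b * (X 11 (-(a * b)) * z)) := fun a b z => by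
    rw [← mul_assoc, comm_six_ten]; simp only [mul_assoc]
  have c76 : ∀ (a b : K) (z : GL chevG2.Idx K),
      X 6 b * (X 7 a * z) = X 7 a * (X 6 b * (X 8 (a * b) * (X 9 (a ^ 2 * b) *
        (X 10 (-(a ^ 3 * b)) * (X 11 (-(a ^ 3 * b ^ 2)) * z))))) := fun a b z => by
    rw [← mul_assoc, comm_four (ε := 1) (by omega) (by omega) (by omega) (by decide +kernel) commT_pos]
    simp only [Int.cast_one, one_mul, mul_assoc]
  have z7_11 : commZero 7 11 = true := by decide +kernel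
  have z7_10 : commZero 7 10 = true := by decide +kernel
  have z7_9 : commZero 7 9 = true := by decide +kernel
  have z6_11 : commZero 6 11 = true := by decide +kernel
  have z6_9 : commZero 6 9 = true := by decide +kernel
  have z6_8 : commZero 6 8 = true := by decide +kernel
  have z8_9 : commZero 8 9 = true := by decide +kernel
  have z8_10 : commZero 8 10 = true := by decide +kernel
  have z8_11 : commZero 8 11 = true := by decide +kernel
  have z9_10 : commZero 9 10 = true := by decide +kernel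
  have z9_11 : commZero 9 11 = true := by decide +kernel
  have z10_11 : commZero 10 11 = true := by decide +kernel
  unfold six
  rw [← mul_one (X 11 v')]
  simp only [mul_assoc]
  rw [hd z7_11 s' v, hd z7_10 s' u, hd z7_9 s' y, c78 s' x, c76 s' t, m 7 (by omega) s s']
  rw [hd z6_11 t' v, c610 t' u, hd z6_9 t' y, hd z6_9 t' (-(s' * x)), hd z6_8 t' x,
    hd z6_11 t' (-(s' ^ 3 * t ^ 2)), c610 t' (-(s' ^ 3 * t)), hd z6_9 t' (s' ^ 2 * t),
    hd z6_8 t' (s' * t), m 6 (by omega) t t']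
  simp only [hd z8_9, hd z8_10, hd z8_11, hd z9_10, hd z9_11, hd z10_11, m 8 (by omega),
    m 9 (by omega), m 10 (by omega), m 11 (by omega)]
  simp only [mul_one]
  congr 2
  congr 1
  · congr 1
    ring
  congr 1
  · congr 1
    ring
  congr 1
  · congr 1
    ring
  · congr 1
    ring

omit [Fintype K] θ in
/-- The third power. -/
theorem six_cube (s t x y u v : K) :
    six s t x y u v ^ 3 = six 0 0 0 (-(s ^ 2 * t)) 0 (-(s ^ 3 * t ^ 2)) := by
  have h3 : (3 : K) = 0 := CharP.ofNat_eq_zero K 3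
  rw [pow_succ, pow_two, six_mul, six_mul]
  congr 1
  · linear_combination s * h3
  · linear_combination t * h3
  · linear_combination (s * t + x) * h3
  · linear_combination (s ^ 2 * t - s * x + y + 0) * h3
  · linear_combination (-(s ^ 3 * t) + u) * h3
  · linear_combination (v - t * u + 0) * h3

include hθ hK

theorem mem_unip_iff (g : GL chevG2.Idx K) :
    g ∈ chevG2.posUnipotent K ⊓ (reeTwist θ).fixed ↔
      ∃ t u v : K, g = G2.checked.wg (reeWordU (3 ^ m) t u v) := by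
  rw [posUnipotent_eq, pos_eq]
  exact fixed_six_iff θ hθ (hper' hK) g

omit hθ hK [Fintype K] θ in
theorem reeWord_inj [Finite K] {e : ℕ} {t u v t' u' v' : K}
    (h : G2.checked.wg (reeWordU e t u v) = G2.checked.wg (reeWordU e t' u' v')) :
    t = t' ∧ u = u' ∧ v = v' := by
  have := G2.checked.zip_inj (l := [7, 6, 8, 9, 10, 11]) (ts := [t ^ e, t,
    t ^ (e + 1) + u ^ e, t ^ (2 * e + 1) + v ^ e, u, v]) (us := [t' ^ e, t',
    t' ^ (e + 1) + u' ^ e, t' ^ (2 * e + 1) + v' ^ e, u', v']) tails_pos6 rfl rfl h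
  simp only [List.cons.injEq, and_true] at this
  exact ⟨this.2.1, this.2.2.2.2.1, this.2.2.2.2.2⟩

omit hθ hK [Fintype K] θ in
theorem reeWord_zero [Finite K] {e : ℕ} (he : e ≠ 0) :
    G2.checked.wg (reeWordU e (0 : K) 0 0) = 1 := by
  simp [reeWordU, g2a, g2b, g2ab, g2aab, g2aaab, g2aaabb, G2.checked.wg_cons, G2.checked.wg_nil,
    he, G2.checked.xg_zero]

omit hθ [CharP K 3] θ in
theorem pow_q (z : K) : z ^ (3 ^ m * (3 * 3 ^ m)) = z := hper' hK z

/-- The torus is the multiplicative group of the field, with its action on the unipotent elements. -/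
theorem exists_torusHom :
    ∃ φ : ↥(chevG2.diagonalSubgroup K ⊓ (reeTwist θ).fixed) →* Kˣ, Function.Bijective φ ∧
      ∀ (h : ↥(chevG2.diagonalSubgroup K ⊓ (reeTwist θ).fixed)) (t u v : K),
        (h : GL chevG2.Idx K) * G2.checked.wg (reeWordU (3 ^ m) t u v) * (h : GL chevG2.Idx K)⁻¹ =
          G2.checked.wg (reeWordU (3 ^ m) ((φ h : K) * t) ((φ h : K) ^ (3 * 3 ^ m + 1) * u)
            ((φ h : K) ^ (3 * 3 ^ m + 2) * v)) := by
  classical
  set H := chevG2.diagonalSubgroup K ⊓ (reeTwist θ).fixed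
  have hex := fun h : ↥H => G2.checked.exists_chr (Subgroup.mem_inf.1 h.2).1
  choose χ hχ he using hex
  have r0 : 0 < chevG2.rank := by rw [rank_eq']; omega
  have r1 : 1 < chevG2.rank := by rw [rank_eq']; omega
  have s0 : chevG2.simple 0 = 7 := by rw [G2.checked.tables.simple 0 r0]; decide +kernel
  have s1 : chevG2.simple 1 = 6 := by rw [G2.checked.tables.simple 1 r1]; decide +kernel
  have c7 : ∀ h, χ h 7 = χ h 6 ^ 3 ^ m := fun h => by
    have hc := ((reeTwist θ).diag_fixed_iff (fun _ => rfl) (Subgroup.mem_inf.1 h.2).1 (hχ h) (he h)).1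
      (Subgroup.mem_inf.1 h.2).2 1 r1
    rwa [show (reeTwist θ).p 1 = 0 from rfl, s0, s1, show (reeTwist θ).f 6 (χ h 6) =
      θ (χ h 6) ^ G2.iso.lam 6 from G2.isoData.fRoot_apply θ _ _, show G2.iso.lam 6 = 1 from rfl,
      pow_one, hθ] at hc
  let φ : ↥H →* Kˣ :=
    { toFun := fun h => Units.mk0 (χ h 6) ((hχ h).ne 6 (lt12 (by omega)))
      map_one' := Units.ext (dg_inj (show dg chevG2 (χ 1) = dg chevG2 (fun _ => (1 : K)) by
        rw [← he 1, dg_one]; rfl) 6 (lt12 (by omega)))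
      map_mul' := fun a b => Units.ext (dg_inj (show dg chevG2 (χ (a * b)) =
          dg chevG2 (fun r => χ a r * χ b r) by
        rw [← he, ← dg_mul, ← he, ← he]; rfl) 6 (lt12 (by omega))) }
  have hinj : Function.Injective φ := fun a b h => by
    have h6 : χ a 6 = χ b 6 := congrArg Units.val h
    refine Subtype.ext (G2.checked.diag_eq_of_simple (Subgroup.mem_inf.1 a.2).1
      (Subgroup.mem_inf.1 b.2).1 (hχ a) (hχ b) (he a) (he b) fun j hj => ?_)
    have hj' : j < 2 := rank_eq' ▸ hj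
    interval_cases j
    · rw [s0, c7, c7, h6]
    · rw [s1, h6]
  refine ⟨φ, (Nat.bijective_iff_injective_and_card φ).2 ⟨hinj, ?_⟩, fun h t u v => ?_⟩
  · rw [card_diag_fixed θ hθ hK, Nat.card_eq_fintype_card, Fintype.card_units]
  set z := χ h 6 with hz
  show (h : GL chevG2.Idx K) * _ * _ = G2.checked.wg (reeWordU (3 ^ m) (z * t) (z ^ (3 * 3 ^ m + 1) * u) (z ^ (3 * 3 ^ m + 2) * v))
  have v7 : χ h 7 = z ^ 3 ^ m := c7 h
  have v8 : χ h 8 = z ^ (3 ^ m + 1) := by
    rw [G2.checked.chr_chain (hχ h) (r := 7) (s := 6) (k := 0) (m := -1) (lt12 (by omega))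
      (lt12 (by omega)) (by decide +kernel), v7, zero_add, pow_one, pow_succ]
  have v9 : χ h 9 = z ^ (2 * 3 ^ m + 1) := by
    rw [G2.checked.chr_chain (hχ h) (r := 7) (s := 6) (k := 1) (m := 1) (lt12 (by omega))
      (lt12 (by omega)) (by decide +kernel), v7, ← pow_mul, ← pow_succ]
    ring_nf
  have v10 : χ h 10 = z ^ (3 * 3 ^ m + 1) := by
    rw [G2.checked.chr_chain (hχ h) (r := 7) (s := 6) (k := 2) (m := 1) (lt12 (by omega))
      (lt12 (by omega)) (by decide +kernel), v7, ← pow_mul, ← pow_succ]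
    ring_nf
  have v11 : χ h 11 = z ^ (3 * 3 ^ m + 2) := by
    rw [G2.checked.chr_chain (hχ h) (r := 6) (s := 10) (k := 0) (m := 1) (lt12 (by omega))
      (lt12 (by omega)) (by decide +kernel), v10, zero_add, pow_one, ← pow_succ']
  have cj := fun {r : ℕ} (hr : r < 12) (x : K) => G2.checked.conj_xg_of_dg (hχ h) (he h) (lt12 hr) x
  rw [reeWord_eq_six, reeWord_eq_six]
  unfold six
  simp only [← conj_mul, cj (r := 7) (by omega), cj (r := 6) (by omega), cj (r := 8) (by omega),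
    cj (r := 9) (by omega), cj (r := 10) (by omega), cj (r := 11) (by omega), v7, v8, v9, v10, v11]
  have e1 : (z ^ (3 * 3 ^ m + 1)) ^ 3 ^ m = z ^ (3 ^ m + 1) := by
    rw [← pow_mul, show (3 * 3 ^ m + 1) * 3 ^ m = 3 ^ m * (3 * 3 ^ m) + 3 ^ m by ring, pow_add,
      pow_q hK, pow_succ']
  have e2 : (z ^ (3 * 3 ^ m + 2)) ^ 3 ^ m = z ^ (2 * 3 ^ m + 1) := by
    rw [← pow_mul, show (3 * 3 ^ m + 2) * 3 ^ m = 3 ^ m * (3 * 3 ^ m) + 2 * 3 ^ m by ring, pow_add,
      pow_q hK, pow_succ']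
  congr 1
  · congr 1
    rw [mul_pow]
  congr 1
  congr 1
  · congr 1
    rw [mul_pow, mul_pow, e1]; ring
  congr 1
  · congr 1
    rw [mul_pow, mul_pow, e2]; ring

omit hθ θ in
theorem units_eq_one (z : Kˣ) (h : (z : K) ^ (3 * 3 ^ m + 2) = 1) : z = 1 := by
  refine Units.ext ?_
  have h1 : ((z : K) ^ (3 ^ m * (3 * 3 ^ m) - 1)) = 1 := by
    rw [show 3 ^ m * (3 * 3 ^ m) = Fintype.card K by rw [hK, pow_succ, two_mul m, pow_add]; ring]
    exact FiniteField.pow_card_sub_one_eq_one _ z.ne_zero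
  have he : 1 ≤ 3 ^ m := Nat.one_le_pow _ _ (by norm_num)
  have key : 3 * (3 ^ m * (3 * 3 ^ m) - 1) = (3 * 3 ^ m + 2) * (3 * 3 ^ m - 2) + 1 := by
    generalize 3 ^ m = e at he ⊢
    obtain ⟨k, rfl⟩ : ∃ k, e = k + 1 := ⟨e - 1, by omega⟩
    rw [show 3 * (k + 1) - 2 = 3 * k + 1 by omega,
      show (k + 1) * (3 * (k + 1)) - 1 = 3 * k * k + 6 * k + 2 by
        rw [show (k + 1) * (3 * (k + 1)) = 3 * k * k + 6 * k + 3 by ring]; omega]
    ring
  have h2 : (z : K) ^ ((3 * 3 ^ m + 2) * (3 * 3 ^ m - 2) + 1) = 1 := by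
    rw [← key, mul_comm, pow_mul, h1, one_pow]
  rw [pow_succ, pow_mul, h, one_pow, one_mul] at h2
  rw [Units.val_one, h2]

omit hθ θ in
theorem units_sq_eq_one (z : Kˣ) (h : (z : K) ^ (3 * 3 ^ m + 1) = 1) : z ^ 2 = 1 := by
  refine Units.ext ?_
  have h1 : ((z : K) ^ (3 ^ m * (3 * 3 ^ m) - 1)) = 1 := by
    rw [show 3 ^ m * (3 * 3 ^ m) = Fintype.card K by rw [hK, pow_succ, two_mul m, pow_add]; ring]
    exact FiniteField.pow_card_sub_one_eq_one _ z.ne_zero
  have he : 1 ≤ 3 ^ m := Nat.one_le_pow _ _ (by norm_num)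
  have key : 3 * (3 ^ m * (3 * 3 ^ m) - 1) + 2 = (3 * 3 ^ m + 1) * (3 * 3 ^ m - 1) := by
    generalize 3 ^ m = e at he ⊢
    obtain ⟨k, rfl⟩ : ∃ k, e = k + 1 := ⟨e - 1, by omega⟩
    rw [show 3 * (k + 1) - 1 = 3 * k + 2 by omega,
      show (k + 1) * (3 * (k + 1)) - 1 = 3 * k * k + 6 * k + 2 by
        rw [show (k + 1) * (3 * (k + 1)) = 3 * k * k + 6 * k + 3 by ring]; omega]
    ring
  have h2 : (z : K) ^ (3 * (3 ^ m * (3 * 3 ^ m) - 1) + 2) = 1 := by
    rw [key, pow_mul, h, one_pow]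
  rw [pow_add, mul_comm 3 (3 ^ m * (3 * 3 ^ m) - 1), pow_mul, h1, one_pow, one_mul] at h2
  rw [Units.val_pow_eq_pow_val, Units.val_one, h2]

theorem torus_cyclic : IsCyclic ↥(chevG2.diagonalSubgroup K ⊓ (reeTwist θ).fixed) := by
  obtain ⟨φ, hφ, -⟩ := exists_torusHom θ hθ hK
  exact isCyclic_of_injective φ hφ.1

theorem card_torus_odd :
    2 * Nat.card {h : ↥(chevG2.diagonalSubgroup K ⊓ (reeTwist θ).fixed) // Odd (orderOf h)} =
      3 ^ (2 * m + 1) - 1 := by
  classical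
  haveI := torus_cyclic θ hθ hK
  obtain ⟨k, hk, hq⟩ := card_odd (K := K) (m := m) hK
  have hc : Nat.card ↥(chevG2.diagonalSubgroup K ⊓ (reeTwist θ).fixed) = 2 * k := by
    rw [card_diag_fixed θ hθ hK, hq, Nat.add_sub_cancel]
  set H := chevG2.diagonalSubgroup K ⊓ (reeTwist θ).fixed
  letI : CommGroup ↥H := IsCyclic.commGroup
  have e : {h : ↥H // Odd (orderOf h)} ≃ ↥(powMonoidHom k : ↥H →* ↥H).ker := by
    refine Equiv.subtypeEquivRight fun h => ?_
    have hd := orderOf_dvd_natCard h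
    rw [hc] at hd
    rw [MonoidHom.mem_ker, powMonoidHom_apply, ← orderOf_dvd_iff_pow_eq_one]
    exact ⟨fun ho => (Nat.coprime_two_right.2 ho).dvd_of_dvd_mul_left hd, fun h' => hk.of_dvd_nat h'⟩
  rw [Nat.card_congr e, IsCyclic.card_powMonoidHom_ker, hc, Nat.gcd_eq_right (dvd_mul_left k 2),
    ← hK, hq, Nat.add_sub_cancel]

/-- The elements of the torus commuting with a non-identity unipotent element square to one. -/
theorem sq_eq_one_of_comm {h u : GL chevG2.Idx K}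
    (hh : h ∈ chevG2.diagonalSubgroup K ⊓ (reeTwist θ).fixed)
    (hu : u ∈ chevG2.posUnipotent K ⊓ (reeTwist θ).fixed) (hne : u ≠ 1) (hc : h * u = u * h) :
    h * h = 1 := by
  obtain ⟨φ, hφ, hconj⟩ := exists_torusHom θ hθ hK
  obtain ⟨t, a, b, rfl⟩ := (mem_unip_iff θ hθ hK u).1 hu
  have h1 := hconj ⟨h, hh⟩ t a b
  simp only [hc, mul_inv_cancel_right] at h1
  obtain ⟨et, ea, eb⟩ := reeWord_inj h1
  set z := φ ⟨h, hh⟩
  have hz : z ^ 2 = 1 := by
    by_cases ht : t = 0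
    · by_cases ha : a = 0
      · have hb : b ≠ 0 := fun hb => hne (by rw [ht, ha, hb]; exact reeWord_zero (by positivity))
        rw [units_eq_one hK z ((mul_eq_right₀ hb).1 eb.symm), one_pow]
      · exact units_sq_eq_one hK z ((mul_eq_right₀ ha).1 ea.symm)
    · rw [show z = 1 from Units.ext ((mul_eq_right₀ ht).1 et.symm), one_pow]
  have h2 : (⟨h, hh⟩ * ⟨h, hh⟩ : ↥(chevG2.diagonalSubgroup K ⊓ (reeTwist θ).fixed)) = 1 :=
    hφ.1 (by rw [map_mul, map_one, ← sq]; exact hz)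
  exact congrArg Subtype.val h2

theorem torus_odd_fpf {h : GL chevG2.Idx K}
    (hh : h ∈ chevG2.diagonalSubgroup K ⊓ (reeTwist θ).fixed) (h1 : h ≠ 1) (ho : Odd (orderOf h)) :
    (chevG2.posUnipotent K ⊓ (reeTwist θ).fixed) ⊓ Subgroup.centralizer {h} = ⊥ := by
  rw [eq_bot_iff]
  intro u hu
  obtain ⟨hu1, hu2⟩ := Subgroup.mem_inf.1 hu
  rw [Subgroup.mem_bot]
  by_contra hne
  have hs := sq_eq_one_of_comm θ hθ hK hh hu1 hne (Subgroup.mem_centralizer_singleton_iff.1 hu2).symm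
  have hd := orderOf_dvd_of_pow_eq_one (x := h) (n := 2) (by rw [sq]; exact hs)
  exact h1 (orderOf_eq_one_iff.1
    (Nat.dvd_one.1 ((Nat.coprime_two_right.2 ho).dvd_of_dvd_mul_right (by rwa [one_mul]))))

omit hθ hK [Fintype K] [CharP K 3] in
theorem zero_pow_three_pow : ((0 : K) ^ 3 ^ m) = 0 := zero_pow (by positivity)

/-- The elements of order three of the unipotent subgroup. -/
theorem card_order_three :
    Nat.card {u : ↥(chevG2.posUnipotent K ⊓ (reeTwist θ).fixed) // orderOf u = 3} =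
      (3 ^ (2 * m + 1)) ^ 2 - 1 := by
  classical
  have h0 := zero_pow_three_pow (K := K) (m := m)
  have hcube : ∀ t a b : K, G2.checked.wg (reeWordU (3 ^ m) t a b) ^ 3 = 1 ↔ t = 0 := by
    intro t a b
    rw [← reeWord_zero (K := K) (e := 3 ^ m) (by positivity), reeWord_eq_six, reeWord_eq_six, six_cube]
    constructor
    · intro h
      have h9 := (six_inj h).2.2.2.1
      rw [h0, zero_pow (by omega : 2 * 3 ^ m + 1 ≠ 0), add_zero, neg_eq_zero, mul_eq_zero] at h9
      rcases h9 with h9 | h9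
      · exact eq_zero_of_pow_eq_zero (eq_zero_of_pow_eq_zero h9)
      · exact h9
    · rintro rfl
      simp
  have hmem : ∀ p : K × K, G2.checked.wg (reeWordU (3 ^ m) 0 p.1 p.2) ∈
      chevG2.posUnipotent K ⊓ (reeTwist θ).fixed := fun p =>
    (mem_unip_iff θ hθ hK _).2 ⟨0, p.1, p.2, rfl⟩
  set U := chevG2.posUnipotent K ⊓ (reeTwist θ).fixed
  let f : {p : K × K // p ≠ 0} → {u : ↥U // orderOf u = 3} := fun p =>
    ⟨⟨_, hmem p.1⟩, orderOf_eq_prime (Subtype.ext ((hcube _ _ _).2 rfl)) fun h => p.2 (by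
      have h' := congrArg Subtype.val h
      simp only [Subgroup.coe_one] at h'
      rw [← reeWord_zero (K := K) (e := 3 ^ m) (by positivity)] at h'
      obtain ⟨-, e1, e2⟩ := reeWord_inj h'
      exact Prod.ext e1 e2)⟩
  have hf : Function.Bijective f := by
    constructor
    · intro p p' h
      obtain ⟨-, e1, e2⟩ := reeWord_inj (congrArg (fun x => (x.1 : GL chevG2.Idx K)) h)
      exact Subtype.ext (Prod.ext e1 e2)
    · rintro ⟨⟨g, hg⟩, ho⟩
      obtain ⟨t, a, b, rfl⟩ := (mem_unip_iff θ hθ hK g).1 hg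
      have h3 : G2.checked.wg (reeWordU (3 ^ m) t a b) ^ 3 = 1 := by
        have := congrArg Subtype.val (ho ▸ pow_orderOf_eq_one
          (⟨G2.checked.wg (reeWordU (3 ^ m) t a b), hg⟩ : ↥U))
        simpa using this
      obtain rfl := (hcube t a b).1 h3
      refine ⟨⟨(a, b), fun h => ?_⟩, Subtype.ext (Subtype.ext rfl)⟩
      obtain ⟨rfl, rfl⟩ := Prod.ext_iff.1 h
      have : (⟨_, hg⟩ : ↥U) = 1 := Subtype.ext (reeWord_zero (by positivity))
      rw [this, orderOf_one] at ho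
      omega
  rw [← Nat.card_congr (Equiv.ofBijective f hf), Nat.card_eq_fintype_card,
    Fintype.card_subtype_compl, Fintype.card_subtype_eq, Fintype.card_prod, hK, sq]

/-- The representative of the Weyl group of order two. -/
noncomputable def wZero (K : Type*) [Field K] : GL chevG2.Idx K := G2.checked.wordN K [0, 1, 0, 1, 0, 1]

omit hθ hK in
theorem wZero_mem : wZero K ∈ (reeTwist θ).fixed :=
  (ree_cls θ).wN_fixed (j := 0) (by rw [rank_eq']; omega)

/-- The two cells. -/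
theorem cells {g : GL chevG2.Idx K} (hg : g ∈ (reeTwist θ).fixed) :
    g ∈ chevG2.borelSubgroup K ∨ ∃ v ∈ chevG2.posUnipotent K ⊓ (reeTwist θ).fixed,
      ∃ b ∈ chevG2.borelSubgroup K ⊓ (reeTwist θ).fixed, g = v * wZero K * b := by
  have r0 : 0 < chevG2.rank := by rw [rank_eq']; omega
  obtain ⟨b, hb, hbf, n, hn, hnf, u, hu, huf, rfl⟩ := (ree_cls θ).fixed_bnu hg
  have hub : u ∈ chevG2.borelSubgroup K := Subgroup.mem_sup_left (by
    rw [posUnipotent_eq]; exact grp_mem_mono hu fun r hr => hr.1)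
  obtain ⟨a, ha⟩ := (ree_cls θ).exists_tab (ree_tab θ) hn ((reeTwist θ).comm_of_fixed hn hnf)
  have hdiag : ∀ x ∈ chevG2.monomialSubgroup K, (∀ r < chevG2.nroots, G2.checked.sg x r = r) →
      x ∈ chevG2.diagonalSubgroup K := by
    intro x hx hid
    rw [← G2.checked.cls_toN_eq_one hx]
    refine BN.eq_one_of_len_eq_zero _ ?_
    rw [G2.checked.len_eq hx, Set.ncard_eq_zero (G2.checked.inv_finite _)]
    refine Set.eq_empty_of_forall_notMem fun r hr => ?_
    have h2 := hr.2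
    rw [hid r hr.1.1] at h2
    exact G2.checked.not_pos_and_neg hr.1 h2
  by_cases h1 : a = 1
  · refine Or.inl (mul_mem (mul_mem hb (Subgroup.mem_sup_right (hdiag n hn fun r hr => ?_))) hub)
    rw [ha r hr, h1, (ree_cls θ).tab_one (ree_tab θ) hr]
  · have hw : wZero K ∈ chevG2.monomialSubgroup K := (ree_cls θ).wN_mem_monomial r0
    have hwf := wZero_mem θ
    have hd : n * (wZero K)⁻¹ ∈ chevG2.diagonalSubgroup K := by
      refine hdiag _ (mul_mem hn (inv_mem hw)) fun r hr => ?_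
      rw [G2.checked.sg_mul hn (inv_mem hw) hr, ha _ (G2.checked.sg_lt (inv_mem hw) hr), reeMoves,
        if_neg h1]
      show G2.fast.movesW reeSpec [0] (G2.checked.sg (wZero K)⁻¹ r) = r
      rw [show G2.fast.movesW reeSpec [0] (G2.checked.sg (wZero K)⁻¹ r) =
        G2.checked.sg (wZero K) (G2.checked.sg (wZero K)⁻¹ r) from
        ((ree_cls θ).sg_wN r0 (G2.checked.sg_lt (inv_mem hw) hr)).symm]
      exact G2.checked.sg_sg_inv hw hr
    set h := n * (wZero K)⁻¹ with hh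
    have hn' : n = h * wZero K := by rw [hh, inv_mul_cancel_right]
    obtain ⟨v, hv, hvf, d, hd', hdf, e⟩ := (reeTwist θ).fixed_borel
      (mul_mem hb (Subgroup.mem_sup_right hd)) (mul_mem hbf (mul_mem hnf (inv_mem hwf)))
    refine Or.inr ⟨v, Subgroup.mem_inf.2 ⟨hv, hvf⟩, (wZero K)⁻¹ * d * wZero K * u,
      Subgroup.mem_inf.2 ⟨mul_mem (Subgroup.mem_sup_right ?_) hub,
        mul_mem (mul_mem (mul_mem (inv_mem hwf) hdf) hwf) huf⟩, ?_⟩
    · have := G2.checked.mono_conj_diag (inv_mem hw) d hd'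
      rwa [inv_inv] at this
    · calc b * n * u = (b * h) * wZero K * u := by rw [hn']; group
        _ = _ := by rw [e]; group

omit hθ hK in
include θ in
/-- Only the identity of the unipotent group is conjugated into the Borel subgroup. -/
theorem eq_one_of_conj {u : GL chevG2.Idx K} (hu : u ∈ chevG2.posUnipotent K)
    (h : wZero K * u * (wZero K)⁻¹ ∈ chevG2.borelSubgroup K) : u = 1 := by
  have r0 : 0 < chevG2.rank := by rw [rank_eq']; omega
  have h1 : u ∈ grp chevG2 K ((ree_cls θ).B 0) := by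
    rw [posUnipotent_eq, pos_eq] at hu
    exact hu
  have h2 : wZero K * u * (wZero K)⁻¹ ∈ chevG2.negUnipotent K := by
    rw [negUnipotent_eq]
    exact grp_mem_mono ((ree_cls θ).wN_conj_B r0 h1) ((ree_cls θ).NB_neg r0)
  have h3 := Subgroup.mem_inf.2 ⟨h, h2⟩
  rwa [G2.checked.borel_inf_neg, Subgroup.mem_bot, conj_eq_one_iff] at h3

theorem borel_inter {h : GL chevG2.Idx K} (hf : h ∈ (reeTwist θ).fixed)
    (h1 : h ∈ chevG2.borelSubgroup K) (h2 : (wZero K)⁻¹ * h * wZero K ∈ chevG2.borelSubgroup K) :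
    h ∈ chevG2.diagonalSubgroup K := by
  have r0 : 0 < chevG2.rank := by rw [rank_eq']; omega
  obtain ⟨v, hv, -, d, hd, -, rfl⟩ := (reeTwist θ).fixed_borel h1 hf
  have hw : wZero K ∈ chevG2.monomialSubgroup K := (ree_cls θ).wN_mem_monomial r0
  have hw2 : wZero K * wZero K ∈ chevG2.borelSubgroup K :=
    Subgroup.mem_sup_right ((ree_cls θ).wN_sq_mem r0)
  have hd' : (wZero K)⁻¹ * d⁻¹ * wZero K ∈ chevG2.borelSubgroup K := by
    have := G2.checked.mono_conj_diag (inv_mem hw) _ (inv_mem hd)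
    rw [inv_inv] at this
    exact Subgroup.mem_sup_right this
  have hvw : wZero K * v * (wZero K)⁻¹ ∈ chevG2.borelSubgroup K := by
    have := mul_mem (mul_mem hw2 (mul_mem h2 hd')) (inv_mem hw2)
    simpa [mul_assoc] using this
  rw [eq_one_of_conj θ hv hvw, one_mul]
  exact hd

theorem wZero_not_borel : wZero K ∉ chevG2.borelSubgroup K := by
  intro hw
  have h := (mem_unip_iff θ hθ hK _).2 ⟨1, 0, 0, rfl⟩
  obtain ⟨hu, -⟩ := Subgroup.mem_inf.1 h
  have h1 := eq_one_of_conj θ hu (mul_mem (mul_mem hw (Subgroup.mem_sup_left hu)) (inv_mem hw))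
  rw [← reeWord_zero (K := K) (e := 3 ^ m) (by positivity)] at h1
  exact one_ne_zero (reeWord_inj h1).1

section points

variable {G₁ : Subgroup (GL chevG2.Idx K)} (hG : G₁ = (reeTwist θ).fixed)
include hG

set_option maxHeartbeats 1000000 in
/-- Stabilisers of three cosets of the Borel subgroup. -/
theorem three_point :
    (∀ x y z : ↥G₁ ⧸ (chevG2.borelSubgroup K ⊓ G₁).subgroupOf G₁, x ≠ y → x ≠ z → y ≠ z →
        Nat.card ↥(MulAction.stabilizer ↥G₁ x ⊓ MulAction.stabilizer ↥G₁ y ⊓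
          MulAction.stabilizer ↥G₁ z) ≤ 2) ∧
      ∃ x y z : ↥G₁ ⧸ (chevG2.borelSubgroup K ⊓ G₁).subgroupOf G₁, x ≠ y ∧ x ≠ z ∧ y ≠ z ∧
        Nat.card ↥(MulAction.stabilizer ↥G₁ x ⊓ MulAction.stabilizer ↥G₁ y ⊓
          MulAction.stabilizer ↥G₁ z) = 2 := by
  classical
  subst hG
  set F := (reeTwist θ).fixed
  set B₁ := (chevG2.borelSubgroup K ⊓ F).subgroupOf F
  have hB : ∀ g : ↥F, g ∈ B₁ ↔ (g : GL chevG2.Idx K) ∈ chevG2.borelSubgroup K := fun g =>
    ⟨fun h => (Subgroup.mem_inf.1 (Subgroup.mem_subgroupOf.1 h)).1,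
      fun h => Subgroup.mem_subgroupOf.2 (Subgroup.mem_inf.2 ⟨h, g.2⟩)⟩
  let w : ↥F := ⟨wZero K, wZero_mem θ⟩
  let o : ↥F ⧸ B₁ := ((1 : ↥F) : ↥F ⧸ B₁)
  have hmk : ∀ g : ↥F, g • o = (g : ↥F ⧸ B₁) := fun g => by
    show ((g * 1 : ↥F) : ↥F ⧸ B₁) = _
    rw [mul_one]
  have hst : ∀ g a : ↥F, g • (a • o) = a • o ↔
      ((a : GL chevG2.Idx K))⁻¹ * g * a ∈ chevG2.borelSubgroup K := fun g a => by
    rw [← mul_smul, hmk, hmk, eq_comm, QuotientGroup.eq, hB]
    simp [mul_assoc]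
  let S := fun x y z : ↥F ⧸ B₁ => MulAction.stabilizer ↥F x ⊓ MulAction.stabilizer ↥F y ⊓
    MulAction.stabilizer ↥F z
  have hS : ∀ g : ↥F, ∀ x y z, Nat.card ↥(S (g • x) (g • y) (g • z)) = Nat.card ↥(S x y z) := by
    intro g x y z
    refine (Nat.card_congr (Equiv.subtypeEquiv (MulAut.conj g).toEquiv fun h => ?_)).symm
    simp [S, mul_smul]
  -- the normal position
  have norm : ∀ h : ↥F, ∀ u : GL chevG2.Idx K, ∀ hu : u ∈ chevG2.posUnipotent K ⊓ F,
      h ∈ S o (w • o) ((⟨u, (Subgroup.mem_inf.1 hu).2⟩ * w) • o) ↔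
        (h : GL chevG2.Idx K) ∈ chevG2.diagonalSubgroup K ∧ (h : GL chevG2.Idx K) * u = u * h := by
    intro h u hu
    obtain ⟨hu1, huF⟩ := Subgroup.mem_inf.1 hu
    simp only [S, Subgroup.mem_inf, MulAction.mem_stabilizer_iff]
    rw [show o = (1 : ↥F) • o from (one_smul _ _).symm]
    simp only [smul_smul, mul_one]
    rw [show h • o = (1 : ↥F) • o ↔ h • ((1 : ↥F) • o) = (1 : ↥F) • o by rw [one_smul], hst,
      show (h * w) • o = w • o ↔ h • (w • o) = w • o by rw [smul_smul], hst,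
      show (h * (⟨u, huF⟩ * w)) • o = (⟨u, huF⟩ * w) • o ↔
        h • ((⟨u, huF⟩ * w) • o) = (⟨u, huF⟩ * w) • o by rw [smul_smul], hst]
    simp only [OneMemClass.coe_one, inv_one, one_mul, mul_one, Subgroup.coe_mul, mul_inv_rev, w]
    constructor
    · rintro ⟨⟨h1, h2⟩, h3⟩
      have hd := borel_inter θ hθ hK h.2 h1 h2
      have hd2 : u⁻¹ * h * u ∈ chevG2.diagonalSubgroup K :=
        borel_inter θ hθ hK (mul_mem (mul_mem (inv_mem huF) h.2) huF)
          (mul_mem (mul_mem (inv_mem (Subgroup.mem_sup_left hu1)) h1) (Subgroup.mem_sup_left hu1))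
          (by simpa [mul_assoc] using h3)
      have h4 : (h : GL chevG2.Idx K)⁻¹ * (u⁻¹ * h * u) ∈
          chevG2.posUnipotent K ⊓ chevG2.diagonalSubgroup K := by
        refine Subgroup.mem_inf.2 ⟨?_, mul_mem (inv_mem hd) hd2⟩
        have := mul_mem (G2.checked.diag_normalizes_pos (inv_mem hd) (inv_mem hu1)) hu1
        simpa [mul_assoc] using this
      rw [G2.checked.pos_inf_diag, Subgroup.mem_bot, inv_mul_eq_one] at h4
      refine ⟨hd, ?_⟩
      conv_rhs => rw [h4]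
      group
    · rintro ⟨hd, hc⟩
      have hw : wZero K ∈ chevG2.monomialSubgroup K :=
        (ree_cls θ).wN_mem_monomial (j := 0) (by rw [rank_eq']; omega)
      have h2 := G2.checked.mono_conj_diag (inv_mem hw) _ hd
      rw [inv_inv] at h2
      refine ⟨⟨Subgroup.mem_sup_right hd, Subgroup.mem_sup_right h2⟩, Subgroup.mem_sup_right ?_⟩
      have e : (wZero K)⁻¹ * u⁻¹ * (h : GL chevG2.Idx K) * (u * wZero K) =
          (wZero K)⁻¹ * h * wZero K := by
        calc _ = (wZero K)⁻¹ * u⁻¹ * ((h : GL chevG2.Idx K) * u) * wZero K := by group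
          _ = _ := by rw [hc]; group
      rw [e]
      exact h2
  obtain ⟨φ, hφ, hconj⟩ := exists_torusHom θ hθ hK
  have hne : (-1 : Kˣ) ≠ 1 := fun h => by
    have h' : (-1 : K) = 1 := by simpa using congrArg Units.val h
    have h3 : (3 : K) = 0 := CharP.ofNat_eq_zero K 3
    exact one_ne_zero (by linear_combination h' + h3 : (1 : K) = 0)
  have bound : ∀ u : GL chevG2.Idx K, ∀ hu : u ∈ chevG2.posUnipotent K ⊓ F, u ≠ 1 →
      Nat.card ↥(S o (w • o) ((⟨u, (Subgroup.mem_inf.1 hu).2⟩ * w) • o)) ≤ 2 := by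
    intro u hu hu1
    refine le_trans (Nat.card_le_card_of_injective (β := ({1, -1} : Finset Kˣ))
      (fun h => ⟨φ ⟨_, Subgroup.mem_inf.2 ⟨((norm h.1 u hu).1 h.2).1, h.1.2⟩⟩, ?_⟩) ?_) ?_
    · have h2 := sq_eq_one_of_comm θ hθ hK
        (Subgroup.mem_inf.2 ⟨((norm h.1 u hu).1 h.2).1, h.1.2⟩) hu hu1 ((norm h.1 u hu).1 h.2).2
      have h3 : (φ ⟨_, Subgroup.mem_inf.2 ⟨((norm h.1 u hu).1 h.2).1, h.1.2⟩⟩) ^ 2 = 1 := by
        rw [sq, ← map_mul, ← map_one φ]
        exact congrArg φ (Subtype.ext h2)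
      rcases sq_eq_one_iff.1 (show ((_ : Kˣ) : K) ^ 2 = 1 from congrArg Units.val h3) with h4 | h4
      · exact Finset.mem_insert.2 (Or.inl (Units.ext h4))
      · exact Finset.mem_insert.2 (Or.inr (Finset.mem_singleton.2 (Units.ext (by simpa using h4))))
    · intro a b e
      exact Subtype.ext (Subtype.ext (congrArg Subtype.val (hφ.1 (congrArg Subtype.val e)) :))
    · rw [Nat.card_eq_fintype_card, Fintype.card_coe]
      exact Finset.card_le_two
  have hoff : ∀ g : ↥F, (g : ↥F ⧸ B₁) ≠ o → ∃ u, ∃ hu : u ∈ chevG2.posUnipotent K ⊓ F,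
      (g : ↥F ⧸ B₁) = (⟨u, (Subgroup.mem_inf.1 hu).2⟩ * w) • o := by
    intro g hg
    rcases cells θ hθ hK g.2 with h | ⟨v, hv, b, hb, e⟩
    · exact absurd (QuotientGroup.eq.2 ((hB _).2 (by simpa using inv_mem h))) hg
    · refine ⟨v, hv, ?_⟩
      rw [hmk, QuotientGroup.eq, hB]
      simp only [Subgroup.coe_mul, Subgroup.coe_inv, w, e]
      have := inv_mem (Subgroup.mem_inf.1 hb).1
      simpa [mul_assoc] using this
  have hofix : ∀ u, ∀ hu : u ∈ chevG2.posUnipotent K ⊓ F,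
      (⟨u, (Subgroup.mem_inf.1 hu).2⟩ : ↥F) • o = o := fun u hu => by
    rw [hmk]
    have hu' : u ∈ chevG2.borelSubgroup K := Subgroup.mem_sup_left (Subgroup.mem_inf.1 hu).1
    exact QuotientGroup.eq.2 ((hB _).2 (by simpa using inv_mem hu'))
  refine ⟨fun x y z hxy hxz hyz => ?_, ?_⟩
  · obtain ⟨a, rfl⟩ := QuotientGroup.mk_surjective x
    rw [← hmk] at hxy hxz ⊢
    show Nat.card ↥(S (a • o) y z) ≤ 2
    rw [show y = a • (a⁻¹ • y) by simp, show z = a • (a⁻¹ • z) by simp, hS]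
    obtain ⟨c, hc⟩ := QuotientGroup.mk_surjective (a⁻¹ • y)
    have hy0 : (c : ↥F ⧸ B₁) ≠ o := fun h => hxy (by rw [← h, hc]; simp)
    obtain ⟨v, hv, ev⟩ := hoff c hy0
    rw [← hc, ev, mul_smul]
    set v' : ↥F := ⟨v, (Subgroup.mem_inf.1 hv).2⟩
    rw [← hofix v hv, show a⁻¹ • z = v' • (v'⁻¹ • a⁻¹ • z) by simp, hS, hofix v hv]
    obtain ⟨d, hd⟩ := QuotientGroup.mk_surjective (v'⁻¹ • a⁻¹ • z)
    have hz0 : (d : ↥F ⧸ B₁) ≠ o := fun h => by
      rw [h, eq_inv_smul_iff, hofix v hv, eq_inv_smul_iff] at hd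
      exact hxz hd
    obtain ⟨u, hu, eu⟩ := hoff d hz0
    rw [← hd, eu]
    refine bound u hu fun h1 => hyz ?_
    subst h1
    have e2 : v'⁻¹ • a⁻¹ • z = v'⁻¹ • a⁻¹ • y := by
      rw [← hd, eu, ← hc, ev, ← mul_smul, inv_mul_cancel_left]
      congr 1
      exact one_mul w
    simpa using e2.symm
  · have hu := (mem_unip_iff θ hθ hK _).2 ⟨0, 1, 0, rfl⟩
    set u := G2.checked.wg (reeWordU (3 ^ m) (0 : K) 1 0)
    have hu1 : u ≠ 1 := fun h => by
      rw [← reeWord_zero (K := K) (e := 3 ^ m) (by positivity)] at h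
      exact one_ne_zero (reeWord_inj h).2.1
    have hwB := wZero_not_borel θ hθ hK
    refine ⟨o, w • o, (⟨u, (Subgroup.mem_inf.1 hu).2⟩ * w) • o, ?_, ?_, ?_, ?_⟩
    · intro h
      rw [hmk, QuotientGroup.eq, hB] at h
      exact hwB (by simpa [w] using h)
    · intro h
      rw [hmk, QuotientGroup.eq, hB] at h
      simp only [inv_one, one_mul, Subgroup.coe_mul, w] at h
      have hu' : u ∈ chevG2.borelSubgroup K := Subgroup.mem_sup_left (Subgroup.mem_inf.1 hu).1
      exact hwB (by simpa using mul_mem (inv_mem hu') h)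
    · intro h
      rw [hmk, hmk, QuotientGroup.eq, hB] at h
      simp only [Subgroup.coe_mul, Subgroup.coe_inv, w] at h
      have hw2 : wZero K * wZero K ∈ chevG2.borelSubgroup K :=
        Subgroup.mem_sup_right ((ree_cls θ).wN_sq_mem (j := 0) (by rw [rank_eq']; omega))
      have := mul_mem (mul_mem hw2 h) (inv_mem hw2)
      exact hu1 (eq_one_of_conj θ (Subgroup.mem_inf.1 hu).1 (by simpa [mul_assoc] using this))
    · refine le_antisymm (bound u hu hu1) ?_
      obtain ⟨d, hd⟩ := hφ.2 (-1)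
      have hmem : (⟨d.1, (Subgroup.mem_inf.1 d.2).2⟩ : ↥F) ∈
          S o (w • o) ((⟨u, (Subgroup.mem_inf.1 hu).2⟩ * w) • o) := by
        refine (norm _ u hu).2 ⟨(Subgroup.mem_inf.1 d.2).1, ?_⟩
        have h1 := hconj d 0 1 0
        have he : Even (3 * 3 ^ m + 1) :=
          ((by decide : Odd 3).mul ((by decide : Odd 3).pow)).add_one
        rw [hd, Units.val_neg, Units.val_one, mul_zero, mul_one, mul_zero, he.neg_one_pow] at h1
        rw [← eq_mul_inv_iff_mul_eq] at h1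
        simpa [mul_assoc] using h1
      have hd1 : (⟨d.1, (Subgroup.mem_inf.1 d.2).2⟩ : ↥F) ≠ 1 := fun h => hne (by
        rw [← hd, show d = 1 from Subtype.ext (congrArg Subtype.val h :), map_one])
      refine Finite.one_lt_card_iff_nontrivial.2 ⟨⟨⟨_, hmem⟩, 1, fun h => hd1 (congrArg Subtype.val h)⟩⟩

/-- Distinct Sylow 3-subgroups meet trivially. -/
theorem sylow_three_ti (P Q : Sylow 3 ↥G₁) (hPQ : P ≠ Q) :
    (P : Subgroup ↥G₁) ⊓ (Q : Subgroup ↥G₁) = ⊥ := by
  classical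
  haveI : Fact (Nat.Prime 3) := ⟨Nat.prime_three⟩
  have hcard := card_ree θ hθ hK
  rw [eq_fixed θ hθ hK] at hcard
  subst hG
  revert P Q
  set F := (reeTwist θ).fixed
  intro P Q hPQ
  let U₁ : Subgroup ↥F := (chevG2.posUnipotent K ⊓ F).subgroupOf F
  have hU : Nat.card ↥U₁ = 3 ^ ((2 * m + 1) * 3) := by
    rw [Nat.card_congr (Subgroup.subgroupOfEquivOfLe inf_le_right).toEquiv, card_pos_fixed θ hθ hK, hK,
      ← pow_mul]
  have hidx : ¬ 3 ∣ U₁.index := by
    have h := U₁.card_mul_index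
    rw [hU, hcard, ← pow_mul, mul_assoc, Nat.mul_left_cancel_iff (by positivity)] at h
    rw [h, Nat.prime_three.dvd_mul, pow_mul]
    have h3 : 3 ∣ 3 ^ (2 * m + 1) := dvd_pow_self 3 (by omega)
    have h1 : 1 ≤ 3 ^ (2 * m + 1) := Nat.one_le_pow _ _ (by norm_num)
    have h4 : 3 ∣ (3 ^ (2 * m + 1)) ^ 3 := h3.trans (dvd_pow_self _ (by norm_num))
    rintro (h5 | h5) <;> omega
  let P₀ : Sylow 3 ↥F := (IsPGroup.of_card hU).toSylow hidx
  have hP₀ : (P₀ : Subgroup ↥F) = U₁ := rfl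
  obtain ⟨a, ha⟩ := MulAction.exists_smul_eq ↥F P₀ P
  obtain ⟨c, hc⟩ := MulAction.exists_smul_eq ↥F P₀ Q
  rw [← ha, ← hc] at hPQ ⊢
  rw [Subgroup.eq_bot_iff_forall]
  intro x hx
  obtain ⟨hxa, hxc⟩ := Subgroup.mem_inf.1 hx
  have conv : ∀ g : ↥F, ∀ y : ↥F, y ∈ (g • P₀ : Sylow 3 ↥F) → g⁻¹ * y * g ∈ U₁ := by
    intro g y hy
    rw [← hP₀]
    have h := (Subgroup.mem_pointwise_smul_iff_inv_smul_mem).1 (show y ∈ MulAut.conj g • (P₀ : Subgroup ↥F) from hy)
    simpa [MulAut.smul_def] using h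
  have hya := conv a x hxa
  have hyc := conv c x hxc
  set g := a⁻¹ * c
  set y := a⁻¹ * x * a
  have hyg : g⁻¹ * y * g ∈ U₁ := by
    convert hyc using 1
    simp [g, y, mul_assoc]
  suffices y = 1 by
    have h2 := congrArg (fun t => a * t * a⁻¹) this
    simpa [y, mul_assoc] using h2
  have hyU := (Subgroup.mem_inf.1 (Subgroup.mem_subgroupOf.1 hya)).1
  have hyg' := (Subgroup.mem_inf.1 (Subgroup.mem_subgroupOf.1 hyg)).1
  rcases cells θ hθ hK g.2 with hg | ⟨v, hv, b, hb, e⟩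
  · exfalso
    apply hPQ
    have hnorm : g ∈ Subgroup.normalizer (U₁ : Set ↥F) := by
      have hmap : ∀ k : ↥F, (k : GL chevG2.Idx K) ∈ chevG2.borelSubgroup K → ∀ t ∈ U₁,
          k * t * k⁻¹ ∈ U₁ := by
        intro k hk t ht
        refine Subgroup.mem_subgroupOf.2 (Subgroup.mem_inf.2 ⟨?_, (k * t * k⁻¹).2⟩)
        obtain ⟨u, hu, d, hd, ek⟩ := G2.checked.mem_borel.1 hk
        have h1 := (Subgroup.mem_inf.1 (Subgroup.mem_subgroupOf.1 ht)).1
        have h2 := mul_mem (mul_mem hu (G2.checked.diag_normalizes_pos hd h1)) (inv_mem hu)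
        simpa [ek, mul_assoc] using h2
      rw [Subgroup.mem_normalizer_iff]
      intro t
      refine ⟨hmap g hg t, fun h => ?_⟩
      have := hmap g⁻¹ (by simpa using inv_mem hg) _ h
      simpa [mul_assoc] using this
    have : g • P₀ = P₀ := by
      rw [Sylow.smul_eq_iff_mem_normalizer]
      exact hnorm
    calc a • P₀ = a • (g • P₀) := by rw [this]
      _ = c • P₀ := by rw [smul_smul, mul_inv_cancel_left]
  · obtain ⟨hv1, -⟩ := Subgroup.mem_inf.1 hv
    obtain ⟨hb1, -⟩ := Subgroup.mem_inf.1 hb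
    simp only [Subgroup.coe_mul, Subgroup.coe_inv, e] at hyg'
    have hw2 : wZero K * wZero K ∈ chevG2.borelSubgroup K :=
      Subgroup.mem_sup_right ((ree_cls θ).wN_sq_mem (j := 0) (by rw [rank_eq']; omega))
    have h1 := mul_mem (mul_mem (mul_mem hw2 hb1)
      (Subgroup.mem_sup_left hyg' : _ ∈ chevG2.borelSubgroup K)) (inv_mem (mul_mem hw2 hb1))
    have h2 := eq_one_of_conj θ (mul_mem (mul_mem (inv_mem hv1) hyU) hv1)
      (by simpa [mul_assoc] using h1)
    have h3 : (y : GL chevG2.Idx K) = 1 := by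
      have := congrArg (fun t => v * t * v⁻¹) h2
      simpa [mul_assoc] using this
    exact Subtype.ext h3

end points

end Cfsg.Agent.Lib.Chev.G2
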