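import Cfsg.Agent.Lib.Chev.TwistG2ReeStruct

/-!
The twisted group of type `G₂` over the field with three elements: the derived subgroup.
-/

set_option autoImplicit false

namespace Cfsg.Agent.Lib.Chev.G2

open Cfsg.Lie Cfsg.Agent.Lib Cfsg.Agent.Lib.Chev

theorem transfer_eq_pow_index {G A : Type*} [Group G] [CommGroup A] {H : Subgroup G} [H.FiniteIndex]
    (ϕ : H →* A) (x : H)
    (key : ∀ (k : ℕ) (g : G) (hg : g⁻¹ * (x : G) ^ k * g ∈ H), ϕ ⟨_, hg⟩ = ϕ x ^ k) :
    MonoidHom.transfer ϕ (x : G) = ϕ x ^ H.index := by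
  classical
  let := H.fintypeQuotientOfFiniteIndex
  rw [MonoidHom.transfer_eq_prod_quotient_orbitRel_zpowers_quot]
  simp only [key]
  rw [Finset.prod_pow_eq_pow_sum, ← Subgroup.index_eq_sum_minimalPeriod]

/-- A minimal normal subgroup of order divisible by a prime but not by its square is simple. -/
theorem simple_of_minimal_normal {G : Type*} [Group G] [Finite G] {p : ℕ} [Fact p.Prime]
    (N : Subgroup G) [N.Normal] (h1 : p ∣ Nat.card N) (h2 : ¬ p ^ 2 ∣ Nat.card N)
    (hmin : ∀ M : Subgroup G, M.Normal → M ≤ N → M ≠ ⊥ → M = N) : IsSimpleGroup N := by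
  classical
  have hp := Fact.out (p := p.Prime)
  have invariant : ∀ S : Subgroup N, (∀ g : G, S.map (MulAut.conjNormal g).toMonoidHom ≤ S) →
      S = ⊥ ∨ S = ⊤ := by
    intro S hS
    by_cases hS0 : S = ⊥
    · exact Or.inl hS0
    refine Or.inr (Subgroup.map_injective N.subtype_injective ?_)
    rw [← MonoidHom.range_eq_map, Subgroup.range_subtype]
    refine hmin _ ⟨?_⟩ (Subgroup.map_subtype_le S)
      (fun h => hS0 ((Subgroup.map_eq_bot_iff_of_injective _ N.subtype_injective).1 h))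
    rintro _ ⟨s, hs, rfl⟩ g
    exact ⟨_, hS g ⟨s, hs, rfl⟩, by simp⟩
  have hnt : Nontrivial N := by
    rw [← Finite.one_lt_card_iff_nontrivial]
    exact hp.one_lt.trans_le (Nat.le_of_dvd Nat.card_pos h1)
  refine ⟨fun M hM => ?_⟩
  by_cases hpM : p ∣ Nat.card M
  · right
    haveI := hM
    have hidx : ¬ p ∣ M.index := fun h => h2 (by
      rw [sq, ← M.card_mul_index]; exact Nat.mul_dvd_mul hpM h)
    have hall : ∀ x : N, orderOf x = p → x ∈ M := by
      intro x hx
      have hd := orderOf_map_dvd (QuotientGroup.mk' M) x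
      rw [hx, Nat.dvd_prime hp] at hd
      rcases hd with hd | hd
      · rw [orderOf_eq_one_iff] at hd
        exact (QuotientGroup.eq_one_iff x).1 hd
      · exact absurd (hd ▸ (M.index_eq_card ▸ orderOf_dvd_natCard (QuotientGroup.mk' M x))) hidx
    rcases invariant (Subgroup.closure {x : N | orderOf x = p}) (fun g => by
        rw [MonoidHom.map_closure, Subgroup.closure_le]
        rintro _ ⟨x, hx, rfl⟩
        exact Subgroup.subset_closure
          (show orderOf _ = p from (MulEquiv.orderOf_eq (MulAut.conjNormal g) x).trans hx)) with h | h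
    · obtain ⟨x, hx⟩ := exists_prime_orderOf_dvd_card' p h1
      have : x ∈ Subgroup.closure {x : N | orderOf x = p} := Subgroup.subset_closure hx
      rw [h, Subgroup.mem_bot] at this
      rw [this, orderOf_one] at hx
      exact absurd hx.symm hp.ne_one
    · exact eq_top_iff.2 (h ▸ (Subgroup.closure_le _).2 hall)
  · left
    obtain ⟨R, ⟨hR, hRp⟩, hmax⟩ := (Set.toFinite {S : Subgroup N | S.Normal ∧ ¬ p ∣ Nat.card S}).exists_maximal
      ⟨M, hM, hpM⟩
    have absorb : ∀ S : Subgroup N, S.Normal → ¬ p ∣ Nat.card S → S ≤ R := by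
      intro S hS hSp
      refine le_sup_right.trans (hmax (y := R ⊔ S) ⟨?_, fun h => ?_⟩ le_sup_left)
      · haveI := hR; haveI := hS; infer_instance
      · haveI := hR; haveI := hS
        obtain ⟨⟨x, hxm⟩, hx⟩ := exists_prime_orderOf_dvd_card' p h
        rw [Subgroup.orderOf_mk] at hx
        obtain ⟨r, hr, s, hs, rfl⟩ := Subgroup.mem_sup_of_normal_right.1 hxm
        have hd := orderOf_map_dvd (QuotientGroup.mk' R) (r * s)
        rw [hx, Nat.dvd_prime hp] at hd
        have e : QuotientGroup.mk' R (r * s) = QuotientGroup.mk' R s := by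
          rw [map_mul, (QuotientGroup.eq_one_iff r).2 hr |> fun h => show QuotientGroup.mk' R r = 1 from h,
            one_mul]
        rcases hd with hd | hd
        · rw [orderOf_eq_one_iff] at hd
          have hmem : r * s ∈ R := (QuotientGroup.eq_one_iff _).1 hd
          have : orderOf (r * s) ∣ Nat.card R := R.orderOf_dvd_natCard hmem
          rw [hx] at this
          exact hRp this
        · rw [e] at hd
          exact hSp ((hd ▸ orderOf_map_dvd (QuotientGroup.mk' R) s).trans (S.orderOf_dvd_natCard hs))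
    rcases invariant R (fun g => absorb _ (Subgroup.Normal.map hR _ (MulAut.conjNormal g).surjective)
        (by
          rw [Subgroup.card_map_of_injective (f := (MulAut.conjNormal g).toMonoidHom) (MulAut.conjNormal g).injective]
          exact hRp)) with h | h
    · exact le_bot_iff.1 (h ▸ absorb M hM hpM)
    · rw [h, Subgroup.card_top] at hRp
      exact absurd h1 hRp

section three

variable {K : Type*} [Field K] [Fintype K] [CharP K 3] (θ : K ≃+* K)
  (hθ : ∀ t : K, θ t = t ^ 3 ^ 0) (hK : Fintype.card K = 3 ^ (2 * 0 + 1))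
include hθ hK

set_option maxHeartbeats 1600000 in
theorem derived_three :
    Nat.card ↥(commutator ↥(reeTwist θ).fixed) = 504 ∧
      IsSimpleGroup ↥(commutator ↥(reeTwist θ).fixed) := by
  classical
  set F := (reeTwist θ).fixed
  have hKc : Fintype.card K = 3 := by rw [hK]; norm_num
  have p3 : ∀ t : K, t ^ 3 = t := fun t => by rw [← hKc]; exact FiniteField.pow_card t
  have h3 : (3 : K) = 0 := CharP.ofNat_eq_zero K 3
  have hcardF : Nat.card ↥F = 1512 := by
    have := card_ree θ hθ hK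
    rw [eq_fixed θ hθ hK] at this
    rw [this]; norm_num
  set U : Subgroup ↥F := (chevG2.posUnipotent K ⊓ F).subgroupOf F
  have hU : Nat.card ↥U = 27 := by
    rw [Nat.card_congr (Subgroup.subgroupOfEquivOfLe inf_le_right).toEquiv, card_pos_fixed θ hθ hK, hKc]
    norm_num
  have hUmem : ∀ g : ↥F, g ∈ U ↔ (g : GL chevG2.Idx K) ∈ chevG2.posUnipotent K := fun g =>
    ⟨fun h => (Subgroup.mem_inf.1 (Subgroup.mem_subgroupOf.1 h)).1,
      fun h => Subgroup.mem_subgroupOf.2 (Subgroup.mem_inf.2 ⟨h, g.2⟩)⟩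
  -- coordinates
  have hex : ∀ x : U, ∃ p : K × K × K, ((x : ↥F) : GL chevG2.Idx K) =
      six p.1 p.1 (p.1 ^ 2 + p.2.1) (p.1 ^ 3 + p.2.2) p.2.1 p.2.2 := fun x => by
    obtain ⟨t, a, b, e⟩ := (mem_unip_iff θ hθ hK _).1 (Subgroup.mem_subgroupOf.1 x.2)
    exact ⟨(t, a, b), by rw [e, reeWord_eq_six]; norm_num⟩
  choose co hco using hex
  have coinj : ∀ x y : U, co x = co y → x = y := fun x y h =>
    Subtype.ext (Subtype.ext (by rw [hco x, hco y, h]))
  have comul : ∀ x y : U, (co (x * y)).1 = (co x).1 + (co y).1 ∧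
      (co (x * y)).2.1 = (co x).2.1 + (co y).2.1 - (co x).1 * (co y).1 := by
    intro x y
    have e : six (co (x * y)).1 (co (x * y)).1 ((co (x * y)).1 ^ 2 + (co (x * y)).2.1)
        ((co (x * y)).1 ^ 3 + (co (x * y)).2.2) (co (x * y)).2.1 (co (x * y)).2.2 =
        six (co x).1 (co x).1 ((co x).1 ^ 2 + (co x).2.1) ((co x).1 ^ 3 + (co x).2.2) (co x).2.1 (co x).2.2 *
        six (co y).1 (co y).1 ((co y).1 ^ 2 + (co y).2.1) ((co y).1 ^ 3 + (co y).2.2) (co y).2.1 (co y).2.2 := by
      rw [← hco, ← hco x, ← hco y]; rfl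
    rw [six_mul] at e
    obtain ⟨e1, -, -, -, e5, -⟩ := six_inj e
    exact ⟨e1, by rw [e5, p3]; ring⟩
  let Tc : U →* Multiplicative K := MonoidHom.mk' (fun x => Multiplicative.ofAdd (co x).1)
    fun x y => by rw [(comul x y).1, ofAdd_add]
  let χ : U →* Multiplicative K := MonoidHom.mk'
    (fun x => Multiplicative.ofAdd ((co x).2.1 - (co x).1 ^ 2)) fun x y => by
      rw [← ofAdd_add]
      congr 1
      rw [(comul x y).1, (comul x y).2]
      linear_combination (-((co x).1 * (co y).1)) * h3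
  -- torus action
  obtain ⟨φ, hφ, hconj⟩ := exists_torusHom θ hθ hK
  have hz2 : ∀ z : Kˣ, (z : K) ^ 2 = 1 := fun z => by
    rw [show 2 = Fintype.card K - 1 by rw [hKc]]; exact FiniteField.pow_card_sub_one_eq_one _ z.ne_zero
  have dconj : ∀ d : ↥F, ∀ hd : (d : GL chevG2.Idx K) ∈ chevG2.diagonalSubgroup K, ∀ x y : U,
      (y : ↥F) = d * x * d⁻¹ → (co y).1 = (φ ⟨d, Subgroup.mem_inf.2 ⟨hd, d.2⟩⟩ : K) * (co x).1 ∧
        (co y).2.1 = (co x).2.1 := by
    intro d hd x y e
    set z := φ ⟨d, Subgroup.mem_inf.2 ⟨hd, d.2⟩⟩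
    have h := hconj ⟨d, Subgroup.mem_inf.2 ⟨hd, d.2⟩⟩ (co x).1 (co x).2.1 (co x).2.2
    rw [reeWord_eq_six, reeWord_eq_six] at h
    have e' : ((y : ↥F) : GL chevG2.Idx K) = d * ((x : ↥F) : GL chevG2.Idx K) * (d : GL chevG2.Idx K)⁻¹ := by
      rw [e]; rfl
    rw [hco y, hco x] at e'
    norm_num at h
    rw [h] at e'
    obtain ⟨-, h2, -, -, h5, -⟩ := six_inj e'
    refine ⟨h2, h5.trans ?_⟩
    rw [show (z : K) ^ 4 = ((z : K) ^ 2) ^ 2 by ring, hz2, one_pow, one_mul]
  -- Borel subgroup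
  set B : Subgroup ↥F := (chevG2.borelSubgroup K ⊓ F).subgroupOf F
  have hBmem : ∀ g : ↥F, g ∈ B ↔ (g : GL chevG2.Idx K) ∈ chevG2.borelSubgroup K := fun g =>
    ⟨fun h => (Subgroup.mem_inf.1 (Subgroup.mem_subgroupOf.1 h)).1,
      fun h => Subgroup.mem_subgroupOf.2 (Subgroup.mem_inf.2 ⟨h, g.2⟩)⟩
  have hBsplit : ∀ g ∈ B, ∃ x : U, ∃ d : ↥F, (d : GL chevG2.Idx K) ∈ chevG2.diagonalSubgroup K ∧
      g = x * d := by
    intro g hg
    obtain ⟨v, hv, hvf, d, hd, hdf, e⟩ := (reeTwist θ).fixed_borel ((hBmem g).1 hg) g.2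
    exact ⟨⟨⟨v, hvf⟩, (hUmem _).2 hv⟩, ⟨d, hdf⟩, hd, Subtype.ext e⟩
  let w : ↥F := ⟨wZero K, wZero_mem θ⟩
  have hcell : ∀ g : ↥F, g ∈ B ∨ ∃ v : U, ∃ b ∈ B, g = v * w * b := fun g => by
    rcases cells θ hθ hK g.2 with h | ⟨v, hv, b, hb, e⟩
    · exact Or.inl ((hBmem g).2 h)
    · exact Or.inr ⟨⟨⟨v, (Subgroup.mem_inf.1 hv).2⟩, (hUmem _).2 (Subgroup.mem_inf.1 hv).1⟩,
        ⟨b, (Subgroup.mem_inf.1 hb).2⟩, (hBmem _).2 (Subgroup.mem_inf.1 hb).1, Subtype.ext e⟩
  have hwconj : ∀ x : U, w⁻¹ * x * w ∈ B → x = 1 := by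
    intro x hx
    have hxU := (hUmem x).1 x.2
    have h1 := borel_inter θ hθ hK (h := ((x : ↥F) : GL chevG2.Idx K)) (x : ↥F).2
      (Subgroup.mem_sup_left hxU) ((hBmem _).1 hx)
    have h2 := Subgroup.mem_inf.2 ⟨hxU, h1⟩
    rw [G2.checked.pos_inf_diag, Subgroup.mem_bot] at h2
    exact Subtype.ext (Subtype.ext h2)
  have hUB : ∀ x : U, (x : ↥F) ∈ B := fun x => (hBmem _).2 (Subgroup.mem_sup_left ((hUmem x).1 x.2))
  -- fusion in U preserves χ
  have hfus : ∀ (x : U) (g : ↥F) (hg : g⁻¹ * x * g ∈ U), χ ⟨_, hg⟩ = χ x := by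
    intro x g hg
    rcases hcell g with h | ⟨v, b, hb, e⟩
    · obtain ⟨u, d, hd, rfl⟩ := hBsplit g h
      have hm : d⁻¹ * ((u⁻¹ * x * u : U) : ↥F) * d ∈ U := by
        simpa [mul_assoc] using hg
      have e1 : (⟨_, hg⟩ : U) = ⟨_, hm⟩ := Subtype.ext (by simp [mul_assoc])
      have h2 := dconj d⁻¹ (by simpa using inv_mem hd) (u⁻¹ * x * u) ⟨_, hm⟩ (by simp)
      rw [e1]
      refine Eq.trans ?_ (show χ (u⁻¹ * x * u) = χ x by
        rw [map_mul, map_mul, map_inv, mul_comm (χ u)⁻¹ (χ x), inv_mul_cancel_right])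
      show Multiplicative.ofAdd _ = Multiplicative.ofAdd _
      rw [h2.1, h2.2, mul_pow, hz2, one_mul]
    · have hx : x = 1 := by
        subst e
        have h1 : w⁻¹ * ((v⁻¹ * x * v : U) : ↥F) * w ∈ B := by
          have := mul_mem (mul_mem hb (hUB ⟨_, hg⟩)) (inv_mem hb)
          simpa [mul_assoc] using this
        have h2 := congrArg (fun t => v * t * v⁻¹) (hwconj _ h1)
        simpa [mul_assoc] using h2
      subst hx
      rw [show (⟨_, hg⟩ : U) = 1 from Subtype.ext (by simp)]
  have hidx : U.index = 56 := by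
    have := U.card_mul_index
    rw [hU, hcardF] at this
    omega
  let ψ : ↥F →* Multiplicative K := MonoidHom.transfer χ
  have hψ : ∀ x : U, ψ x = χ x ^ 56 := fun x => by
    rw [← hidx]
    exact transfer_eq_pow_index χ x fun k g hg => by
      rw [← map_pow]
      exact hfus (x ^ k) g (by simpa using hg)
  have hmul3 : ∀ a : Multiplicative K, a ^ 3 = 1 := fun a => by
    have : Fintype.card (Multiplicative K) = 3 := by rw [Fintype.card_multiplicative, hKc]
    rw [← this]; exact pow_card_eq_one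
  have hψ' : ∀ x : U, ψ x = 1 → χ x = 1 := fun x h => by
    rw [hψ, show 56 = 3 * 18 + 2 by norm_num, pow_add, pow_mul, hmul3, one_pow, one_mul] at h
    calc χ x = χ x ^ 3 * (χ x ^ 2)⁻¹ := by rw [pow_succ' (χ x) 2, mul_inv_cancel_right]
      _ = 1 := by rw [hmul3, h, inv_one, one_mul]
  set M : Subgroup ↥F := ψ.ker with hM
  have hM3 : M.index = 3 := by
    have hne : ψ.range ≠ ⊥ := by
      intro hbot
      have hu := (mem_unip_iff θ hθ hK _).2 ⟨0, 1, 0, rfl⟩
      let x : U := ⟨⟨_, (Subgroup.mem_inf.1 hu).2⟩, (hUmem _).2 (Subgroup.mem_inf.1 hu).1⟩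
      have h1 : ψ (x : ↥F) = 1 := (Subgroup.eq_bot_iff_forall _).1 hbot _ ⟨_, rfl⟩
      have h2 := hψ' x h1
      have h4 : six (0 : K) 0 (0 ^ 2 + 1) (0 ^ 3 + 0) 1 0 =
          six (co x).1 (co x).1 ((co x).1 ^ 2 + (co x).2.1) ((co x).1 ^ 3 + (co x).2.2) (co x).2.1
            (co x).2.2 := by
        rw [← hco x]
        show _ = G2.checked.wg (reeWordU (3 ^ 0) (0 : K) 1 0)
        rw [reeWord_eq_six]; norm_num
      obtain ⟨e1, -, -, -, e5, -⟩ := six_inj h4
      have h5 : (co x).2.1 - (co x).1 ^ 2 = 0 := Multiplicative.ofAdd.injective (h2.trans ofAdd_zero.symm)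
      rw [← e1, ← e5] at h5
      norm_num at h5
    rw [hM, Subgroup.index_ker]
    have hd := Subgroup.card_subgroup_dvd_card ψ.range
    rw [Nat.card_eq_fintype_card (α := Multiplicative K), Fintype.card_multiplicative, hKc,
      Nat.dvd_prime Nat.prime_three] at hd
    exact hd.resolve_left fun h => hne (Subgroup.card_eq_one.1 h)
  -- the torus involution
  obtain ⟨⟨h₀, hh₀⟩, hφh⟩ := hφ.2 (-1)
  let h : ↥F := ⟨h₀, (Subgroup.mem_inf.1 hh₀).2⟩
  have hhd : (h : GL chevG2.Idx K) ∈ chevG2.diagonalSubgroup K := (Subgroup.mem_inf.1 hh₀).1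
  have hdiag : ∀ d : ↥F, (d : GL chevG2.Idx K) ∈ chevG2.diagonalSubgroup K → d * d = 1 := by
    intro d hd
    let d' : ↥(chevG2.diagonalSubgroup K ⊓ F) := ⟨d, Subgroup.mem_inf.2 ⟨hd, d.2⟩⟩
    have : d' * d' = 1 := hφ.1 (by
      rw [map_mul, map_one]
      exact Units.ext (by rw [Units.val_mul, ← sq, hz2, Units.val_one]))
    exact Subtype.ext (congrArg Subtype.val this :)
  have hkey : ∀ N : Subgroup ↥F, N.Normal → N ≠ ⊥ → M ≤ N ∨ ¬ N ≤ M := by
    intro N hN hne
    rw [or_iff_not_imp_right, not_not]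
    intro hNM
    have hnB : ¬ N ≤ B := fun hle => hne (le_bot_iff.1 (by
      have hcore := (ree_cls θ).coreC_eq_bot (ree_gens θ hθ hK)
      rw [eq_fixed θ hθ hK] at hcore
      haveI := hN
      exact hcore ▸ Subgroup.normal_le_normalCore.2 hle))
    obtain ⟨n, hnN, hnnB⟩ := SetLike.not_le_iff_exists.1 hnB
    -- G = N B
    have hwNB : w ∈ N ⊔ B := by
      rcases hcell n with h1 | ⟨v, b, hb, rfl⟩
      · exact absurd h1 hnnB
      · have : w = (v : ↥F)⁻¹ * (↑v * w * b) * b⁻¹ := by group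
        rw [this]
        exact mul_mem (mul_mem (inv_mem (Subgroup.mem_sup_right (hUB v))) (Subgroup.mem_sup_left hnN))
          (inv_mem (Subgroup.mem_sup_right hb))
    have hNB : ∀ g : ↥F, g ∈ N ⊔ B := fun g => by
      rcases hcell g with h1 | ⟨v, b, hb, rfl⟩
      · exact Subgroup.mem_sup_right h1
      · exact mul_mem (mul_mem (Subgroup.mem_sup_right (hUB v)) hwNB) (Subgroup.mem_sup_right hb)
    -- the part generated by N and U is everything
    have hUnormB : ∀ b ∈ B, ∀ x : U, b * x * b⁻¹ ∈ U := by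
      intro b hb x
      obtain ⟨u, d, hd, rfl⟩ := hBsplit b hb
      have h1 : d * x * d⁻¹ ∈ U := (hUmem _).2
        (G2.checked.diag_normalizes_pos hd ((hUmem x).1 x.2))
      have h2 := mul_mem (mul_mem u.2 h1) (inv_mem u.2)
      simpa [mul_assoc] using h2
    haveI := hN
    have hNU : (N ⊔ U).Normal := ⟨fun a ha g => by
      have hcl : ∀ g : ↥F, (∀ x : U, g * x * g⁻¹ ∈ N ⊔ U) → g * a * g⁻¹ ∈ N ⊔ U := by
        intro g hg
        obtain ⟨y, hy, x, hx, rfl⟩ := Subgroup.mem_sup_of_normal_left.1 ha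
        rw [show g * (y * x) * g⁻¹ = g * y * g⁻¹ * (g * x * g⁻¹) by group]
        exact mul_mem (Subgroup.mem_sup_left (hN.conj_mem y hy g)) (hg ⟨x, hx⟩)
      refine hcl g fun x => ?_
      obtain ⟨y, hy, b, hb, rfl⟩ := Subgroup.mem_sup_of_normal_left.1 (hNB g)
      rw [show y * b * x * (y * b)⁻¹ = y * (b * x * b⁻¹) * y⁻¹ by group]
      exact mul_mem (mul_mem (Subgroup.mem_sup_left hy) (Subgroup.mem_sup_right (hUnormB b hb x)))
        (inv_mem (Subgroup.mem_sup_left hy))⟩
    have htop : ∀ g : ↥F, g ∈ N ⊔ U := by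
      have hge := ree_gens θ hθ hK
      rw [eq_fixed θ hθ hK] at hge
      have hle : F ≤ (N ⊔ U).map F.subtype := by
        refine hge.le_gen.trans ((Subgroup.closure_le _).2 ?_)
        rintro g ⟨j, hj, hg | hg⟩ <;> obtain ⟨hg1, hg2⟩ := Subgroup.mem_inf.1 hg
        · refine ⟨⟨g, hg2⟩, Subgroup.mem_sup_right ((hUmem _).2 ?_), rfl⟩
          rw [posUnipotent_eq]; exact grp_mem_mono hg1 ((ree_cls θ).B_pos hj)
        · have hw : (ree_cls θ).wN j = wZero K := rfl
          have h1 := (ree_cls θ).wN_conj_NB hj hg1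
          rw [hw] at h1
          have hx : (w⁻¹ * ⟨g, hg2⟩ * w : ↥F) ∈ U := (hUmem _).2 (by
            rw [posUnipotent_eq]; exact grp_mem_mono h1 ((ree_cls θ).B_pos hj))
          refine ⟨⟨g, hg2⟩, ?_, rfl⟩
          have := hNU.conj_mem _ (Subgroup.mem_sup_right hx) w
          simpa [mul_assoc] using this
      intro g
      obtain ⟨g', hg', e⟩ := hle g.2
      rwa [← Subtype.ext e]
    have hhN : h ∈ N := by
      obtain ⟨y, hy, x, hx, e⟩ := Subgroup.mem_sup_of_normal_left.1 (htop h)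
      have hh2 := hdiag h hhd
      have hq : (QuotientGroup.mk' N) h = QuotientGroup.mk' N x := by
        rw [← e, map_mul, show QuotientGroup.mk' N y = 1 from (QuotientGroup.eq_one_iff y).2 hy, one_mul]
      have h27 : x ^ 27 = 1 := by
        have := congrArg Subtype.val (pow_card_eq_one' (x := (⟨x, hx⟩ : U)))
        rwa [hU] at this
      rw [← QuotientGroup.eq_one_iff]
      show QuotientGroup.mk' N h = 1
      have hq2 : (QuotientGroup.mk' N h) ^ 2 = 1 := by rw [sq, ← map_mul, hh2, map_one]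
      have hq27 : (QuotientGroup.mk' N h) ^ 27 = 1 := by rw [hq, ← map_pow, h27, map_one]
      calc QuotientGroup.mk' N h = ((QuotientGroup.mk' N h) ^ 2) ^ 13 * QuotientGroup.mk' N h := by
            rw [hq2, one_pow, one_mul]
        _ = (QuotientGroup.mk' N h) ^ 27 := by rw [← pow_mul, ← pow_succ]
        _ = 1 := hq27
    have hcx : ∀ x : U, ∃ c : U, (c : ↥F) ∈ N ∧ (co c).1 = (co x).1 ∧
        (co c).2.1 - (co c).1 ^ 2 = 0 ∧ ((co x).1 = 0 → (co x).2.1 = 0 → c = 1 → x = 1) := by
      intro x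
      have hm : h * x * h⁻¹ ∈ U := hUnormB h ((hBmem h).2 (Subgroup.mem_sup_right hhd)) x
      refine ⟨⟨_, hm⟩ * x⁻¹, ?_, ?_, ?_, ?_⟩
      · show h * x * h⁻¹ * (x : ↥F)⁻¹ ∈ N
        rw [show h * x * h⁻¹ * (x : ↥F)⁻¹ = h * (x * h⁻¹ * (x : ↥F)⁻¹) by group]
        exact mul_mem hhN (hN.conj_mem _ (inv_mem hhN) x)
      · have h2 := (dconj h hhd x ⟨_, hm⟩ rfl).1
        rw [show φ _ = -1 from hφh, Units.val_neg, Units.val_one, neg_one_mul] at h2
        have h4 := (comul (⟨_, hm⟩ * x⁻¹) x).1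
        rw [inv_mul_cancel_right, h2] at h4
        linear_combination -h4 + (-(co x).1) * h3
      · obtain ⟨h2, h2'⟩ := dconj h hhd x ⟨_, hm⟩ rfl
        have h4 : χ (⟨_, hm⟩ * x⁻¹) = 1 := by
          rw [map_mul, map_inv, mul_inv_eq_one]
          show Multiplicative.ofAdd _ = Multiplicative.ofAdd _
          rw [h2, h2', mul_pow, hz2, one_mul]
        exact Multiplicative.ofAdd.injective (h4.trans ofAdd_zero.symm)
      · intro e1 e2 hc
        rw [mul_inv_eq_one] at hc
        have h2 := hconj ⟨h₀, hh₀⟩ (co x).1 (co x).2.1 (co x).2.2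
        rw [hφh, reeWord_eq_six, reeWord_eq_six] at h2
        norm_num [e1, e2] at h2
        have h5 : ((h * x * h⁻¹ : ↥F) : GL chevG2.Idx K) = ((x : ↥F) : GL chevG2.Idx K) :=
          congrArg (fun y : U => ((y : ↥F) : GL chevG2.Idx K)) hc
        simp only [Subgroup.coe_mul, Subgroup.coe_inv, h] at h5
        rw [hco x] at h5
        norm_num [e1, e2] at h5
        rw [h2] at h5
        obtain ⟨-, -, -, -, -, h7⟩ := six_inj h5
        have h8 : (co x).2.2 = 0 := by linear_combination h7 + (co x).2.2 * h3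
        refine Subtype.ext (Subtype.ext ?_)
        rw [hco x, e1, e2, h8]
        norm_num [six, G2.checked.xg_zero]
    have hkerN : ∀ x : U, χ x = 1 → (x : ↥F) ∈ N := by
      intro x hx
      obtain ⟨c, hcN, hc1, hc2, -⟩ := hcx x
      set z := x * c⁻¹ with hz
      have hz1 : (co z).1 = 0 := by
        have := (comul z c).1
        rw [hz, inv_mul_cancel_right, hc1] at this
        linear_combination -this
      have hzχ : χ z = 1 := by
        rw [hz, map_mul, hx, one_mul, map_inv, inv_eq_one]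
        show Multiplicative.ofAdd _ = _
        rw [hc2, ofAdd_zero]
      have hz2' : (co z).2.1 = 0 := by
        have : (co z).2.1 - (co z).1 ^ 2 = 0 := Multiplicative.ofAdd.injective (hzχ.trans ofAdd_zero.symm)
        rw [hz1] at this; simpa using this
      obtain ⟨c', hc'N, hc'1, hc'2, hc'3⟩ := hcx z
      -- the commutator map is a bijection on the last coordinate
      have hzN : (z : ↥F) ∈ N := by
        by_cases hc' : c' = 1
        · rw [hc'3 hz1 hz2' hc']; exact one_mem N
        · rw [hz1] at hc'1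
          rw [hc'1] at hc'2
          have hc2' : (co c').2.1 = 0 := by simpa using hc'2
          have line : ∀ y : U, (co y).1 = 0 → (co y).2.1 = 0 → ((y : ↥F) : GL chevG2.Idx K) =
              six 0 0 0 (co y).2.2 0 (co y).2.2 := fun y a b => by rw [hco y, a, b]; norm_num
          have hsum : ∀ a b : K, six 0 0 0 a 0 a * six 0 0 0 b 0 b = six 0 0 0 (a + b) 0 (a + b) :=
            fun a b => by rw [six_mul]; norm_num
          have hne0 : (co c').2.2 ≠ 0 := fun h0 => hc' (Subtype.ext (Subtype.ext (by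
            rw [line c' hc'1 hc2', h0]; simp [six, G2.checked.xg_zero])))
          have hv : (co z).2.2 = 0 ∨ (co z).2.2 = (co c').2.2 ∨
              (co z).2.2 = (co c').2.2 + (co c').2.2 := by
            have hor : (co z).2.2 / (co c').2.2 = 0 ∨ (co z).2.2 / (co c').2.2 = 1 ∨
                (co z).2.2 / (co c').2.2 = 1 + 1 := by
              by_cases h0 : (co z).2.2 / (co c').2.2 = 0
              · exact Or.inl h0
              right
              have := hz2 (Units.mk0 _ h0)
              rcases sq_eq_one_iff.1 this with h1 | h1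
              · exact Or.inl h1
              · exact Or.inr (h1.trans (by linear_combination -h3))
            rcases hor with h' | h' | h' <;> rw [div_eq_iff hne0] at h'
            · exact Or.inl (by simpa using h')
            · exact Or.inr (Or.inl (by simpa using h'))
            · exact Or.inr (Or.inr (by rw [h']; ring))
          rcases hv with hv | hv | hv
          · rw [show z = 1 from Subtype.ext (Subtype.ext (by
              rw [line z hz1 hz2', hv]; simp [six, G2.checked.xg_zero]))]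
            exact one_mem N
          · rw [show z = c' from Subtype.ext (Subtype.ext (by
              rw [line z hz1 hz2', line c' hc'1 hc2', hv]))]
            exact hc'N
          · rw [show z = c' * c' from Subtype.ext (Subtype.ext (by
              show _ = ((c' : ↥F) : GL chevG2.Idx K) * ((c' : ↥F) : GL chevG2.Idx K)
              rw [line z hz1 hz2', line c' hc'1 hc2', hv, hsum]))]
            exact mul_mem hc'N hc'N
      have := mul_mem hzN hcN
      rwa [← Subgroup.coe_mul, hz, inv_mul_cancel_right] at this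
    intro g hg
    obtain ⟨y, hy, x, hx, rfl⟩ := Subgroup.mem_sup_of_normal_left.1 (htop g)
    refine mul_mem hy (hkerN ⟨x, hx⟩ (hψ' _ ?_))
    have h1 : ψ y = 1 := hNM hy
    have h2 : ψ (y * x) = 1 := hg
    rwa [map_mul, h1, one_mul] at h2
  have hmin : ∀ N : Subgroup ↥F, N.Normal → N ≤ M → N ≠ ⊥ → N = M := fun N hN hle hne =>
    le_antisymm hle ((hkey N hN hne).resolve_right (not_not_intro hle))
  have hcardM : Nat.card ↥M = 504 := by
    have := M.card_mul_index
    rw [hM3, hcardF] at this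
    omega
  haveI : Fact (Nat.Prime 7) := ⟨by norm_num⟩
  have hMs : IsSimpleGroup ↥M := simple_of_minimal_normal (p := 7) M (by rw [hcardM]; norm_num)
    (by rw [hcardM]; norm_num) hmin
  have hle : commutator ↥F ≤ M := Abelianization.commutator_subset_ker ψ
  have heq : commutator ↥F = M := by
    refine hmin _ inferInstance hle fun hbot => ?_
    -- then the group would be abelian
    have hab : ∀ a b : ↥F, a * b = b * a := fun a b => by
      have := Subgroup.commutator_mem_commutator (G := ↥F) (Subgroup.mem_top a) (Subgroup.mem_top b)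
      rw [← commutator_def, hbot, Subgroup.mem_bot] at this
      exact commutatorElement_eq_one_iff_mul_comm.1 this
    have hwB : w ∉ B := fun hw => wZero_not_borel θ hθ hK ((hBmem w).1 hw)
    let x : U := ⟨⟨_, (Subgroup.mem_inf.1 ((mem_unip_iff θ hθ hK _).2 ⟨1, 0, 0, rfl⟩)).2⟩,
      (hUmem _).2 (Subgroup.mem_inf.1 ((mem_unip_iff θ hθ hK _).2 ⟨1, 0, 0, rfl⟩)).1⟩
    have hx1 : x = 1 := hwconj x (by
      rw [hab w⁻¹, inv_mul_cancel_right]; exact hUB x)
    have := congrArg (fun y : U => ((y : ↥F) : GL chevG2.Idx K)) hx1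
    simp only [OneMemClass.coe_one] at this
    rw [← reeWord_zero (K := K) (e := 3 ^ 0) (by norm_num)] at this
    exact one_ne_zero (reeWord_inj this).1
  rw [heq]
  exact ⟨hcardM, hMs⟩

end three

end Cfsg.Agent.Lib.Chev.G2
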