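import Cfsg.Agent.Lib.Chev.TwistG2ReeCent
import Cfsg.Agent.Lib.Chev.TwistG2ReeThree
import Cfsg.Agent.Lib.PSLTwo.QuatStd
import Cfsg.Agent.Lib.PSLTwo.QuatFive
import Cfsg.Agent.Lib.PSLTwo.Tools
import Cfsg.Agent.Lib.Classical.SLTwoSylow

/-!
Sylow 2-subgroups from a centraliser of an involution of shape `2 × PSL₂(q)`.
-/

set_option autoImplicit false

namespace Cfsg.Agent.Lib.Chev.G2

open Cfsg.Agent.Lib Cfsg.Agent.Lib.PSLTwo
open scoped MatrixGroups Pointwise

theorem zmod_two_cases (n : Multiplicative (ZMod 2)) : n = 1 ∨ n = Multiplicative.ofAdd 1 := by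
  revert n; decide

theorem zmod_two_sq (n : Multiplicative (ZMod 2)) : n * n = 1 := by
  revert n; decide

theorem zmod_two_ne : Multiplicative.ofAdd (1 : ZMod 2) ≠ 1 := by decide

/-- The four-group of `PSL₂(q)`, `q ≡ 3, 5 (mod 8)`. -/
theorem psl_four_group {F : Type*} [Field F] [Fintype F]
    (hq : Fintype.card F % 8 = 3 ∨ Fintype.card F % 8 = 5) :
    ∃ V : Subgroup (Matrix.ProjectiveSpecialLinearGroup (Fin 2) F),
      Nat.card V = 4 ∧ (∀ v ∈ V, v * v = 1) ∧ (∀ x, (∀ v ∈ V, x * v = v * x) → x ∈ V) ∧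
      Nat.card (Subgroup.normalizer (V : Set (Matrix.ProjectiveSpecialLinearGroup (Fin 2) F))) = 12 ∧
      ∀ v ∈ V, ∀ v' ∈ V, v ≠ 1 → v' ≠ 1 →
        ∃ n ∈ Subgroup.normalizer (V : Set (Matrix.ProjectiveSpecialLinearGroup (Fin 2) F)), n * v * n⁻¹ = v' := by
  classical
  have hodd : Odd (Fintype.card F) := Nat.odd_iff.2 (by omega)
  have h2 : (2 : F) ≠ 0 := Ring.two_ne_zero fun h => by
    have := (FiniteField.even_card_iff_char_two).1 h
    omega
  obtain ⟨x, y, hxy⟩ := exists_sum_sq_neg_one F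
  set V := (qV hxy).comap (toP F)
  have hmap : V.map (toP F) = qV hxy := map_comap_toP (qV_le_Lsub hxy)
  have hcard : Nat.card V = 4 := by
    rw [← card_qV hxy h2, ← hmap, Subgroup.card_map_of_injective toP_injective]
  have hcent : ∀ g, (∀ v ∈ V, g * v = v * g) → g ∈ V := fun g hg => by
    refine centralizer_qV hxy h2 fun v hv => ?_
    rw [← hmap] at hv
    obtain ⟨v', hv', rfl⟩ := hv
    rw [← map_mul, ← map_mul, hg v' hv']
  obtain ⟨w, hw⟩ : ∃ w, toP F w = qW hxy h2 := by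
    rw [← MonoidHom.mem_range]
    exact (Lsub_eq_toPGL (F := F)) ▸ qW_mem_Lsub hxy h2
  set N := Subgroup.normalizer (V : Set (Matrix.ProjectiveSpecialLinearGroup (Fin 2) F))
  have hwN : w ∈ N := by
    rw [Subgroup.mem_normalizer_iff]
    intro v
    show toP F v ∈ qV hxy ↔ toP F (w * v * w⁻¹) ∈ qV hxy
    rw [map_mul, map_mul, map_inv, hw]
    exact Subgroup.mem_normalizer_iff.1 (qW_mem_qN hxy h2) _
  have hN24 : Nat.card N ∣ 24 := by
    refine (Subgroup.card_dvd_of_injective ((toP F).subgroupMap N) ?_).trans ?_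
    · intro a b hab
      exact Subtype.ext (toP_injective (congrArg Subtype.val hab))
    refine (Subgroup.card_dvd_of_le ?_).trans
      (card_normalizer_klein_dvd (card_qV hxy h2) fun g hg => centralizer_qV hxy h2 hg)
    rw [← hmap]
    exact Subgroup.le_normalizer_map (toP F)
  have h4 : 4 ∣ Nat.card N := hcard ▸ Subgroup.card_dvd_of_le Subgroup.le_normalizer
  have h3 : 3 ∣ Nat.card N := by
    have : orderOf w = 3 := by
      haveI : Fact (Nat.Prime 3) := ⟨Nat.prime_three⟩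
      refine orderOf_eq_prime (toP_injective ?_) fun h => qI_ne_qJ hxy h2 ?_
      · rw [map_pow, map_one, hw, qW_cube]
      · have h1 : qW hxy h2 = 1 := by rw [← hw, h, map_one]
        have h5 := qW_conj_qI hxy h2
        have h6 := qW_conj_qJ hxy h2
        rw [h1, one_mul, mul_one] at h5 h6
        exact h6.symm
    rw [← this]
    exact N.orderOf_dvd_natCard hwN
  have h8 : ¬ 8 ∣ Nat.card N := fun h => by
    haveI : Fact (Nat.Prime 2) := ⟨Nat.prime_two⟩
    obtain ⟨P⟩ : Nonempty (Sylow 2 (Matrix.ProjectiveSpecialLinearGroup (Fin 2) F)) := inferInstance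
    have hP := (Classical.psl_two_sylow_klein rfl hq P).card_four
    have h8' : (2 : ℕ) ^ 3 ∣ Nat.card (Matrix.ProjectiveSpecialLinearGroup (Fin 2) F) :=
      h.trans (Subgroup.card_subgroup_dvd_card N)
    have := P.pow_dvd_card_of_pow_dvd_card h8'
    rw [hP] at this
    norm_num at this
  have h12 : Nat.card N = 12 := by
    generalize Nat.card N = n at hN24 h4 h3 h8
    have := Nat.le_of_dvd (by norm_num) hN24
    interval_cases n <;> first | rfl | omega
  refine ⟨V, hcard, fun v hv => toP_injective (by rw [map_mul, map_one]; exact qV_sq hxy hv), hcent, h12, ?_⟩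
  have hk : qW hxy h2 * qI hxy * (qW hxy h2)⁻¹ = qK hxy := by
    rw [qW_conj_qI, mul_inv_cancel_right]
  have hj : qW hxy h2 * qJ hxy * (qW hxy h2)⁻¹ = qI hxy := by
    rw [qW_conj_qJ, mul_inv_cancel_right]
  have reach : ∀ v ∈ V, v ≠ 1 → ∃ n ∈ N, toP F (n * v * n⁻¹) = qI hxy := by
    intro v hv hv1
    have hne : toP F v ≠ 1 := fun h => hv1 (toP_injective (h.trans (map_one (toP F)).symm))
    rcases (mem_qV hxy).1 hv with h | h | h | h
    · exact absurd h hne
    · exact ⟨1, one_mem _, by simpa using h⟩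
    · exact ⟨w, hwN, by rw [map_mul, map_mul, map_inv, hw, h, hj]⟩
    · refine ⟨w⁻¹, inv_mem hwN, ?_⟩
      simp only [map_mul, map_inv, inv_inv, hw, h]
      rw [← hk]
      group
  intro v hv v' hv' h1 h1'
  obtain ⟨n, hn, e⟩ := reach v hv h1
  obtain ⟨n', hn', e'⟩ := reach v' hv' h1'
  refine ⟨n'⁻¹ * n, mul_mem (inv_mem hn') hn, toP_injective ?_⟩
  have e2 : n'⁻¹ * n * v * (n'⁻¹ * n)⁻¹ = n'⁻¹ * (n * v * n⁻¹) * n' := by group
  rw [e2, map_mul, map_mul, map_inv, e, ← e']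
  simp [mul_assoc]

/-- Sylow 2-subgroups and their normalisers. -/
theorem sylow_two_facts {G L : Type*} [Group G] [Finite G] [Group L] (a : G)
    (e : ↥(Subgroup.centralizer ({a} : Set G)) ≃* Multiplicative (ZMod 2) × L)
    (he : e ⟨a, Subgroup.mem_centralizer_singleton_iff.2 rfl⟩ = (Multiplicative.ofAdd 1, 1))
    (V : Subgroup L) (hV4 : Nat.card V = 4) (hVsq : ∀ v ∈ V, v * v = 1)
    (hVC : ∀ x, (∀ v ∈ V, x * v = v * x) → x ∈ V)
    (hVN : Nat.card (Subgroup.normalizer (V : Set L)) = 12)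
    (hVt : ∀ v ∈ V, ∀ v' ∈ V, v ≠ 1 → v' ≠ 1 →
      ∃ n ∈ Subgroup.normalizer (V : Set L), n * v * n⁻¹ = v')
    (h16 : ¬ 16 ∣ Nat.card G) :
    (∀ S : Sylow 2 G, Nat.card S = 8 ∧ ∀ x ∈ S, x * x = 1) ∧
      (commutator G = ⊤ → ∀ S : Sylow 2 G,
        Subgroup.centralizer ((S : Subgroup G) : Set G) = S ∧
          Nat.card (Subgroup.normalizer ((S : Subgroup G) : Set G)) = 168) := by
  classical
  haveI : Fact (Nat.Prime 2) := ⟨Nat.prime_two⟩
  revert e he
  set Z := Subgroup.centralizer ({a} : Set G)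
  intro e he
  let ι : Multiplicative (ZMod 2) × L →* G := Z.subtype.comp e.symm.toMonoidHom
  have ιinj : Function.Injective ι := Subtype.val_injective.comp e.symm.injective
  have ιa : ι (Multiplicative.ofAdd 1, 1) = a := by
    show ((e.symm _ : Z) : G) = a
    rw [← he, MulEquiv.symm_apply_apply]
  have ιZ : ∀ p, ι p ∈ Z := fun p => (e.symm p).2
  have ιsurj : ∀ z ∈ Z, ∃ p, ι p = z := fun z hz =>
    ⟨e ⟨z, hz⟩, congrArg Subtype.val (e.symm_apply_apply ⟨z, hz⟩)⟩
  have htwo := zmod_two_cases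
  have hsq2 := zmod_two_sq
  let S₀ : Subgroup G := ((⊤ : Subgroup (Multiplicative (ZMod 2))).prod V).map ι
  have memS : ∀ p, ι p ∈ S₀ ↔ p.2 ∈ V := fun p => by
    rw [Subgroup.mem_map_iff_mem ιinj, Subgroup.mem_prod]
    simp
  have S0ex : ∀ x ∈ S₀, ∃ p, p.2 ∈ V ∧ ι p = x := fun x hx => by
    obtain ⟨p, hp, rfl⟩ := hx
    exact ⟨p, (Subgroup.mem_prod.1 hp).2, rfl⟩
  have hc0 : Nat.card S₀ = 2 ^ 3 := by
    rw [Subgroup.card_map_of_injective ιinj, Nat.card_congr (Subgroup.prodEquiv _ _).toEquiv,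
      Nat.card_prod, Subgroup.card_top, hV4, Nat.card_eq_fintype_card]
    rfl
  have hidx : ¬ 2 ∣ S₀.index := fun h => h16 (by
    rw [← S₀.card_mul_index, hc0, show 16 = 2 ^ 3 * 2 by norm_num]
    exact Nat.mul_dvd_mul_left _ h)
  let P₀ : Sylow 2 G := (IsPGroup.of_card hc0).toSylow hidx
  have hP₀ : (P₀ : Subgroup G) = S₀ := rfl
  have hsq : ∀ x ∈ S₀, x * x = 1 := fun x hx => by
    obtain ⟨p, hp, rfl⟩ := S0ex x hx
    rw [← map_mul, show p * p = 1 from Prod.ext (hsq2 _) (hVsq _ hp), map_one]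
  have hconj : ∀ (g x : G), x ∈ (g • P₀ : Sylow 2 G) ↔ g⁻¹ * x * g ∈ S₀ := fun g x => by
    show x ∈ MulAut.conj g • (P₀ : Subgroup G) ↔ _
    rw [Subgroup.mem_pointwise_smul_iff_inv_smul_mem, hP₀]
    simp [MulAut.smul_def]
  refine ⟨fun S => ?_, fun hperf S => ?_⟩
  · obtain ⟨g, rfl⟩ := MulAction.exists_smul_eq G P₀ S
    refine ⟨?_, fun x hx => ?_⟩
    · rw [← Nat.card_congr (P₀.equivSMul g).toEquiv]
      exact hc0
    · have h := hsq _ ((hconj g x).1 hx)
      have h2 := congrArg (fun t => g * t * g⁻¹) h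
      simpa [mul_assoc] using h2
  have haS : a ∈ S₀ := ιa ▸ (memS _).2 (one_mem V)
  have hC0 : ∀ x, (∀ y ∈ S₀, x * y = y * x) → x ∈ S₀ := fun x hx => by
    obtain ⟨p, rfl⟩ := ιsurj x (Subgroup.mem_centralizer_singleton_iff.2 (hx a haS))
    refine (memS p).2 (hVC _ fun v hv => ?_)
    have h := hx _ ((memS (1, v)).2 hv)
    rw [← map_mul, ← map_mul] at h
    exact congrArg Prod.snd (ιinj h)
  have habel : ∀ x ∈ S₀, ∀ y ∈ S₀, x * y = y * x := fun x hx y hy => by
    have hinv : ∀ z ∈ S₀, z⁻¹ = z := fun z hz => inv_eq_of_mul_eq_one_right (hsq z hz)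
    have h := hinv _ (mul_mem hx hy)
    rw [mul_inv_rev, hinv x hx, hinv y hy] at h
    exact h.symm
  set N := Subgroup.normalizer (S₀ : Set G)
  -- the stabiliser of `a`
  let St : Subgroup N := Z.subgroupOf N
  have memN : ∀ p, ι p ∈ N ↔ p.2 ∈ Subgroup.normalizer (V : Set L) := by
    intro p
    rw [Subgroup.mem_normalizer_iff, Subgroup.mem_normalizer_iff]
    constructor
    · intro h v
      have := h (ι (1, v))
      rw [← map_inv, ← map_mul, ← map_mul, memS, memS] at this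
      exact this
    · intro h x
      constructor
      · intro hx
        obtain ⟨q, hq, rfl⟩ := S0ex x hx
        rw [← map_inv, ← map_mul, ← map_mul, memS]
        exact (h q.2).1 hq
      · intro hx
        obtain ⟨q, hq, e'⟩ := S0ex _ hx
        rw [show x = (ι p)⁻¹ * ι q * ι p by rw [e']; group, ← map_inv, ← map_mul, ← map_mul, memS]
        refine (h _).2 ?_
        simpa [mul_assoc] using hq
  have hStcard : Nat.card St = 24 := by
    have hf : Function.Bijective (fun p : Multiplicative (ZMod 2) × Subgroup.normalizer (V : Set L) =>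
        (⟨⟨ι (p.1, p.2), (memN _).2 p.2.2⟩, ιZ _⟩ : St)) := by
      constructor
      · intro p q h
        have := ιinj (congrArg (fun z : St => ((z : N) : G)) h)
        exact Prod.ext (congrArg Prod.fst this :) (Subtype.ext (congrArg Prod.snd this :))
      · rintro ⟨⟨z, hzN⟩, hzZ⟩
        obtain ⟨p, rfl⟩ := ιsurj z hzZ
        exact ⟨(p.1, ⟨p.2, (memN p).1 hzN⟩), rfl⟩
    rw [← Nat.card_congr (Equiv.ofBijective _ hf), Nat.card_prod, hVN, Nat.card_eq_fintype_card]
    rfl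
  let orb : N ⧸ St → G := fun q => Quotient.liftOn' q (fun n => (n : G) * a * (n : G)⁻¹) fun n n' h => by
    have hz : ((n : G))⁻¹ * n' ∈ Z := (QuotientGroup.leftRel_apply.1 h : n⁻¹ * n' ∈ St)
    calc (n : G) * a * (n : G)⁻¹ = n * (a * ((n : G)⁻¹ * n')) * (n' : G)⁻¹ := by group
      _ = _ := by rw [← Subgroup.mem_centralizer_singleton_iff.1 hz]; group
  have horbinj : Function.Injective orb := by
    intro q q'
    refine Quotient.inductionOn₂' q q' fun n n' h => Quotient.sound' (QuotientGroup.leftRel_apply.2 ?_)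
    have h' : (n : G) * a * (n : G)⁻¹ = n' * a * (n' : G)⁻¹ := h
    show ((n : G))⁻¹ * n' ∈ Z
    rw [Subgroup.mem_centralizer_singleton_iff]
    calc (n : G)⁻¹ * n' * a = (n : G)⁻¹ * (n' * a * (n' : G)⁻¹) * n' := by group
      _ = _ := by rw [← h']; group
  set P : Set (Multiplicative (ZMod 2) × L) := ι ⁻¹' Set.range orb
  have hO : ∀ x ∈ Set.range orb, x ∈ S₀ ∧ x ≠ 1 := by
    rintro _ ⟨q, rfl⟩
    refine Quotient.inductionOn' q fun n => ?_
    refine ⟨(Subgroup.mem_normalizer_iff.1 n.2 a).1 haS, fun h => ?_⟩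
    rw [show orb _ = (n : G) * a * (n : G)⁻¹ from rfl, conj_eq_one_iff] at h
    rw [h] at ιa
    exact absurd (congrArg Prod.fst (ιinj (ιa.trans (map_one ι).symm))) zmod_two_ne
  have hsub : Set.range orb ⊆ Set.range ι := fun x hx => by
    obtain ⟨p, -, rfl⟩ := S0ex x (hO x hx).1
    exact ⟨p, rfl⟩
  have hcardP : P.ncard = St.index := by
    rw [Set.ncard_preimage_of_injective_subset_range ιinj hsub, ← Nat.card_coe_set_eq,
      Nat.card_range_of_injective horbinj, Subgroup.index]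
  have hPa : (Multiplicative.ofAdd (1 : ZMod 2), (1 : L)) ∈ P :=
    ⟨QuotientGroup.mk 1, by
      show ((1 : N) : G) * a * ((1 : N) : G)⁻¹ = _
      rw [ιa]; simp⟩
  have hPclosed : ∀ ε v, (ε, v) ∈ P → ∀ n ∈ Subgroup.normalizer (V : Set L),
      (ε, n * v * n⁻¹) ∈ P := by
    rintro ε v ⟨q, hq⟩ n hn
    obtain ⟨k, rfl⟩ := QuotientGroup.mk_surjective q
    refine ⟨QuotientGroup.mk (⟨ι (1, n), (memN _).2 hn⟩ * k), ?_⟩
    show ι (1, n) * (k : G) * a * (ι (1, n) * (k : G))⁻¹ = _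
    have hq' : (k : G) * a * (k : G)⁻¹ = ι (ε, v) := hq
    calc _ = ι (1, n) * ((k : G) * a * (k : G)⁻¹) * (ι (1, n))⁻¹ := by group
      _ = _ := by rw [hq', ← map_inv, ← map_mul, ← map_mul]; congr 1; simp
  set A : Set (Multiplicative (ZMod 2)) := {ε | ∃ v, v ≠ 1 ∧ (ε, v) ∈ P}
  have hPeq : P = insert (Multiplicative.ofAdd (1 : ZMod 2), (1 : L)) (A ×ˢ ((V : Set L) \ {1})) := by
    ext ⟨ε, v⟩
    constructor
    · intro hp
      obtain ⟨h1, h2⟩ := hO _ hp
      have hv := (memS (ε, v)).1 h1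
      by_cases hv1 : v = 1
      · subst hv1
        rcases htwo ε with rfl | rfl
        · exact absurd (show ι (1, 1) = 1 from map_one ι) h2
        · exact Or.inl rfl
      · exact Or.inr ⟨⟨v, hv1, hp⟩, hv, hv1⟩
    · rintro (h | ⟨⟨u, hu1, hu⟩, hv, hv1⟩)
      · rw [h]; exact hPa
      · obtain ⟨n, hn, rfl⟩ := hVt u ((memS (ε, u)).1 (hO _ hu).1) v hv hu1 hv1
        exact hPclosed ε u hu n hn
  have hfinV : ((V : Set L) \ {1}).Finite := by
    haveI : Finite V := Nat.finite_of_card_ne_zero (by rw [hV4]; norm_num)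
    exact (Set.toFinite (V : Set L)).diff
  have hcount : P.ncard = A.ncard * 3 + 1 := by
    rw [hPeq, Set.ncard_insert_of_notMem (fun h => h.2.2 (Set.mem_singleton _)) ((Set.toFinite A).prod hfinV),
      Set.ncard_prod, Set.ncard_diff_singleton_of_mem (one_mem V), ← Nat.card_coe_set_eq (V : Set L)]
    show _ * (Nat.card V - 1) + 1 = _
    rw [hV4]
  have hNodd : Odd St.index := by
    rw [← Nat.not_even_iff_odd]
    intro h
    refine h16 (dvd_trans ?_ (Subgroup.card_subgroup_dvd_card N))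
    rw [← St.card_mul_index, hStcard]
    obtain ⟨k, hk⟩ := h
    exact ⟨3 * k, by rw [hk]; ring⟩
  -- the orbit is not a single point
  have hne : St.index ≠ 1 := by
    intro h1
    have hNZ : ∀ n ∈ N, n ∈ Z := fun n hn => by
      have := Subgroup.index_eq_one.1 h1
      exact (this ▸ Subgroup.mem_top (⟨n, hn⟩ : N) : (⟨n, hn⟩ : N) ∈ St)
    have hS0Z : ∀ x ∈ S₀, x ∈ Z := fun x hx => by
      obtain ⟨p, -, rfl⟩ := S0ex x hx
      exact ιZ p
    let ρ : S₀ →* Multiplicative (ZMod 2) :=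
      (MonoidHom.fst _ _).comp (e.toMonoidHom.comp (Subgroup.inclusion hS0Z))
    have hρ : ∀ (x : S₀) p, ι p = x → ρ x = p.1 := fun x p hp => by
      show (e ⟨x, _⟩).1 = p.1
      rw [show (⟨(x : G), hS0Z _ x.2⟩ : Z) = e.symm p from Subtype.ext hp.symm, e.apply_symm_apply]
    haveI : IsMulCommutative (P₀ : Subgroup G) := ⟨⟨fun x y => Subtype.ext (habel _ x.2 _ y.2)⟩⟩
    have htr := transfer_eq_pow_index ρ ⟨a, haS⟩ fun k g hg => by
      rw [← map_pow]
      obtain ⟨n, hn, en⟩ := P₀.conj_eq_normalizer_conj_of_mem (a ^ k) g (pow_mem haS k) hg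
      obtain ⟨p, hp⟩ := ιsurj n (hNZ n hn)
      obtain ⟨q, -, hq⟩ := S0ex _ (pow_mem haS k)
      rw [hρ ((⟨a, haS⟩ : S₀) ^ k) q hq,
        hρ ⟨_, hg⟩ (p⁻¹ * q * p) (by rw [map_mul, map_mul, map_inv, hp, hq]; exact en.symm)]
      show p.1⁻¹ * q.1 * p.1 = q.1
      rw [mul_comm p.1⁻¹, inv_mul_cancel_right]
    have hker := Abelianization.commutator_subset_ker (MonoidHom.transfer ρ) (hperf ▸ Subgroup.mem_top a)
    rw [MonoidHom.mem_ker, htr, hρ ⟨a, haS⟩ (Multiplicative.ofAdd 1, 1) ιa] at hker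
    obtain ⟨k, hk⟩ := Nat.odd_iff.2 (Nat.two_dvd_ne_zero.1 hidx)
    rw [hk, pow_succ, pow_mul, sq, hsq2, one_pow, one_mul] at hker
    exact zmod_two_ne hker
  have h7 : St.index = 7 := by
    have hA : A.ncard ≤ 2 := (Set.ncard_le_card A).trans (by simp [Nat.card_eq_fintype_card])
    have h := hcardP.symm.trans hcount
    rw [Nat.odd_iff] at hNodd
    interval_cases hA' : A.ncard <;> omega
  have hN168 : Nat.card N = 168 := by rw [← St.card_mul_index, hStcard, h7]
  -- transfer to all Sylow subgroups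
  obtain ⟨g, rfl⟩ := MulAction.exists_smul_eq G P₀ S
  refine ⟨?_, ?_⟩
  · ext x
    rw [Subgroup.mem_centralizer_iff]
    constructor
    · intro hx
      refine (hconj g x).2 (hC0 _ fun y hy => ?_)
      have h := hx (g * y * g⁻¹) ((hconj g _).2 (by simpa [mul_assoc] using hy))
      calc g⁻¹ * x * g * y = g⁻¹ * (x * (g * y * g⁻¹)) * g := by group
        _ = _ := by rw [← h]; group
    · intro hx y hy
      have h := habel _ ((hconj g y).1 hy) _ ((hconj g x).1 hx)
      calc y * x = g * ((g⁻¹ * y * g) * (g⁻¹ * x * g)) * g⁻¹ := by group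
        _ = _ := by rw [h]; group
  · rw [← hN168]
    refine Nat.card_congr (Equiv.subtypeEquiv (MulAut.conj g⁻¹).toEquiv fun x => ?_)
    show x ∈ Subgroup.normalizer ((g • P₀ : Sylow 2 G) : Set G) ↔
      g⁻¹ * x * g⁻¹⁻¹ ∈ Subgroup.normalizer ((P₀ : Sylow 2 G) : Set G)
    rw [← Sylow.smul_eq_iff_mem_normalizer]
    show x • g • P₀ = g • P₀ ↔ g⁻¹ * x * g⁻¹⁻¹ ∈ Subgroup.normalizer ((P₀ : Subgroup G) : Set G)
    rw [inv_inv]
    refine Iff.trans ?_ Sylow.smul_eq_iff_mem_normalizer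
    rw [mul_smul, mul_smul, inv_smul_eq_iff]

section ree

open Cfsg.Lie Cfsg.Agent.Lib.Chev

variable {K : Type*} [Field K] [Fintype K] [CharP K 3] (θ : K ≃+* K) {m : ℕ}
  (hθ : ∀ t : K, θ t = t ^ 3 ^ m) (hK : Fintype.card K = 3 ^ (2 * m + 1))
include hθ hK

/-- The facts on Sylow 2-subgroups of the twisted group of type `G₂`. -/
theorem ree_sylow_two :
    (∀ S : Sylow 2 ↥(reeTwist θ).fixed, Nat.card S = 8 ∧ ∀ x ∈ S, x * x = 1) ∧
      (commutator ↥(reeTwist θ).fixed = ⊤ → ∀ S : Sylow 2 ↥(reeTwist θ).fixed,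
        Subgroup.centralizer ((S : Subgroup ↥(reeTwist θ).fixed) : Set ↥(reeTwist θ).fixed) = S ∧
          Nat.card (Subgroup.normalizer ((S : Subgroup ↥(reeTwist θ).fixed) :
            Set ↥(reeTwist θ).fixed)) = 168) := by
  classical
  have hq8 : 3 ^ (2 * m + 1) % 8 = 3 := by
    rw [pow_succ, pow_mul, Nat.mul_mod, Nat.pow_mod]
    norm_num
  have h16 : ¬ 16 ∣ Nat.card ↥(reeTwist θ).fixed := by
    have hc := card_ree θ hθ hK
    rw [eq_fixed θ hθ hK] at hc
    rw [hc]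
    generalize 3 ^ (2 * m + 1) = q at hq8
    intro h
    have : ((q ^ 3 * (q - 1) * (q ^ 3 + 1) : ℕ) : ZMod 16) = 0 := (ZMod.natCast_eq_zero_iff _ _).2 h
    obtain ⟨j, rfl⟩ : ∃ j, q = 8 * j + 3 := ⟨q / 8, by omega⟩
    rw [show 8 * j + 3 - 1 = 8 * j + 2 by omega] at this
    push_cast at this
    exact (by decide : ∀ x : ZMod 16, (8 * x + 3) ^ 3 * (8 * x + 2) * ((8 * x + 3) ^ 3 + 1) ≠ 0) _ this
  obtain ⟨ζ, hζ, -⟩ := exists_torusHom θ hθ hK
  obtain ⟨d, hd⟩ := hζ.2 (-1)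
  let a : ↥(reeTwist θ).fixed := ⟨d.1, (Subgroup.mem_inf.1 d.2).2⟩
  have ha1 : a ≠ 1 := fun h => by
    have h1 : d = 1 := Subtype.ext (congrArg Subtype.val h :)
    rw [h1, map_one] at hd
    have h3 : (3 : K) = 0 := CharP.ofNat_eq_zero K 3
    have h' : (1 : K) = -1 := by simpa using congrArg Units.val hd
    exact one_ne_zero (by linear_combination -h' + h3 : (1 : K) = 0)
  have ha2 : a * a = 1 := by
    have h1 : d * d = 1 := hζ.1 (by rw [map_mul, hd, map_one, neg_one_mul, neg_neg])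
    exact Subtype.ext (congrArg Subtype.val h1 :)
  obtain ⟨e, he⟩ := centralizer_involution θ hθ hK a (Subgroup.mem_inf.1 d.2).1 ha1 ha2
  obtain ⟨V, h4, hsq, hC, hN, ht⟩ := psl_four_group (F := K) (by rw [hK]; exact Or.inl hq8)
  exact sylow_two_facts a e he V h4 hsq hC hN ht h16

end ree

end Cfsg.Agent.Lib.Chev.G2
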